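import Cfsg.Agent.Mrg.Omega.OM.SwapV.LowZ
import Cfsg.Agent.Mrg.Omega.NOThreeL.RTree
import Cfsg.Agent.Mrg.Omega.OM.Swap.End
import Cfsg.Agent.Mrg.Omega.OM.Swap.Facts
import Cfsg.Agent.Mrg.Omega.FF.GlobEnd
import Cfsg.Agent.Mrg.Omega.OM.SwapV.Lv.Frame
import Cfsg.Agent.Mrg.Omega.OM.SwapL.Main
import Cfsg.Agent.Mrg.Omega.NOThreeL.RRed.BFr.Noff
import Cfsg.Agent.Mrg.Omega.NOThreeL.RRed.Base
import Cfsg.Agent.Mrg.Omega.OM.Lev.SMin
import Cfsg.Agent.Mrg.Omega.OM.Var.UniPlusV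
import Cfsg.Agent.Mrg.Omega.OM.SwapV.Q.Main
import Cfsg.Agent.Mrg.Omega.OM.Lev.Low.TorusK.Inst

-- merged: Cfsg.Agent.Mrg.Omega.NOThreeL.RRed.BFr.NlLev
section

/-!
# NO-3L, box R: `⟨C_G(Z_J), L i⟩` is nonlocal, stage `n ≥ 0`

`B = C_S(Z_J)`, `Z_J = Ω₁Z(lev S (n+1))`, the frame `LnV S V Q n L W Z C A` (any module `V`, `q = 2`, any `S`-orbits of
blocks), `lev S n ≤ O₂(R)` for all `R ∈ P*(S)`.

* `nl` : in box R no 2-group `≠ 1` is normalised by `C_G(Z_J)` and all `L i`.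
-/

set_option autoImplicit false
set_option linter.unusedSectionVars false

namespace Cfsg.Agent.Omega.NOThreeL.RRed.BFr.NlLev

open Subgroup Cfsg Cfsg.Agent.Omega.MinPar Cfsg.Agent.Omega.Frame Cfsg.Agent.ZN.ChoiceBase Cfsg.Agent.ZN.ChoiceSit
open Cfsg.Agent.ZN (zc o2)
open Cfsg.Agent.Omega.NO3S.Level (lev)
open Cfsg.Agent.Omega.OM.SwapL (ZL BL lb)
open Cfsg.Agent.Omega.OM.SwapV.Lv
open Cfsg.Agent.Omega.NOThreeL.RTree (RB)

universe u

variable {G : Type u} [Group G] [Finite G] {ι : Type} [Finite ι] {S : Sylow 2 G} {V Q : Subgroup G} {n : ℕ}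
  {L W Z C A : ι → Subgroup G}

/-- **No 2-group `≠ 1` is normalised by `C_G(Z_J)` and all `L i`.** -/
theorem nl (B : RB S) (hall : ∀ R : Subgroup G, IsParS (S : Subgroup G) R → lev (S : Subgroup G) n ≤ o2 R)
    (h : LnV S V Q n L W Z C A) {R : Subgroup G} (hR : IsPGroup 2 R)
    (hD : centralizer (ZL (S : Subgroup G) n : Set G) ≤ normalizer (R : Set G))
    (hL : ∀ i, L i ≤ normalizer (R : Set G)) : R = ⊥ := by
  by_contra hR1
  obtain ⟨O, hO2, hO1, -, hDO, -, hNO, hY, hH⟩ := nonLocZ h hR hR1 hD hL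
  obtain ⟨c, hcJ, hcf⟩ := exists_full h
  have hG := B.ctx.char2
  refine hO1 (FrameNOFF.eq_bot_of_norm B.ctx S B.full hO2 (fun P hP => ?_) ?_)
  · have hP' : IsParS (S : Subgroup G) P := hP
    by_cases h1 : lev (S : Subgroup G) (n + 1) ≤ o2 P
    · exact ((le_normalizer_o2 P).trans ((lb S n).nrm _ (isPGroup_o2 P) h1)).trans
        ((lb S n).norm_zj_le.trans (sup_le hDO hNO))
    · exact hY S P ⟨hP'.le, S.isPGroup', fun Q _ hQ hle => S.is_maximal' hQ hle⟩ (lb S n).BS hP'.toIsMinPar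
        (hP'.isLoc.char2 S hG) (hall P hP') h1 fun hc => hP'.not_zc (hc.trans (centralizer_le_normalizer _))
  · have h1 := isLoc_centralizer_zc S (B.ctx.sylow_ne_bot S)
    have hcS : c ∈ zc (S : Subgroup G) := by
      refine mem_zc.2 ⟨(lb S n).BS ((lb S n).ZB hcJ), (lb S n).sq c hcJ, fun s hs => ?_⟩
      exact full_cent h hcJ hcf S.isPGroup' (lb S n).BS hs
    exact hH c hcJ hcf _ ((lb S n).BS.trans h1.le) (centralizer_le (Set.singleton_subset_iff.2 hcS)) (h1.char2 S hG)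

end Cfsg.Agent.Omega.NOThreeL.RRed.BFr.NlLev

end

-- merged: Cfsg.Agent.Mrg.Omega.OM.SwapV.NegMain
section

/-!
# THEOREM SW, stage `-1`, over an abstract line `V` (box R, bb #24115): unconditional forms

* `mf` : the module facts; **`le_char2`**, **`nonLoc`**, **`loc_le`**.
-/

set_option autoImplicit false

namespace Cfsg.Agent.Omega.OM.SwapV.NegMain

open Subgroup Cfsg Cfsg.Agent.ZN.ChoiceBase Cfsg.Agent.ZN.ChoiceSit
open Cfsg.Agent.ZN (jj zj bau zc zl o2)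
open Cfsg.Agent.Omega.OM.Dich (K0)
open Cfsg.Agent.Omega.OM.BlkGen (FBlk)
open Cfsg.Agent.Omega.OM.SwapV.NegPair (LineV)
open Cfsg.Agent.Omega.OM.Swap (MF)

universe u

variable {G : Type u} [Group G] [Finite G] {ι : Type} [Finite ι] {S : Sylow 2 G} {Q V : Subgroup G}
  {L W Z C A : ι → Subgroup G}

/-- the module facts -/
theorem mf (h : LineV S Q V L W Z C A 2) : MF (S : Subgroup G) L W Z where
  act := fun _ hX _ ha _ _ hx _ hz hz1 => Swap.act_AA h.fr hz hz1 hX ha hx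
  hat := fun _ hX _ hi => Swap.hat_AA h.fr hX hi
  conj := fun r x hx => by
    obtain ⟨g, hg, hgx⟩ := Swap.conj_ZJ h.fr r hx
    exact ⟨g, hg, (iSup₂_le fun i _ => h.fr.Z_le i : (⨆ i ∈ r, Z i) ≤ zj (S : Subgroup G)) hgx⟩

/-- **THEOREM SW** -/
theorem le_char2 (h : LineV S Q V L W Z C A 2) {M H : Subgroup G}
    (hK : K0 (S : Subgroup G) (FBlk (S : Subgroup G)) ≤ M) (hN : normalizer (bau (S : Subgroup G) : Set G) ≤ M)
    (hB : bau (S : Subgroup G) ≤ H) (hc : H ⊓ centralizer (o2 H : Set G) ≤ o2 H) : H ≤ M :=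
  NegPlug.le_of_char2 h (mf h) FF.Glob.ffthm FF.Glob.aStmt hK hN hB hc

/-- **THEOREM SW** for 2-local subgroups -/
theorem loc_le (h : LineV S Q V L W Z C A 2) {M H : Subgroup G}
    (hK : K0 (S : Subgroup G) (FBlk (S : Subgroup G)) ≤ M) (hN : normalizer (bau (S : Subgroup G) : Set G) ≤ M)
    (hB : bau (S : Subgroup G) ≤ H) (ho : o2 H ≠ ⊥) : H ≤ M :=
  (le_normalizer_o2 H).trans (le_char2 h hK hN (hB.trans (le_normalizer_o2 H))
    (self_cent h.ch ⟨o2 H, isPGroup_o2 H, ho, rfl⟩))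

/-- **(Om)**: if `K0` normalises a nontrivial 2-group, then `M = N_G(O₂(K0))` is local and contains everything of
characteristic 2 over `B`. -/
theorem nonLoc (h : LineV S Q V L W Z C A 2) {R : Subgroup G} (hR : IsPGroup 2 R) (hR1 : R ≠ ⊥)
    (hRK : K0 (S : Subgroup G) (FBlk (S : Subgroup G)) ≤ normalizer (R : Set G)) :
    ∃ M : Subgroup G, M = normalizer (o2 (K0 (S : Subgroup G) (FBlk (S : Subgroup G))) : Set G) ∧
      o2 (K0 (S : Subgroup G) (FBlk (S : Subgroup G))) ≠ ⊥ ∧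
      o2 (K0 (S : Subgroup G) (FBlk (S : Subgroup G))) ≤ bau (S : Subgroup G) ∧
      K0 (S : Subgroup G) (FBlk (S : Subgroup G)) ≤ M ∧
      centralizer (zj (S : Subgroup G) : Set G) ≤ M ∧ (∀ L V, FBlk (S : Subgroup G) L V → L ≤ M) ∧
      normalizer (bau (S : Subgroup G) : Set G) ≤ M ∧ (S : Subgroup G) ≤ M ∧
      ∀ H : Subgroup G, bau (S : Subgroup G) ≤ H → H ⊓ centralizer (o2 H : Set G) ≤ o2 H → H ≤ M :=
  NegPlug.nonLoc h (mf h) FF.Glob.ffthm FF.Glob.aStmt hR hR1 hRK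

/-- **(Om)**, 2-local subgroups. -/
theorem nonLoc_loc (h : LineV S Q V L W Z C A 2) {R : Subgroup G} (hR : IsPGroup 2 R) (hR1 : R ≠ ⊥)
    (hRK : K0 (S : Subgroup G) (FBlk (S : Subgroup G)) ≤ normalizer (R : Set G)) {H : Subgroup G}
    (hB : bau (S : Subgroup G) ≤ H) (ho : o2 H ≠ ⊥) :
    H ≤ normalizer (o2 (K0 (S : Subgroup G) (FBlk (S : Subgroup G))) : Set G) :=
  NegPlug.nonLoc_loc h (mf h) FF.Glob.ffthm FF.Glob.aStmt hR hR1 hRK hB ho

end Cfsg.Agent.Omega.OM.SwapV.NegMain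

end

-- merged: Cfsg.Agent.Mrg.Omega.NOThreeL.RRed.BFr.NlNeg
section

/-!
# NO-3L, box R: `⟨C_G(Z_J), blocks⟩` is nonlocal, stage `-1` (#24050 (0'))

`B = bau S`, `Z_J = zj S`, the frame `LineV S Q V L W Z C A 2` over `B` (any module `V`, any `S`-orbits of blocks).

* `nl_K0` : in box R `K0` normalises no 2-group `≠ 1`;
* `K0_le` : with at least three blocks `K0 ≤ ⟨C_G(Z_J), L i⟩` (UNI+);
* `nl` : in box R, with at least three blocks, no 2-group `≠ 1` is normalised by `C_G(Z_J)` and all `L i`.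
-/

set_option autoImplicit false
set_option linter.unusedSectionVars false

namespace Cfsg.Agent.Omega.NOThreeL.RRed.BFr.NlNeg

open Subgroup Cfsg Cfsg.Agent.Omega.MinPar Cfsg.Agent.Omega.Frame Cfsg.Agent.ZN.ChoiceBase Cfsg.Agent.ZN.ChoiceSit
open Cfsg.Agent.ZN (jj zj bau zc zl o2)
open Cfsg.Agent.Omega.OM.Dich (K0)
open Cfsg.Agent.Omega.OM.BlkGen (FBlk)
open Cfsg.Agent.Omega.OM.SwapV.NegPair
open Cfsg.Agent.Omega.NOThreeL.RTree (RB)

universe u

variable {G : Type u} [Group G] [Finite G] {ι : Type} [Finite ι] {S : Sylow 2 G} {Q V : Subgroup G}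
  {L W Z C A : ι → Subgroup G}

/-- **`K0` normalises no 2-group `≠ 1`.** -/
theorem nl_K0 (B : RB S) (h : LineV S Q V L W Z C A 2) {R : Subgroup G} (hR : IsPGroup 2 R)
    (hK : K0 (S : Subgroup G) (FBlk (S : Subgroup G)) ≤ normalizer (R : Set G)) : R = ⊥ := by
  by_contra hR1
  obtain ⟨M, rfl, h1, -, -, -, -, -, -, hall⟩ :=
    Cfsg.Agent.Omega.OM.SwapV.NegMain.nonLoc h hR hR1 hK
  have hc := B.ctx.char2
  refine h1 (FrameNOFF.eq_bot_of_norm B.ctx S B.full (isPGroup_o2 _) (fun P hP => ?_) ?_)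
  · exact hall P ((bau_le _).trans hP.le) (hP.isLoc.char2 S hc)
  · have h2 := isLoc_centralizer_zc S (B.ctx.sylow_ne_bot S)
    exact hall _ ((bau_le _).trans h2.le) (h2.char2 S hc)

omit [Finite G] [Finite ι] in
theorem five {ZJ : Subgroup G} (h4 : Nat.card ZJ = 4) {a b c : G} (ha : a ∈ ZJ) (hb : b ∈ ZJ) (hc : c ∈ ZJ)
    (ha1 : a ≠ 1) (hb1 : b ≠ 1) (hc1 : c ≠ 1) (hab : a ≠ b) (hac : a ≠ c) (hbc : b ≠ c) (h : a * b ≠ c)
    (hab1 : a * b ≠ 1) : False := by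
  have hf : Finite ZJ := Nat.finite_of_card_ne_zero (by rw [h4]; norm_num)
  have h1 : ({1, a, b, c, a * b} : Set G) ⊆ (ZJ : Set G) := by
    rintro x (rfl | rfl | rfl | rfl | rfl)
    exacts [one_mem _, ha, hb, hc, mul_mem ha hb]
  have h2 := Set.ncard_le_ncard h1 (Set.toFinite _)
  have e : (ZJ : Set G).ncard = 4 := h4
  rw [e, Set.ncard_insert_of_notMem, Set.ncard_insert_of_notMem, Set.ncard_insert_of_notMem, Set.ncard_pair] at h2
  · omega
  · exact fun e => h e.symm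
  · rintro (e | e)
    · exact hbc e
    · exact ha1 (by simpa using (e : b = a * b))
  · rintro (e | e | e)
    · exact hab e
    · exact hac e
    · exact hb1 (by simpa using (e : a = a * b))
  · rintro (e | e | e | e)
    · exact ha1 e.symm
    · exact hb1 e.symm
    · exact hc1 e.symm
    · exact hab1 e.symm

/-- With three blocks `|Z_J| ≠ 4`. -/
theorem card_ne (h : LineV S Q V L W Z C A 2) (h3 : ∀ i j : ι, ∃ l, l ≠ i ∧ l ≠ j) (i : ι) :
    Nat.card (zj (S : Subgroup G)) ≠ 4 := by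
  intro h4
  obtain ⟨j, hj, -⟩ := h3 i i
  obtain ⟨l, hli, hlj⟩ := h3 i j
  obtain ⟨a, ha, ha1⟩ := Z_ne h i
  obtain ⟨b, hb, hb1⟩ := Z_ne h j
  obtain ⟨c, hc, hc1⟩ := Z_ne h l
  have hbi : b ∈ C i := Z_C h hj.symm hb
  have haj : a ∈ C j := Z_C h hj ha
  have hal : a ∈ C l := Z_C h hli ha
  have hbl : b ∈ C l := Z_C h hlj hb
  have na := not_mem_C h ha ha1
  have nb := not_mem_C h hb hb1
  have nc := not_mem_C h hc hc1
  refine five h4 (h.fr.Z_le i ha) (h.fr.Z_le j hb) (h.fr.Z_le l hc) ha1 hb1 hc1 ?_ ?_ ?_ ?_ ?_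
  · rintro rfl; exact na hbi
  · rintro rfl; exact nc hal
  · rintro rfl; exact nc hbl
  · rintro rfl; exact nc (mul_mem hal hbl)
  · intro e
    apply na
    have : a = b⁻¹ := eq_inv_of_mul_eq_one_left e
    rw [this]
    exact inv_mem hbi

/-- **UNI+**: `K0 ≤ ⟨C_G(Z_J), L i⟩` with three blocks. -/
theorem K0_le (h : LineV S Q V L W Z C A 2) (h3 : ∀ i j : ι, ∃ l, l ≠ i ∧ l ≠ j) :
    K0 (S : Subgroup G) (FBlk (S : Subgroup G)) ≤ centralizer (zj (S : Subgroup G) : Set G) ⊔ ⨆ i, L i := by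
  refine sup_le le_sup_left (iSup_le ?_)
  rintro ⟨⟨L', V'⟩, hb⟩
  obtain ⟨Z', q', hfb⟩ := hb.fb
  obtain ⟨-, i, -, -, h1⟩ := h.uniPlus hfb
  rcases h1 with ⟨-, -, h2⟩ | ⟨-, h4, -⟩
  · refine (h2 rfl).2.trans (sup_le ((le_iSup L i).trans le_sup_right) ?_)
    exact (centralizer_le (by exact_mod_cast (le_sup_right : zj (S : Subgroup G) ≤ W i ⊔ zj (S : Subgroup G)))).trans
      le_sup_left
  · exact absurd h4 (card_ne h h3 i)

/-- **No 2-group `≠ 1` is normalised by `C_G(Z_J)` and all `L i`.** -/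
theorem nl (B : RB S) (h : LineV S Q V L W Z C A 2) (h3 : ∀ i j : ι, ∃ l, l ≠ i ∧ l ≠ j) {R : Subgroup G}
    (hR : IsPGroup 2 R) (hD : centralizer (zj (S : Subgroup G) : Set G) ≤ normalizer (R : Set G))
    (hL : ∀ i, L i ≤ normalizer (R : Set G)) : R = ⊥ :=
  nl_K0 B h hR ((K0_le h h3).trans (sup_le hD (iSup_le hL)))

end Cfsg.Agent.Omega.NOThreeL.RRed.BFr.NlNeg

end

-- merged: Cfsg.Agent.Mrg.Omega.NOThreeL.RRed.BFr.TrCross
section

/-!
# The dichotomy for the light pairs over `LnV`, `q = 2`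

* `tr_of` : if every `L m` normalises every `W l`, `l ≠ m`, then `Line.Tr W Z C` (natural `S₃`-blocks);
* `cross_of` : otherwise, for every `l` (transitivity of `N_G(B)` on the `W l`) some `g ∈ N(Q)` centralises all `Z p`,
  `p ≠ m`, for one `m ≠ l`, and moves `W l`;
* `dich`.
-/

set_option autoImplicit false
set_option linter.unusedSectionVars false

namespace Cfsg.Agent.Omega.NOThreeL.RRed.BFr.TrCross

open Subgroup Cfsg Cfsg.Agent.ZN.ChoiceBase Cfsg.Agent.ZN.ChoiceSit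
open Cfsg.Agent.ZN (zc zl o2)
open Cfsg.Agent.Omega.NO3S.Level (lev)
open Cfsg.Agent.Omega.OM.SwapL (ZL BL)
open Cfsg.Agent.Omega.OM.SwapV.Lv (LnV)
open Cfsg.Agent.Omega.OM.Lev.Uni (FrL)
open Cfsg.Agent.Omega.OM.Lev.Low.Line (Tr)
open Cfsg.Agent.Omega.SQ1.Bau (mem_sup_comm elem_comm elem_sq)

universe u

variable {G : Type u} [Group G] [Finite G] {ι : Type} [Finite ι]

section tr

variable {B Q V X ZJ : Subgroup G} {L W Z C A : ι → Subgroup G}

/-- `C i = ∏_{j ≠ i} W j` -/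
theorem C_le (h : FrL B Q V X ZJ L W Z C A 2) (i : ι) : C i ≤ ⨆ (j : ι) (_ : j ≠ i), W j := by
  classical
  intro c hc
  have hcV : c ∈ W i ⊔ ⨆ (j : ι) (_ : j ≠ i), W j := by
    have h1 : V ≤ W i ⊔ ⨆ (j : ι) (_ : j ≠ i), W j := by
      refine h.V_eq.le.trans (iSup_le fun j => ?_)
      by_cases hj : j = i
      · rw [hj]; exact le_sup_left
      · exact (le_iSup₂_of_le (f := fun (j : ι) (_ : j ≠ i) => W j) j hj le_rfl).trans le_sup_right
    exact h1 (h.CV i hc)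
  have hle : (⨆ (j : ι) (_ : j ≠ i), W j) ≤ C i := iSup₂_le fun j hj => h.WjC i j (Ne.symm hj)
  obtain ⟨w, hw, c', hc', e⟩ := mem_sup_comm (fun a ha b hb => h.Vc (h.WV i ha) (h.CV i (hle hb))) hcV
  have h1 : w = 1 := by
    have h2 : w ∈ W i ⊓ C i := by
      refine mem_inf.2 ⟨hw, ?_⟩
      have : w = c * c'⁻¹ := by rw [e]; group
      rw [this]
      exact mul_mem hc (inv_mem (hle hc'))
    rwa [h.dir i, mem_bot] at h2
  rw [e, h1, one_mul]
  exact hc'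

/-- **natural `S₃`-blocks** -/
theorem tr_of (h : FrL B Q V X ZJ L W Z C A 2) (ha : ∀ l m, l ≠ m → L m ≤ normalizer (W l : Set G)) : Tr W Z C := by
  intro i x hx hx1
  have hb := h.blk i
  have hsq : ∀ v ∈ W i, v ^ 2 = 1 := fun v hv => elem_sq hb.el v hv
  have hW4 : Nat.card (W i) = 4 := by rw [hb.card, h.cardZ i]
  -- the conjugates of `A i` centralise `C i`
  have hcent : ∀ g ∈ L i, ∀ a ∈ A i, ∀ c ∈ C i, g * a * g⁻¹ * c = c * (g * a * g⁻¹) := by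
    intro g hg a ha' c hc
    have h1 : (⨆ (j : ι) (_ : j ≠ i), W j) ≤ centralizer ({g * a * g⁻¹} : Set G) := by
      refine iSup₂_le fun j hj w hw => ?_
      rw [mem_centralizer_singleton_iff]
      have h2 : g⁻¹ * w * g ∈ W j := by
        have := (mem_normalizer_iff.1 (inv_mem (ha j i hj hg)) w).1 hw
        simpa using this
      have h3 := h.AC i a ha' _ (h.WjC i j (Ne.symm hj) h2)
      have h4 := congrArg (fun t => g * t * g⁻¹) h3
      simpa [mul_assoc] using h4.symm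
    exact (mem_centralizer_singleton_iff.1 (h1 (C_le h i hc))).symm
  -- the generator of `Z i`
  have hZ2 := h.cardZ i
  obtain ⟨z, hz, hz1⟩ : ∃ z ∈ Z i, z ≠ 1 := by
    have h1 : 1 < Nat.card (Z i) := by rw [hZ2]; norm_num
    have : Nontrivial (Z i) := Finite.one_lt_card_iff_nontrivial.1 h1
    obtain ⟨z, hz⟩ := exists_ne (1 : Z i)
    exact ⟨z, z.2, fun h => hz (Subtype.ext h)⟩
  have hzu : ∀ y ∈ Z i, y ≠ 1 → y = z := fun y hy hy1 => OM.UniPlus.eq_of_card_two hZ2 hy hz hy1 hz1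
  have hzW : z ∈ W i := hb.ZV hz
  -- `k` moves `z`
  obtain ⟨k, hk, hkz⟩ : ∃ k ∈ L i, k * z * k⁻¹ ∉ Z i := by
    by_contra hcon
    push Not at hcon
    obtain ⟨k, hk, hs⟩ := hb.sup
    have h2 : ⁅W i, B⁆ ≤ Z i := hb.comm_le le_rfl
    have h3 : cj k (Z i) ≤ Z i := by
      rintro _ ⟨y, hy, rfl⟩
      by_cases hy1 : y = 1
      · rw [hy1]
        show k * 1 * k⁻¹ ∈ Z i
        simp
      · rw [hzu y hy hy1]
        exact hcon k hk
    have h4 : W i ≤ Z i := hs.trans (sup_le h2 ((cj_mono k h2).trans h3))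
    have h5 := Subgroup.card_le_of_le h4
    rw [hW4, hZ2] at h5
    omega
  set y := k * z * k⁻¹ with hy
  have hyW : y ∈ W i := hb.nV k hk z hzW
  have hy1 : y ≠ 1 := fun e => hz1 (conj_eq_one_iff.1 e)
  have hyz : z ≠ y := fun e => hkz (e ▸ hz)
  -- `a` moves `y`
  have h1 := h.Ane i
  push Not at h1
  obtain ⟨a, haA, w, hw, hne⟩ := h1
  have haB : a ∈ B := h.AB i haA
  have haz : a * z = z * a := hb.cZ a haB z hz
  have key : ∀ v ∈ W i, v ∉ Z i → a * v * a⁻¹ = v * z := by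
    intro v hv hvZ
    have h2 : a * v ≠ v * a := fun e => hne (hb.free a haB v hv hvZ e w hw)
    have h3 := hb.com a haB v hv
    have h4 : a * v * a⁻¹ * v⁻¹ ≠ 1 := fun e => h2 (by
      have h5 := mul_inv_eq_one.1 e
      exact mul_inv_eq_iff_eq_mul.1 h5)
    have h5 := hzu _ h3 h4
    have h6 : a * v * a⁻¹ = z * v := mul_inv_eq_iff_eq_mul.1 h5
    rw [h6]
    exact hb.comm hzW hv
  have hay := key y hyW hkz
  -- `b = a^k` moves `z`
  have hkz' : k⁻¹ * z * k ∉ Z i := by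
    intro hmem
    have h2 : k⁻¹ * z * k ≠ 1 := fun e => hz1 (by
      have := congrArg (fun t => k * t * k⁻¹) e
      simpa [mul_assoc] using this)
    have h3 := hzu _ hmem h2
    apply hyz
    rw [hy]
    calc z = k * (k⁻¹ * z * k) * k⁻¹ := by group
      _ = k * z * k⁻¹ := by rw [h3]
  have hkzW : k⁻¹ * z * k ∈ W i := by
    have := hb.nV k⁻¹ (inv_mem hk) z hzW
    simpa using this
  have hbz : (k * a * k⁻¹) * z * (k * a * k⁻¹)⁻¹ = z * y := by
    have h2 := key _ hkzW hkz'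
    calc (k * a * k⁻¹) * z * (k * a * k⁻¹)⁻¹ = k * (a * (k⁻¹ * z * k) * a⁻¹) * k⁻¹ := by group
      _ = k * (k⁻¹ * z * k * z) * k⁻¹ := by rw [h2]
      _ = z * (k * z * k⁻¹) := by group
      _ = z * y := by rw [hy]
  rcases NO3S.eq_of_card_four hW4 hsq hzW hz1 hyW hy1 hyz hx hx1 with e | e | e
  · exact ⟨1, fun c _ => by simp, z, hz, by rw [e]; group⟩
  · refine ⟨a * (k * a * k⁻¹), fun c hc => ?_, z, hz, ?_⟩
    · have c1 : Commute a c := h.AC i a haA c hc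
      have c2 : Commute (k * a * k⁻¹) c := hcent k hk a haA c hc
      exact (c1.mul_left c2).eq
    · have hzz : z * z = 1 := by rw [← pow_two]; exact hsq z hzW
      calc a * (k * a * k⁻¹) * z * (a * (k * a * k⁻¹))⁻¹
          = a * ((k * a * k⁻¹) * z * (k * a * k⁻¹)⁻¹) * a⁻¹ := by group
        _ = a * (z * y) * a⁻¹ := by rw [hbz]
        _ = (a * z * a⁻¹) * (a * y * a⁻¹) := by group
        _ = z * (y * z) := by rw [hay, haz, mul_inv_cancel_right]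
        _ = z * (z * y) := by rw [hb.comm hyW hzW]
        _ = y := by rw [← mul_assoc, hzz, one_mul]
        _ = x := e.symm
  · exact ⟨k * a * k⁻¹, fun c hc => hcent k hk a haA c hc, z, hz, by rw [hbz, e]⟩

end tr

section cross

variable {S : Sylow 2 G} {V Q : Subgroup G} {n : ℕ} {L W Z C A : ι → Subgroup G}

theorem W_ne (h : LnV S V Q n L W Z C A) {i j : ι} (e : W i = W j) : i = j := by
  by_contra hne
  have h2 := h.fr.WjC i j hne
  rw [← e] at h2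
  have h3 : W i ≤ W i ⊓ C i := le_inf le_rfl h2
  rw [h.fr.dir i] at h3
  obtain ⟨z, hz, hz1⟩ := OM.SwapV.Lv.Z_ne h i
  exact hz1 (mem_bot.1 (h3 (OM.SwapV.Lv.Z_W h i hz)))

theorem Q_eq (h : LnV S V Q n L W Z C A) : Q = BL (S : Subgroup G) n ⊓ centralizer (V : Set G) := by
  ext x
  rw [mem_inf, mem_centralizer_iff]
  constructor
  · intro hx
    exact ⟨h.fr.QB hx, fun v hv => ((h.fr.mem_Q x (h.fr.QB hx)).1 hx v hv).symm⟩
  · rintro ⟨hx, hx'⟩
    exact (h.fr.mem_Q x hx).2 fun v hv => (hx' v hv).symm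

/-- **letters in common** -/
theorem cross_of (h : LnV S V Q n L W Z C A)
    (hM : ∀ i j, ∃ g ∈ normalizer (BL (S : Subgroup G) n : Set G), cj g (W i) = W j)
    (ha : ¬ ∀ l m, l ≠ m → L m ≤ normalizer (W l : Set G)) :
    ∀ l, ∃ m, m ≠ l ∧ ∃ g ∈ normalizer (Q : Set G), (∀ p, p ≠ m → ∀ z ∈ Z p, g * z = z * g) ∧ cj g (W l) ≠ W l := by
  push Not at ha
  obtain ⟨l₀, m₀, hlm, hn⟩ := ha
  obtain ⟨g, hg, hgn⟩ := SetLike.not_le_iff_exists.1 hn
  have hgQ : g ∈ normalizer (Q : Set G) := mem_normalizer_of_cj_le (by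
    rintro _ ⟨x, hx, rfl⟩
    exact h.fr.LQ m₀ g hg x hx)
  have hgZ : ∀ p, p ≠ m₀ → ∀ z ∈ Z p, g * z = z * g := fun p hp z hz =>
    h.fr.LC m₀ g hg z (h.fr.Z_le p hz) (OM.SwapV.Lv.Z_C h (Ne.symm hp) hz)
  have hgW : cj g (W l₀) ≠ W l₀ := fun e => hgn (mem_normalizer_iff_cj.2 e)
  intro l
  obtain ⟨x, hxB, hxl⟩ := hM l₀ l
  obtain ⟨m, hmZ, hmW, -⟩ := OM.SwapV.Lv.perm h hxB m₀
  have hml : m ≠ l := by
    rintro rfl
    have h1 : W m₀ = W l₀ := by
      have h2 := congrArg (cj x⁻¹) (hmW.trans hxl.symm)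
      rwa [cj_inv_cj, cj_inv_cj] at h2
    exact hlm (W_ne h h1).symm
  have hxQ : x ∈ normalizer (Q : Set G) := by
    rw [mem_normalizer_iff_cj, Q_eq h, cj_inf, cj_centralizer, cj_eq_of_mem_normalizer hxB, (h.norm hxB).1]
  refine ⟨m, hml, x * g * x⁻¹, mul_mem (mul_mem hxQ hgQ) (inv_mem hxQ), fun p hp z hz => ?_, fun e => hgW ?_⟩
  · obtain ⟨p', hp', -, -⟩ := OM.SwapV.Lv.perm h (inv_mem hxB) p
    have hpp : p' ≠ m₀ := by
      rintro rfl
      have h1 : cj x (Z p') = Z p := by rw [← hp', cj_cj, mul_inv_cancel, cj_one]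
      exact hp (OM.SwapV.Lv.Z_inj h (h1.symm.trans hmZ))
    have hz' : x⁻¹ * z * x ∈ Z p' := by
      rw [← hp']
      refine ⟨z, hz, ?_⟩
      show x⁻¹ * z * x⁻¹⁻¹ = x⁻¹ * z * x
      rw [inv_inv]
    have h1 := congrArg (fun t => x * t * x⁻¹) (hgZ p' hpp _ hz')
    simpa [mul_assoc] using h1
  · have h1 : cj (x * g * x⁻¹) (W l) = cj x (cj g (W l₀)) := by
      rw [← hxl, cj_cj, cj_cj]
      congr 1
      group
    rw [h1, ← hxl] at e
    have h2 := congrArg (cj x⁻¹) e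
    rwa [cj_inv_cj, cj_inv_cj] at h2

/-- **The dichotomy.** -/
theorem dich (h : LnV S V Q n L W Z C A)
    (hM : ∀ i j, ∃ g ∈ normalizer (BL (S : Subgroup G) n : Set G), cj g (W i) = W j) :
    Tr W Z C ∨ ∀ l, ∃ m, m ≠ l ∧ ∃ g ∈ normalizer (Q : Set G), (∀ p, p ≠ m → ∀ z ∈ Z p, g * z = z * g) ∧
      cj g (W l) ≠ W l := by
  by_cases ha : ∀ l m, l ≠ m → L m ≤ normalizer (W l : Set G)
  · exact Or.inl (tr_of h.fr ha)
  · exact Or.inr (cross_of h hM ha)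

end cross

end Cfsg.Agent.Omega.NOThreeL.RRed.BFr.TrCross

end

-- merged: Cfsg.Agent.Mrg.Omega.NOThreeL.RRed.BFr.VSup
section

section


/-!
# NO-3L, box R: `V* = ⟨V_P : P ∈ P*(S)⟩` over the frame over `B`, `q = 2`

`Fx S K B V ZJ M L W Z C` : the part of the frames `Fr` (stage `-1`), `FrL` (stage `n`) which is needed, with
`L i ≤ M ≤ N_G(V)`, `S ≤ M`.

* `perm`, `exists_supp`, `comm_of_supp` : supports, for `g ∈ N_M(B)`;
* `blkY` : an FF-block `(L', V')` over `B` in `M` which moves `Ω₁Z(S)` has `V' = W j`;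
* `exists_Y` : for all `i` some `Y ∈ P*(S)` has `W i ≤ V_Y`;
* `lnV`, `lineV` : the ground frames `LnV`, `LineV` of THEOREM SW for `V = V*`;
* `nl_lev`, `nl_neg` : no 2-group `≠ 1` is normalised by `C_G(Z_J)` and all `L i`.
-/

set_option autoImplicit false
set_option linter.unusedSectionVars false

namespace Cfsg.Agent.Omega.NOThreeL.RRed.BFr.VSup

open Subgroup Cfsg Cfsg.Agent.Omega.MinPar Cfsg.Agent.Omega.Frame Cfsg.Agent.Omega.FrameNOFF
open Cfsg.Agent.ZN.ChoiceBase Cfsg.Agent.ZN.ChoiceSit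
open Cfsg.Agent.ZN (zc zl o2 zj bau jj)
open Cfsg.Agent.Omega.NO3S.Level (lev)
open Cfsg.Agent.Omega.OM (LevD.LB)
open Cfsg.Agent.Omega.OM.LevD (LB)
open Cfsg.Agent.Omega.OM.SwapL (ZL BL cj_mul_eq cj_inv_eq)
open Cfsg.Agent.Omega.OM.SwapV
open Cfsg.Agent.Omega.OM.SwapV.Lv (LnV)
open Cfsg.Agent.Omega.OM.WeakCl (WC)
open Cfsg.Agent.Omega.OM.Uni (FB Fr)
open Cfsg.Agent.Omega.OM.Lev.Uni (FrL)
open Cfsg.Agent.Omega.OM.UniPlus (NB uni_two eq_of_card_two)
open Cfsg.Agent.Omega.NOThreeL.RTree (RB)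
open Cfsg.Agent.Omega.NOThreeL.Merge (MZ)

universe u

variable {G : Type u} [Group G] [Finite G] {ι : Type} [Finite ι] {S : Sylow 2 G} {K B V ZJ M : Subgroup G}
  {L W Z C : ι → Subgroup G}

/-- The part of the frames which is used. -/
structure Fx (S : Sylow 2 G) (K B V ZJ M : Subgroup G) (L W Z C : ι → Subgroup G) : Prop where
  SM : (S : Subgroup G) ≤ M
  MV : M ≤ normalizer (V : Set G)
  LM : ∀ i, L i ≤ M
  lb : LB S K B ZJ
  wc : WC B
  zcB : zc B = ZJ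
  zcS : zc (S : Subgroup G) ≤ ZJ
  Vc : ∀ x ∈ V, ∀ y ∈ V, x * y = y * x
  blk : ∀ i, FB B (L i) (W i) (Z i) 2
  cardZ : ∀ i, Nat.card (Z i) = 2
  ZJV : ZJ ≤ V
  Z_le : ∀ i, Z i ≤ ZJ
  WV : ∀ i, W i ≤ V
  CV : ∀ i, C i ≤ V
  dir : ∀ i, W i ⊓ C i = ⊥
  C0 : ∀ x ∈ V, (∀ i, x ∈ C i) → x = 1
  WjC : ∀ i j, i ≠ j → W j ≤ C i
  split : ∀ i, ∀ z ∈ ZJ, ∃ w ∈ Z i, ∃ c ∈ C i, c ∈ ZJ ∧ z = w * c
  LC : ∀ i, ∀ l ∈ L i, ∀ z ∈ ZJ, z ∈ C i → l * z = z * l
  uni : ∀ L' V' Z' q', FB B L' V' Z' q' → V' ≤ V →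
    ∃ i, Z' = Z i ∧ NB B L' V' (Z i) 2 ∧ V' ≤ W i ⊔ ZJ

namespace Fx

variable (h : Fx S K B V ZJ M L W Z C)
include h

theorem nb (i : ι) : NB B (L i) (W i) (Z i) 2 := ⟨h.blk i, h.cardZ i⟩

theorem Z_W (i : ι) : Z i ≤ W i := (h.blk i).ZV

theorem cB {b z : G} (hb : b ∈ B) (hz : z ∈ ZJ) : b * z = z * b :=
  (mem_centralizer_iff.1 (h.lb.Bc hb) z hz).symm

theorem ZJ_cj {g z : G} (hg : g ∈ normalizer (B : Set G)) (hz : z ∈ ZJ) : g * z * g⁻¹ ∈ ZJ := by
  have h3 := cj_eq_of_mem_normalizer (h.lb.norm_B_le hg)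
  rw [← h3]
  exact ⟨z, hz, rfl⟩

theorem mem_C_iff {i : ι} {z : G} (hz : z ∈ ZJ) : z ∈ C i ↔ ∀ l ∈ L i, l * z = z * l := by
  constructor
  · exact fun hc l hl => h.LC i l hl z hz hc
  · intro hL
    obtain ⟨w, hw, c, hc, hcJ, e⟩ := h.split i z hz
    have h1 : w = 1 := by
      refine (h.nb i).cent hw fun l hl => ?_
      have h2 := hL l hl
      have h3 := h.LC i l hl c hcJ hc
      have e1 : w = z * c⁻¹ := by rw [e]; group
      have c1 : Commute l z := h2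
      have c2 : Commute l c := h3
      rw [e1]
      exact (c1.mul_right c2.inv_right).eq
    rw [e, h1, one_mul]
    exact hc

theorem perm {g : G} (hg : g ∈ normalizer (B : Set G)) (hgM : g ∈ M) (i : ι) :
    ∃ j, cj g (Z i) = Z j ∧ cj g (W i) = W j ∧ ∀ z ∈ ZJ, (g * z * g⁻¹ ∈ C j ↔ z ∈ C i) := by
  have hN := (h.nb i).conj g
  rw [cj_eq_of_mem_normalizer hg] at hN
  have hWV : cj g (W i) ≤ V := by
    have := cj_mono g (h.WV i)
    rwa [cj_eq_of_mem_normalizer (h.MV hgM)] at this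
  obtain ⟨j, hZ, -, hW⟩ := h.uni _ _ _ _ hN.toFB hWV
  rw [hZ] at hN
  rw [← h.zcB] at hW
  obtain ⟨h1, h2, -⟩ := uni_two h.wc h.lb.Bp (h.nb j) hN hW
  obtain ⟨-, h3, -⟩ := uni_two h.wc h.lb.Bp hN (h.nb j) (h1.ge.trans le_sup_left)
  refine ⟨j, hZ, h1, fun z hz => ?_⟩
  have hz' : g * z * g⁻¹ ∈ ZJ := h.ZJ_cj hg hz
  have hzc : g * z * g⁻¹ ∈ zc B := by rw [h.zcB]; exact hz'
  rw [h.mem_C_iff hz', h.mem_C_iff hz]
  constructor
  · intro h4 l hl
    have h5 := h2 _ hzc h4 (g * l * g⁻¹) ⟨l, hl, rfl⟩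
    have h6 := congrArg (fun t => g⁻¹ * t * g) h5
    simpa [mul_assoc] using h6
  · intro h4
    refine h3 _ hzc fun l hl => ?_
    have h5 := h4 _ (mem_cj.1 hl)
    have h6 := congrArg (fun t => g * t * g⁻¹) h5
    simpa [mul_assoc] using h6

theorem Z_ne (i : ι) : ∃ z ∈ Z i, z ≠ 1 := by
  have h1 : 1 < Nat.card (Z i) := by rw [h.cardZ i]; norm_num
  have : Nontrivial (Z i) := Finite.one_lt_card_iff_nontrivial.1 h1
  obtain ⟨z, hz⟩ := exists_ne (1 : Z i)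
  exact ⟨z, z.2, fun h => hz (Subtype.ext h)⟩

theorem not_mem_C {i : ι} {z : G} (hz : z ∈ Z i) (h1 : z ≠ 1) : z ∉ C i := by
  intro hc
  have h2 : z ∈ W i ⊓ C i := mem_inf.2 ⟨h.Z_W i hz, hc⟩
  rw [h.dir i, mem_bot] at h2
  exact h1 h2

theorem Z_C {i j : ι} (hij : i ≠ j) : Z j ≤ C i := (h.Z_W j).trans (h.WjC i j hij)

theorem Z_inj {i j : ι} (e : Z i = Z j) : i = j := by
  by_contra hne
  obtain ⟨z, hz, hz1⟩ := h.Z_ne i
  exact h.not_mem_C hz hz1 (h.Z_C hne (e ▸ hz))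

theorem Z_eq {i : ι} {x y : G} (hx : x ∈ Z i) (hy : y ∈ Z i) (hx1 : x ≠ 1)
    (hy1 : y ≠ 1) : x = y := eq_of_card_two (h.cardZ i) hx hy hx1 hy1

theorem eq_of_supp {x y : G} (hx : x ∈ ZJ) (hy : y ∈ ZJ) (hs : ∀ i, x ∈ C i ↔ y ∈ C i) : x = y := by
  have hxV := h.ZJV hx
  have hyV := h.ZJV hy
  have h1 : x * y⁻¹ = 1 := by
    refine h.C0 _ (mul_mem hxV (inv_mem hyV)) fun i => ?_
    by_cases hxi : x ∈ C i
    · exact mul_mem hxi (inv_mem ((hs i).1 hxi))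
    have hyi : y ∉ C i := fun hc => hxi ((hs i).2 hc)
    obtain ⟨w, hw, c, hc, -, e⟩ := h.split i x hx
    obtain ⟨w', hw', c', hc', -, e'⟩ := h.split i y hy
    have hw1 : w ≠ 1 := by
      rintro rfl
      exact hxi (by rw [e, one_mul]; exact hc)
    have hw1' : w' ≠ 1 := by
      rintro rfl
      exact hyi (by rw [e', one_mul]; exact hc')
    have h2 := h.Z_eq hw hw' hw1 hw1'
    have h3 : w * c = c * w := h.Vc w (h.WV i (h.Z_W i hw)) c (h.CV i hc)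
    have h4 : w * c' = c' * w := h.Vc w (h.WV i (h.Z_W i hw)) c' (h.CV i hc')
    have e1 : x * y⁻¹ = c * c'⁻¹ := by
      rw [e, e', ← h2, h3, h4]; group
    rw [e1]
    exact mul_mem hc (inv_mem hc')
  exact mul_inv_eq_one.1 h1

theorem exists_supp (s : Set ι) : ∃ x ∈ ZJ, ∀ i, (x ∈ C i ↔ i ∉ s) := by
  classical
  have : Fintype ι := Fintype.ofFinite ι
  suffices H : ∀ t : Finset ι, ∃ x ∈ ZJ, ∀ i, (x ∈ C i ↔ i ∉ t) by
    obtain ⟨x, hx, hs⟩ := H s.toFinset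
    exact ⟨x, hx, fun i => by rw [hs i, Set.mem_toFinset]⟩
  intro t
  induction t using Finset.induction_on with
  | empty => exact ⟨1, one_mem _, fun i => by simp [one_mem]⟩
  | insert j t hj ih =>
    obtain ⟨x, hx, hs⟩ := ih
    obtain ⟨z, hz, hz1⟩ := h.Z_ne j
    refine ⟨x * z, mul_mem hx (h.Z_le j hz), fun i => ?_⟩
    by_cases hij : i = j
    · subst hij
      have h1 : x ∈ C i := (hs i).2 hj
      constructor
      · intro h2
        exact absurd ((Subgroup.mul_mem_cancel_left _ h1).1 h2) (h.not_mem_C hz hz1)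
      · intro h2
        exact absurd (Finset.mem_insert_self i t) h2
    · have h1 : z ∈ C i := h.Z_C hij hz
      rw [Subgroup.mul_mem_cancel_right _ h1, hs i, Finset.mem_insert, not_or]
      exact ⟨fun h2 => ⟨hij, h2⟩, fun h2 => h2.2⟩

theorem supp_cj {g : G} (hg : g ∈ normalizer (B : Set G)) (hgM : g ∈ M) {i j : ι}
    (e : cj g (Z i) = Z j) {z : G} (hz : z ∈ ZJ) : g * z * g⁻¹ ∈ C j ↔ z ∈ C i := by
  obtain ⟨k, h1, -, h2⟩ := h.perm hg hgM i
  have h3 : j = k := h.Z_inj (e.symm.trans h1)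
  rw [h3]
  exact h2 z hz

theorem W_cj {g : G} (hg : g ∈ normalizer (B : Set G)) (hgM : g ∈ M) {i j : ι}
    (e : cj g (Z i) = Z j) : cj g (W i) = W j := by
  obtain ⟨k, h1, h2, -⟩ := h.perm hg hgM i
  have h3 : j = k := h.Z_inj (e.symm.trans h1)
  rw [h3]
  exact h2

theorem comm_of_supp {g : G} (hg : g ∈ normalizer (B : Set G)) (hgM : g ∈ M) {z : G}
    (hz : z ∈ ZJ) (hs : ∀ i j, cj g (Z i) = Z j → (z ∈ C i ↔ z ∈ C j)) : g * z = z * g := by
  have h1 : g * z * g⁻¹ = z := by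
    refine h.eq_of_supp (h.ZJ_cj hg hz) hz fun j => ?_
    obtain ⟨i, hi, -, -⟩ := h.perm (inv_mem hg) (inv_mem hgM) j
    have e : cj g (Z i) = Z j := by
      have := cj_inv_eq hi
      rwa [inv_inv] at this
    rw [h.supp_cj hg hgM e hz]
    exact hs i j e
  exact mul_inv_eq_iff_eq_mul.1 h1

theorem SB : (S : Subgroup G) ≤ normalizer (B : Set G) := h.lb.two_le S.isPGroup' h.lb.BS

/-- an element of `Z_J` with `S`-invariant support is in `Ω₁Z(S)` -/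
theorem mem_zcS {z : G} (hz : z ∈ ZJ)
    (hs : ∀ s ∈ (S : Subgroup G), ∀ i j, cj s (Z i) = Z j → (z ∈ C i ↔ z ∈ C j)) : z ∈ zc (S : Subgroup G) :=
  mem_zc.2 ⟨h.lb.BS (h.lb.ZB hz), h.lb.sq z hz, fun s hs' => h.comm_of_supp (h.SB hs') (h.SM hs') hz (hs s hs')⟩

/-- an FF-block over `B` in `M` which moves `Ω₁Z(S)` has module some `W j` -/
theorem blkY {L' V' Z' : Subgroup G} {q' : ℕ} (h' : FB B L' V' Z' q')
    (hirr : ∀ U : Subgroup G, U ≤ V' → L' ≤ normalizer (U : Set G) → U ≤ centralizer (L' : Set G) ∨ V' ≤ U)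
    (hLM : L' ≤ M) (hmv : ¬ L' ≤ centralizer (zc (S : Subgroup G) : Set G)) :
    ∃ j, NB B L' (W j) (Z j) 2 ∧ ∀ z ∈ ZJ, z ∈ C j → ∀ l ∈ L', l * z = z * l := by
  have hUV : ∀ l ∈ L', ∀ u ∈ V' ⊓ V, l * u * l⁻¹ ∈ V' ⊓ V := fun l hl u hu =>
    ⟨h'.nV l hl u hu.1, (mem_normalizer_iff.1 (h.MV (hLM hl)) u).1 hu.2⟩
  have hN : L' ≤ normalizer ((V' ⊓ V : Subgroup G) : Set G) := by
    intro l hl
    rw [mem_normalizer_iff]
    refine fun u => ⟨fun hu => hUV l hl u hu, fun hu => ?_⟩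
    have := hUV l⁻¹ (inv_mem hl) _ hu
    rwa [show l⁻¹ * (l * u * l⁻¹) * l⁻¹⁻¹ = u by group] at this
  rcases hirr _ inf_le_left hN with hU | hU
  · exfalso
    apply hmv
    rw [← le_centralizer_iff]
    intro z hz
    rw [mem_centralizer_iff]
    have hzJ := h.zcS hz
    have key : L' ≤ centralizer ({z} : Set G) := by
      refine h'.gen.trans (iSup_le fun x => ?_)
      rintro _ ⟨b, hb, rfl⟩
      rw [mem_centralizer_singleton_iff]
      change (x : G) * b * (x : G)⁻¹ * z = z * ((x : G) * b * (x : G)⁻¹)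
      have hu : (x : G)⁻¹ * z * (x : G) * z⁻¹ ∈ V' ⊓ V := by
        refine mem_inf.2 ⟨?_, ?_⟩
        · have := h'.act (x : G)⁻¹ (inv_mem x.2) z (by rw [h.zcB]; exact hzJ)
          rwa [inv_inv] at this
        · refine mul_mem ?_ (inv_mem (h.ZJV hzJ))
          have := (mem_normalizer_iff.1 (h.MV (hLM (inv_mem x.2))) z).1 (h.ZJV hzJ)
          rwa [inv_inv] at this
      have h1 : b * ((x : G)⁻¹ * z * (x : G) * z⁻¹) = ((x : G)⁻¹ * z * (x : G) * z⁻¹) * b :=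
        mem_centralizer_iff.1 (hU hu) b (h'.BL hb)
      have h2 : b * z = z * b := h.cB hb hzJ
      have h3 : b * ((x : G)⁻¹ * z * (x : G)) = ((x : G)⁻¹ * z * (x : G)) * b := by
        have e : (x : G)⁻¹ * z * (x : G) = ((x : G)⁻¹ * z * (x : G) * z⁻¹) * z := by group
        rw [e, ← mul_assoc, h1, mul_assoc, h2]; group
      have h4 := congrArg (fun t => (x : G) * t * (x : G)⁻¹) h3
      have e1 : (x : G) * (b * ((x : G)⁻¹ * z * (x : G))) * (x : G)⁻¹ = (x : G) * b * (x : G)⁻¹ * z := by group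
      have e2 : (x : G) * (((x : G)⁻¹ * z * (x : G)) * b) * (x : G)⁻¹ = z * ((x : G) * b * (x : G)⁻¹) := by group
      exact e1.symm.trans (h4.trans e2)
    exact fun l hl => mem_centralizer_singleton_iff.1 (key hl)
  · obtain ⟨j, hZ, hNB, hle⟩ := h.uni _ _ _ _ h' (hU.trans inf_le_right)
    have hle' : V' ≤ W j ⊔ zc B := by rw [h.zcB]; exact hle
    obtain ⟨h1, h2, -⟩ := uni_two h.wc h.lb.Bp (h.nb j) hNB hle'
    subst h1
    refine ⟨j, hNB, fun z hz hzC => h2 z (by rw [h.zcB]; exact hz) ((h.mem_C_iff hz).1 hzC)⟩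

/-- Frattini inside `P` -/
theorem frattini {P : Subgroup G} (hSP : (S : Subgroup G) ≤ P) (hP : P ≤ normalizer (ZJ : Set G)) {p : G}
    (hp : p ∈ P) : ∃ d ∈ P ⊓ centralizer (ZJ : Set G), ∃ n ∈ normalizer (B : Set G), p = d * n := by
  have hB : Syl B (P ⊓ centralizer (ZJ : Set G)) :=
    ⟨le_inf (h.lb.BS.trans hSP) h.lb.Bc, h.lb.Bp, fun Q hQ h2 hle => h.lb.syl.2.2 Q (hQ.trans inf_le_right) h2 hle⟩
  have h1 : cj p B ≤ P ⊓ centralizer (ZJ : Set G) := by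
    have h2 := cj_mono p hB.1
    rwa [cj_inf, cj_eq_of_mem_normalizer (le_normalizer hp), cj_centralizer,
      cj_eq_of_mem_normalizer (hP hp)] at h2
  obtain ⟨T, hT, hle⟩ := exists_syl (isPGroup_cj p h.lb.Bp) h1
  obtain ⟨d, hd, rfl⟩ := syl_conj hB hT
  refine ⟨d, hd, d⁻¹ * p, ?_, by group⟩
  have h3 : cj (d⁻¹ * p) B ≤ B := by
    have := cj_mono d⁻¹ hle
    rwa [cj_inv_cj, cj_cj] at this
  exact mem_normalizer_iff_cj.2 (Subgroup.eq_of_le_of_card_ge h3 (by rw [card_cj]))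

theorem W_cases {j : ι} {x w : G} (hx : x ∈ W j) (hxZ : x ∉ Z j) (hw : w ∈ W j) :
    w ∈ Z j ∨ w * x⁻¹ ∈ Z j := by
  by_cases hwZ : w ∈ Z j
  · exact Or.inl hwZ
  right
  have h1 : ((Z j).subgroupOf (W j)).index = 2 := by
    have h2 := relIndex_mul_relIndex ⊥ (Z j) (W j) bot_le (h.Z_W j)
    rw [relIndex_bot_left, relIndex_bot_left, (h.blk j).card, h.cardZ j] at h2
    have h3 : (Z j).relIndex (W j) = 2 := by omega
    exact h3
  have h2 : (⟨w, hw⟩ : W j) * ⟨x⁻¹, inv_mem hx⟩ ∈ (Z j).subgroupOf (W j) := by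
    rw [Subgroup.mul_mem_iff_of_index_two h1]
    constructor
    · intro h3
      exact absurd (mem_subgroupOf.1 h3) hwZ
    · intro h3
      exact absurd (inv_mem_iff.1 (mem_subgroupOf.1 h3)) hxZ
  exact mem_subgroupOf.1 h2

/-- `W j ≤ V_Y` if `Y` contains a block `(L', W j)` and some `z ∈ Ω₁Z(S)` is not in `C j` -/
theorem W_le_zl {L' Y : Subgroup G} {j : ι} (hN : NB B L' (W j) (Z j) 2)
    (hc : ∀ z ∈ ZJ, z ∈ C j → ∀ l ∈ L', l * z = z * l) (hSY : (S : Subgroup G) ≤ Y) (hLY : L' ≤ Y) {z : G}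
    (hz : z ∈ zc (S : Subgroup G)) (hzC : z ∉ C j) : W j ≤ zl (S : Subgroup G) Y := by
  have hYN : Y ≤ normalizer (zl (S : Subgroup G) Y : Set G) := MinSimple.VModule.le_normalizer_zl _ _
  have hzY : z ∈ zl (S : Subgroup G) Y := MinSimple.VModule.zc_le_zl _ _ hz
  obtain ⟨w, hw, c, hcC, hcJ, e⟩ := h.split j z (h.zcS hz)
  have hw1 : w ≠ 1 := by
    rintro rfl
    exact hzC (by rw [e, one_mul]; exact hcC)
  obtain ⟨l, hl, hlw⟩ : ∃ l ∈ L', l * w ≠ w * l := by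
    by_contra hcon
    push Not at hcon
    exact hw1 (hN.cent hw hcon)
  have hu : l * w * l⁻¹ * w⁻¹ ∈ W j :=
    mul_mem (hN.nV l hl w (h.Z_W j hw)) (inv_mem (h.Z_W j hw))
  have hu' : l * w * l⁻¹ * w⁻¹ ∈ zl (S : Subgroup G) Y := by
    have h1 : l * w * l⁻¹ * w⁻¹ = l * z * l⁻¹ * z⁻¹ := by
      have h2 := hc c hcJ hcC l hl
      have h3 : l * c * l⁻¹ = c := mul_inv_eq_iff_eq_mul.2 h2
      rw [e]
      calc l * w * l⁻¹ * w⁻¹ = l * w * l⁻¹ * c * c⁻¹ * w⁻¹ := by group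
        _ = l * w * l⁻¹ * (l * c * l⁻¹) * c⁻¹ * w⁻¹ := by rw [h3]
        _ = _ := by group
    rw [h1]
    exact mul_mem ((mem_normalizer_iff.1 (hYN (hLY hl)) z).1 hzY) (inv_mem hzY)
  set u : G := l * w * l⁻¹ * w⁻¹ with hudef
  have huZ : u ∉ Z j := by
    intro huZ
    have hu1 : u ≠ 1 := by
      intro h1
      exact hlw (mul_inv_eq_iff_eq_mul.1 (mul_inv_eq_one.1 h1))
    have h2 := h.Z_eq huZ hw hu1 hw1
    have h3 : w * w = 1 := by
      have := h.lb.sq w (h.Z_le j hw)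
      rwa [pow_two] at this
    have h4 : l * w * l⁻¹ = 1 := by
      have h5 : l * w * l⁻¹ = u * w := by rw [hudef]; group
      rw [h5, h2, h3]
    apply hw1
    have h5 := congrArg (fun t => l⁻¹ * t * l) h4
    simpa [mul_assoc] using h5
  have hwY : w ∈ zl (S : Subgroup G) Y := by
    obtain ⟨b, hb, v, hv, hbv⟩ := hN.ne
    have h1 : b * u ≠ u * b := fun e1 => hbv (hN.free b hb u hu huZ e1 v hv)
    have h2 := hN.com b hb u hu
    have h3 : b * u * b⁻¹ * u⁻¹ ≠ 1 := fun e1 => h1 (mul_inv_eq_iff_eq_mul.1 (mul_inv_eq_one.1 e1))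
    rw [← h.Z_eq h2 hw h3 hw1]
    have hbY : b ∈ Y := hSY (h.lb.BS hb)
    exact mul_mem ((mem_normalizer_iff.1 (hYN hbY) u).1 hu') (inv_mem hu')
  have hZY : Z j ≤ zl (S : Subgroup G) Y := by
    intro x hx
    by_cases hx1 : x = 1
    · rw [hx1]; exact one_mem _
    · rw [h.Z_eq hx hw hx1 hw1]; exact hwY
  intro x hx
  rcases h.W_cases hu huZ hx with h1 | h1
  · exact hZY h1
  · have h2 := mul_mem (hZY h1) hu'
    rwa [inv_mul_cancel_right] at h2

/-- The `S`-orbit of the index `i`. -/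
def Ob (S : Subgroup G) (Z : ι → Subgroup G) (i : ι) : Set ι := {j | ∃ s ∈ S, cj s (Z i) = Z j}

omit h in
theorem self_mem_Ob (i : ι) : i ∈ Ob (S : Subgroup G) Z i := ⟨1, one_mem _, cj_one _⟩

omit h in
theorem Ob_cj {i j k : ι} {s : G} (hs : s ∈ (S : Subgroup G)) (e : cj s (Z j) = Z k) :
    j ∈ Ob (S : Subgroup G) Z i ↔ k ∈ Ob (S : Subgroup G) Z i := by
  constructor
  · rintro ⟨t, ht, e'⟩
    exact ⟨s * t, mul_mem hs ht, cj_mul_eq e' e⟩
  · rintro ⟨t, ht, e'⟩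
    exact ⟨s⁻¹ * t, mul_mem (inv_mem hs) ht, cj_mul_eq e' (cj_inv_eq e)⟩

omit h in
theorem Ob_symm {i j : ι} (hj : j ∈ Ob (S : Subgroup G) Z i) : i ∈ Ob (S : Subgroup G) Z j := by
  obtain ⟨s, hs, e⟩ := hj
  exact ⟨s⁻¹, inv_mem hs, cj_inv_eq e⟩

/-- `z_O` -/
theorem exists_zO (i : ι) : ∃ z ∈ zc (S : Subgroup G), ∀ j, z ∈ C j ↔ j ∉ Ob (S : Subgroup G) Z i := by
  obtain ⟨z, hz, hs⟩ := h.exists_supp (Ob (S : Subgroup G) Z i)
  refine ⟨z, h.mem_zcS hz fun s hs' j k e => ?_, hs⟩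
  rw [hs, hs, Ob_cj hs' e]

/-- **For all `i` some `Y ∈ P*(S)` has `W i ≤ V_Y`.** -/
theorem exists_Y (hM : IsLoc (S : Subgroup G) M)
    (hblk : ∀ Y : Subgroup G, IsParS (S : Subgroup G) Y → Y ≤ M → ¬ K ≤ o2 Y →
      ∃ L' V' Z' : Subgroup G, ∃ q' : ℕ, FB B L' V' Z' q' ∧
        (∀ U : Subgroup G, U ≤ V' → L' ≤ normalizer (U : Set G) → U ≤ centralizer (L' : Set G) ∨ V' ≤ U) ∧
        L' ≤ Y ∧ Y ≤ (S : Subgroup G) ⊔ L') (i : ι) :
    ∃ Y : Subgroup G, IsParS (S : Subgroup G) Y ∧ W i ≤ zl (S : Subgroup G) Y := by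
  obtain ⟨z, hz, hzs⟩ := h.exists_zO i
  have hzJ := h.zcS hz
  set H : Subgroup G := (S : Subgroup G) ⊔ L i with hH
  have hHM : H ≤ M := sup_le h.SM (h.LM i)
  have hloc : IsLoc (S : Subgroup G) H := hM.of_le S le_sup_left hHM
  -- `H` centralises the elements of `Z` in `C i`
  have hcent : ∀ x ∈ zc (S : Subgroup G), x ∈ C i → ∀ g ∈ H, g * x = x * g := by
    intro x hx hxC
    have h1 : H ≤ centralizer ({x} : Set G) := by
      refine sup_le (fun s hs => ?_) fun l hl => ?_ <;> rw [mem_centralizer_singleton_iff]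
      · exact (mem_zc.1 hx).2.2 s hs
      · exact h.LC i l hl x (h.zcS hx) hxC
    exact fun g hg => mem_centralizer_singleton_iff.1 (h1 hg)
  -- `N_H(B)` fixes `z`
  have hfix : ∀ n ∈ H, n ∈ normalizer (B : Set G) → n * z = z * n := by
    have key : ∀ n ∈ H, n ∈ normalizer (B : Set G) → ∀ j k, cj n (Z j) = Z k →
        j ∉ Ob (S : Subgroup G) Z i → k ∉ Ob (S : Subgroup G) Z i := by
      intro n hn hnB j k e hj hk
      obtain ⟨z', hz', hs'⟩ := h.exists_zO j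
      have hi : z' ∈ C i := (hs' i).2 fun hi => hj (Ob_symm hi)
      have h1 := hcent z' hz' hi n hn
      have h2 : n * z' * n⁻¹ = z' := by rw [h1]; group
      have h3 := h.supp_cj hnB (hHM hn) e (h.zcS hz')
      rw [h2] at h3
      have h4 : z' ∈ C k := (hs' k).2 fun hk' => by
        obtain ⟨s, hs, e1⟩ := hk'
        exact hj ((Ob_cj hs e1).2 hk)
      exact (hs' j).1 (h3.1 h4) (self_mem_Ob j)
    intro n hn hnB
    refine h.comm_of_supp hnB (hHM hn) hzJ fun j k e => ?_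
    rw [hzs j, hzs k]
    exact ⟨fun h1 => key n hn hnB j k e h1,
      fun h1 => key n⁻¹ (inv_mem hn) (inv_mem hnB) k j (cj_inv_eq e) h1⟩
  -- some `Y`
  obtain ⟨Y, hY, hYH, hKY⟩ : ∃ Y : Subgroup G, IsParS (S : Subgroup G) Y ∧ Y ≤ H ∧ ¬ K ≤ o2 Y := by
    by_contra hcon
    push Not at hcon
    have h1 : H ≤ centralizer ({z} : Set G) := by
      refine hloc.le_of_forall S ?_ fun P hP hPH => ?_
      · rintro n ⟨hn, hnS⟩
        rw [mem_centralizer_singleton_iff]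
        refine hfix n hn ?_
        have h2 : cj n B ≤ (S : Subgroup G) := by
          have := cj_mono n h.lb.BS
          rwa [cj_eq_of_mem_normalizer hnS] at this
        exact mem_normalizer_iff_cj.2 (h.wc _ S.isPGroup' h.lb.BS n h2)
      · by_cases hPs : IsParS (S : Subgroup G) P
        · have h2 : P ≤ normalizer (ZJ : Set G) :=
            (le_normalizer_o2 P).trans (h.lb.nrm _ (isPGroup_o2 P) (hcon P hPs hPH))
          intro p hp
          rw [mem_centralizer_singleton_iff]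
          obtain ⟨d, hd, n, hn, e⟩ := frattini h hP.le h2 hp
          have h3 : n ∈ P := by
            have : n = d⁻¹ * p := by rw [e]; group
            rw [this]
            exact mul_mem (inv_mem hd.1) hp
          have c1 : Commute d z := (mem_centralizer_iff.1 hd.2 z hzJ).symm
          have c2 : Commute n z := hfix n (hPH h3) hn
          rw [e]
          exact (c1.mul_left c2).eq
        · exact (par_le_CZ S hP hPs).trans (centralizer_le (Set.singleton_subset_iff.2 hz))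
    obtain ⟨w, hw, c, hcC, hcJ, e⟩ := h.split i z hzJ
    have hw1 : w ≠ 1 := by
      rintro rfl
      exact (hzs i).1 (by rw [e, one_mul]; exact hcC) (self_mem_Ob i)
    refine hw1 ((h.nb i).cent hw fun l hl => ?_)
    have h2 : Commute l z := mem_centralizer_singleton_iff.1 (h1 ((le_sup_right : L i ≤ H) hl))
    have h3 : Commute l c := h.LC i l hl c hcJ hcC
    have e1 : w = z * c⁻¹ := by rw [e]; group
    rw [e1]
    exact (h2.mul_right h3.inv_right).eq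
  obtain ⟨L', V', Z', q', hFB, hirr, hLY, hYL⟩ := hblk Y hY (hYH.trans hHM) hKY
  have hmv : ¬ L' ≤ centralizer (zc (S : Subgroup G) : Set G) := fun hle =>
    hY.not_zc ((hYL.trans (sup_le (MinSimple.VModule.le_centralizer_zc _) hle)).trans
      (centralizer_le_normalizer _))
  obtain ⟨j, hNB, hcj⟩ := h.blkY hFB hirr (hLY.trans (hYH.trans hHM)) hmv
  obtain ⟨zj, hzj, hzjs⟩ := h.exists_zO j
  have hzjC : zj ∉ C j := fun hc => (hzjs j).1 hc (self_mem_Ob j)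
  have hWj := h.W_le_zl hNB hcj hY.le hLY hzj hzjC
  -- `i ∈ O(j)`
  have hij : i ∈ Ob (S : Subgroup G) Z j := by
    by_contra hcon
    have h1 := hcent zj hzj ((hzjs i).2 hcon)
    obtain ⟨w, hw, c, hcC, hcJ, e⟩ := h.split j zj (h.zcS hzj)
    have hw1 : w ≠ 1 := by
      rintro rfl
      exact hzjC (by rw [e, one_mul]; exact hcC)
    refine hw1 (hNB.cent hw fun l hl => ?_)
    have h2 : Commute l zj := h1 l (hYH (hLY hl))
    have h3 : Commute l c := hcj c hcJ hcC l hl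
    have e1 : w = zj * c⁻¹ := by rw [e]; group
    rw [e1]
    exact (h2.mul_right h3.inv_right).eq
  obtain ⟨s, hs, e⟩ := hij
  refine ⟨Y, hY, ?_⟩
  rw [← h.W_cj (h.SB hs) (h.SM hs) e]
  have h2 := cj_mono s hWj
  rwa [cj_eq_of_mem_normalizer (MinSimple.VModule.le_normalizer_zl _ _ (hY.le hs))] at h2

end Fx

/-- **`V* = ⟨V_P : P ∈ P*(S)⟩`** -/
theorem wd_eq (hV : Wd (S : Subgroup G) ≤ ⨆ i, W i)
    (hY : ∀ i, ∃ Y : Subgroup G, IsParS (S : Subgroup G) Y ∧ W i ≤ zl (S : Subgroup G) Y) :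
    Wd (S : Subgroup G) = ⨆ P ∈ {P : Subgroup G | IsParS (S : Subgroup G) P}, zl (S : Subgroup G) P := by
  apply le_antisymm
  · refine hV.trans (iSup_le fun i => ?_)
    obtain ⟨Y, h1, h2⟩ := hY i
    exact h2.trans (le_iSup₂ (f := fun P (_ : P ∈ {P : Subgroup G | IsParS (S : Subgroup G) P}) =>
      zl (S : Subgroup G) P) Y h1)
  · exact iSup₂_le fun P hP => zl_le_Wd hP

section lev

variable {n : ℕ} {Q : Subgroup G} {A : ι → Subgroup G}

theorem of_frL (R : RB S)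
    (fr : FrL (BL (S : Subgroup G) n) Q (Wd (S : Subgroup G)) (zc (lev (S : Subgroup G) n)) (ZL (S : Subgroup G) n)
      L W Z C A 2) (hL : ∀ i, L i ≤ MZ (S : Subgroup G)) :
    Fx S (lev (S : Subgroup G) (n + 1)) (BL (S : Subgroup G) n) (Wd (S : Subgroup G)) (ZL (S : Subgroup G) n)
      (MZ (S : Subgroup G)) L W Z C where
  SM := SM R
  MV := le_norm_Wd
  LM := hL
  lb := OM.SwapL.lb S n
  wc := OM.SwapL.wc S n
  zcB := fr.zcB
  zcS := (NO3S.Level.lev_isLev (S : Subgroup G) (n + 1)).zc_le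
  Vc := wcomm R
  blk := fr.blk
  cardZ := fr.cardZ
  ZJV := fr.ZJV
  Z_le := fr.Z_le
  WV := fr.WV
  CV := fr.CV
  dir := fr.dir
  C0 := fr.C0
  WjC := fr.WjC
  split := fun i z hz => fr.split_ZJ i hz
  LC := fr.LC
  uni := fun L' V' Z' q' hFB hle => by
    obtain ⟨hq, i, hc, hle'⟩ := fr.uni hFB.toMd (hle.trans fr.VX)
    subst hq
    obtain ⟨hZ, hN⟩ := OM.Lev.UniPlus.nb_of fr hFB hc
    exact ⟨i, hZ, hN, hle'⟩

/-- `lev S n ≤ O₂(P)` for all `P ∈ P*(S)` -/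
theorem hall (hX : Wd (S : Subgroup G) ≤ zc (lev (S : Subgroup G) n)) :
    ∀ P : Subgroup G, IsParS (S : Subgroup G) P → lev (S : Subgroup G) n ≤ o2 P := by
  intro P hP
  refine le_trans ?_ (OM.BlkGen.inf_cent (T := (S : Subgroup G)) (H := P)
    ⟨hP.le, S.isPGroup', fun Q _ hQ hle => S.is_maximal' hQ hle⟩ hP.toIsMinPar
    fun hc => hP.not_zc (hc.trans (centralizer_le_normalizer _)))
  refine le_inf (NO3S.Level.lev_le _ _) ?_
  rw [← le_centralizer_iff]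
  intro v hv
  rw [mem_centralizer_iff]
  intro a ha
  exact (mem_zc.1 (hX (zl_le_Wd hP hv))).2.2 a ha

theorem hblk_lev (R : RB S) (hX : Wd (S : Subgroup G) ≤ zc (lev (S : Subgroup G) n)) :
    ∀ Y : Subgroup G, IsParS (S : Subgroup G) Y → ¬ lev (S : Subgroup G) (n + 1) ≤ o2 Y →
      ∃ L' V' Z' : Subgroup G, ∃ q' : ℕ, FB (BL (S : Subgroup G) n) L' V' Z' q' ∧
        (∀ U : Subgroup G, U ≤ V' → L' ≤ normalizer (U : Set G) → U ≤ centralizer (L' : Set G) ∨ V' ≤ U) ∧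
        L' ≤ Y ∧ Y ≤ (S : Subgroup G) ⊔ L' := by
  intro Y hY hn
  obtain ⟨L', V', h1, ⟨⟨Z', q', h2⟩, h3⟩, h4⟩ := OM.LevB.exists_fblk S (T := (S : Subgroup G)) (H := Y) (n := n)
    ⟨hY.le, S.isPGroup', fun Q _ hQ hle => S.is_maximal' hQ hle⟩ (OM.SwapL.lb S n).BS hY.toIsMinPar
    (hY.isLoc.char2 S R.ctx.char2) (hall hX Y hY) hn fun hc => hY.not_zc (hc.trans (centralizer_le_normalizer _))
  exact ⟨L', V', Z', q', h2, h3.irr, h1, h4⟩

/-- **The ground frame of THEOREM SW at stage `n`, `V = V*`.** -/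
theorem lnV (R : RB S)
    (fr : FrL (BL (S : Subgroup G) n) Q (Wd (S : Subgroup G)) (zc (lev (S : Subgroup G) n)) (ZL (S : Subgroup G) n)
      L W Z C A 2) (hL : ∀ i, L i ≤ MZ (S : Subgroup G)) : LnV S (Wd (S : Subgroup G)) Q n L W Z C A := by
  have hFx := of_frL R fr hL
  refine Noff.of_data (PP := {P : Subgroup G | IsParS (S : Subgroup G) P}) R.ctx.char2 R.data.toLow
    (fun P hP => hP) (wd_eq fr.V_eq.le fun i => ?_) fr ?_
  · exact hFx.exists_Y (Merge.isLoc_MZ R.ctx R.full R.data.noff) (fun Y hY _ hK => hblk_lev R fr.VX Y hY hK) i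
  · intro x hx
    have h1 : x ∈ BL (S : Subgroup G) n :=
      ((NO3S.Level.lev_le_succ (S : Subgroup G) n).trans (OM.SwapL.lb S n).KB) hx
    exact (fr.mem_Q x h1).2 fun v hv => (mem_zc.1 (fr.VX hv)).2.2 x hx

/-- **No 2-group `≠ 1` is normalised by `C_G(Z_J)` and all `L i`, stage `n`.** -/
theorem nl_lev (R : RB S)
    (fr : FrL (BL (S : Subgroup G) n) Q (Wd (S : Subgroup G)) (zc (lev (S : Subgroup G) n)) (ZL (S : Subgroup G) n)
      L W Z C A 2) (hL : ∀ i, L i ≤ MZ (S : Subgroup G)) {U : Subgroup G} (hU : IsPGroup 2 U)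
    (hD : centralizer (ZL (S : Subgroup G) n : Set G) ≤ normalizer (U : Set G))
    (hLU : ∀ i, L i ≤ normalizer (U : Set G)) : U = ⊥ :=
  NlLev.nl R (hall fr.VX) (lnV R fr hL) hU hD hLU

end lev

section neg

variable {Q : Subgroup G} {A : ι → Subgroup G} {m : ℕ}

theorem of_fr (R : RB S)
    (fr : Fr (bau (S : Subgroup G)) Q (Wd (S : Subgroup G)) (zj (S : Subgroup G)) L W Z C A 2 m)
    (hL : ∀ i, L i ≤ MZ (S : Subgroup G)) :
    Fx S (jj (S : Subgroup G)) (bau (S : Subgroup G)) (Wd (S : Subgroup G)) (zj (S : Subgroup G))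
      (MZ (S : Subgroup G)) L W Z C where
  SM := SM R
  MV := le_norm_Wd
  LM := hL
  lb := LB.neg S
  wc := OM.UniPlus.wc_bau S
  zcB := fr.zcB
  zcS := zc_le_zj _
  Vc := wcomm R
  blk := fr.blk
  cardZ := fr.cardZ
  ZJV := fr.ZJV
  Z_le := fr.Z_le
  WV := fr.WV
  CV := fr.CV
  dir := fr.dir
  C0 := fr.C0
  WjC := fr.WjC
  split := fun i z hz => fr.split_ZJ i hz
  LC := fr.LC
  uni := fun L' V' Z' q' hFB hle => by
    obtain ⟨hq, i, hc, hle'⟩ := fr.uni hFB.toMd fun w hw v hv => wcomm R w (hle hw) v hv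
    subst hq
    obtain ⟨hZ, hN⟩ := OM.UniPlus.nb_of fr hFB hc
    exact ⟨i, hZ, hN, hle'⟩

theorem hblk_neg (R : RB S) :
    ∀ Y : Subgroup G, IsParS (S : Subgroup G) Y → ¬ jj (S : Subgroup G) ≤ o2 Y →
      ∃ L' V' Z' : Subgroup G, ∃ q' : ℕ, FB (bau (S : Subgroup G)) L' V' Z' q' ∧
        (∀ U : Subgroup G, U ≤ V' → L' ≤ normalizer (U : Set G) → U ≤ centralizer (L' : Set G) ∨ V' ≤ U) ∧
        L' ≤ Y ∧ Y ≤ (S : Subgroup G) ⊔ L' := by
  intro Y hY hn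
  obtain ⟨L', V', ⟨⟨Z', q', h2⟩, h3⟩, h1, h4⟩ := OM.Var.exists_blk (T := (S : Subgroup G)) (H := Y)
    FF.Glob.ffthm S ⟨hY.le, S.isPGroup', fun Q _ hQ hle => S.is_maximal' hQ hle⟩ (bau_le _) hY.toIsMinPar
    (hY.isLoc.char2 S R.ctx.char2) hn fun hc => hY.not_zc (hc.trans (centralizer_le_normalizer _))
  exact ⟨L', V', Z', q', h2, h3.irr, h1, h4.trans (sup_le le_sup_right le_sup_left)⟩

/-- **The ground frame of THEOREM SW at stage `-1`, `V = V*`.** -/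
theorem lineV (R : RB S)
    (fr : Fr (bau (S : Subgroup G)) Q (Wd (S : Subgroup G)) (zj (S : Subgroup G)) L W Z C A 2 (mm (S : Subgroup G)))
    (hL : ∀ i, L i ≤ MZ (S : Subgroup G)) (two : ∀ i : ι, ∃ j, j ≠ i) :
    NegPair.LineV S Q (Wd (S : Subgroup G)) L W Z C A 2 := by
  have hFx := of_fr R fr hL
  refine Noff.neg_of_data (PP := {P : Subgroup G | IsParS (S : Subgroup G) P}) R.ctx.char2
    (R.ctx.sylow_ne_bot S) R.data.toLow (fun P hP => hP) (wd_eq fr.V_eq.le fun i => ?_) fr two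
  exact hFx.exists_Y (Merge.isLoc_MZ R.ctx R.full R.data.noff) (fun Y hY _ hK => hblk_neg R Y hY hK) i

/-- **No 2-group `≠ 1` is normalised by `C_G(Z_J)` and all `L i`, stage `-1`, at least three blocks.** -/
theorem nl_neg (R : RB S)
    (fr : Fr (bau (S : Subgroup G)) Q (Wd (S : Subgroup G)) (zj (S : Subgroup G)) L W Z C A 2 (mm (S : Subgroup G)))
    (hL : ∀ i, L i ≤ MZ (S : Subgroup G)) (h3 : ∀ i j : ι, ∃ l, l ≠ i ∧ l ≠ j) {U : Subgroup G} (hU : IsPGroup 2 U)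
    (hD : centralizer (zj (S : Subgroup G) : Set G) ≤ normalizer (U : Set G))
    (hLU : ∀ i, L i ≤ normalizer (U : Set G)) : U = ⊥ :=
  NlNeg.nl R (lineV R fr hL fun i => by
    obtain ⟨l, hl, -⟩ := h3 i i
    exact ⟨l, hl⟩) h3 hU hD hLU

end neg

end Cfsg.Agent.Omega.NOThreeL.RRed.BFr.VSup

end

section


/-!
# NO-3L, box R, `q ≥ 4`: the groups `C_G(Z_J ∩ C i)` are together nonlocal, stage `n ≥ 0`

`B = C_S(Z_J)`, `Z_J = Ω₁Z(lev S (n+1))`, the frame `LnQ S V Q n L W Z C A q` (any module `V`, any `S`-orbits of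
blocks, one field size `q ≥ 4`); no condition on the stage.

* `nlQ` : in box R no 2-group `≠ 1` is normalised by all `C_G(Z_J ∩ C i)`.
-/

set_option autoImplicit false
set_option linter.unusedSectionVars false

namespace Cfsg.Agent.Omega.NOThreeL.RRed.BFr.NlLev

open Subgroup Cfsg Cfsg.Agent.Omega.MinPar Cfsg.Agent.Omega.Frame Cfsg.Agent.ZN.ChoiceBase Cfsg.Agent.ZN.ChoiceSit
open Cfsg.Agent.ZN (zc o2)
open Cfsg.Agent.Omega.NO3S.Level (lev)
open Cfsg.Agent.Omega.OM.SwapL (ZL BL lb)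
open Cfsg.Agent.Omega.OM.SwapV.Q
open Cfsg.Agent.Omega.NOThreeL.RTree (RB)
open Cfsg.Agent.Omega.OM.LevD (K0)
open Cfsg.Agent.Omega.OM.LevB (FBlk)

universe u

variable {G : Type u} [Group G] [Finite G] {ι : Type} [Finite ι] {S : Sylow 2 G} {V Q : Subgroup G} {n : ℕ}
  {L W Z C A : ι → Subgroup G} {q : ℕ}

/-- **No 2-group `≠ 1` is normalised by `⟨C_G(Z_J), all FF-blocks over B⟩`.** -/
theorem nlK [Nonempty ι] (B : RB S) (hq : 4 ≤ q) (h : LnQ S V Q n L W Z C A q) {R : Subgroup G}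
    (hR : IsPGroup 2 R)
    (hY : K0 (ZL (S : Subgroup G) n) (FBlk (BL (S : Subgroup G) n)) ≤ normalizer (R : Set G)) : R = ⊥ := by
  by_contra hR1
  obtain ⟨O, hO2, hO1, -, -, -, -, hYO, hH⟩ := LnQ.nonLocK main2 h hq hR hR1 hY
  have hG := B.ctx.char2
  refine hO1 (FrameNOFF.eq_bot_of_norm B.ctx S B.full hO2 (fun P hP => ?_) ?_)
  · have hP' : IsParS (S : Subgroup G) P := hP
    exact hYO S P ⟨hP'.le, S.isPGroup', fun Q _ hQ hle => S.is_maximal' hQ hle⟩ (lb S n).BS hP'.toIsMinPar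
      (hP'.isLoc.char2 S hG) fun hc => hP'.not_zc (hc.trans (centralizer_le_normalizer _))
  · have h1 := isLoc_centralizer_zc S (B.ctx.sylow_ne_bot S)
    exact hH _ ((lb S n).BS.trans h1.le) (h1.char2 S hG)

/-- **No 2-group `≠ 1` is normalised by all `C_G(Z_J ∩ C i)`.** -/
theorem nlQ' [Nonempty ι] (B : RB S) (hq : 4 ≤ q) (h : LnQ S V Q n L W Z C A q) {R : Subgroup G}
    (hR : IsPGroup 2 R)
    (hY : ∀ i, centralizer ((ZL (S : Subgroup G) n ⊓ C i : Subgroup G) : Set G) ≤ normalizer (R : Set G)) :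
    R = ⊥ := nlK B hq h hR (h.K0_le.trans (iSup_le hY))

/-- the same, from `Main2` -/
theorem nlQ [Nonempty ι] (B : RB S) (_hm : Main2.{u}) (hq : 4 ≤ q) (h : LnQ S V Q n L W Z C A q) {R : Subgroup G}
    (hR : IsPGroup 2 R)
    (hY : ∀ i, centralizer ((ZL (S : Subgroup G) n ⊓ C i : Subgroup G) : Set G) ≤ normalizer (R : Set G)) :
    R = ⊥ := nlQ' B hq h hR hY

end Cfsg.Agent.Omega.NOThreeL.RRed.BFr.NlLev

end

section


/-!
# NO-3L, box R: (LL) over `B = C_S(Z_J)`, stage `n ≥ 0`, `q = 2`, at least three light pairs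

* `ExBk` : natural `S₃`-blocks (`Tr`): a minimal parabolic over `B` of lower stage which moves `Z_J` has a torus block
  (socket, helper646);
* `NoTor` : no torus blocks in box R (socket, helper630);
* `NoCross` : light pairs with a common letter: no minimal parabolic over `B` of lower stage moves `Z_J` (socket,
  helper646);
* `ll_of` : **(LL)**: every minimal parabolic of characteristic 2 over `B` (Sylow) which moves `Ω₁Z(B)` contains
  `lev S n` in its `O₂`.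
-/

set_option autoImplicit false
set_option linter.unusedSectionVars false

namespace Cfsg.Agent.Omega.NOThreeL.RRed.BFr.LL

open Subgroup Cfsg Cfsg.Agent.Omega.MinPar Cfsg.Agent.Omega.Frame Cfsg.Agent.Omega.FrameNOFF
open Cfsg.Agent.ZN.ChoiceBase Cfsg.Agent.ZN.ChoiceSit
open Cfsg.Agent.ZN (zc zl o2 zj bau jj)
open Cfsg.Agent.MinSimple.MinParabolic (IsMinPar)
open Cfsg.Agent.Omega.NO3S.Level (lev)
open Cfsg.Agent.Omega.OM.SwapL (ZL BL)
open Cfsg.Agent.Omega.OM.SwapV.Lv (LnV)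
open Cfsg.Agent.Omega.OM.Lev.Uni (FrL)
open Cfsg.Agent.Omega.OM.Lev.Low (TorusK.BK TorusK.NA TorusK.stM TorusK.stY)
open Cfsg.Agent.Omega.NOThreeL.RTree (RB)
open Cfsg.Agent.Omega.NOThreeL.Merge (MZ)

universe u

/-- A minimal parabolic over `B` of lower stage which moves `Z_J` has a torus block (natural `S₃`-blocks). -/
def ExBk : Prop :=
  ∀ (G : Type u) [Group G] [Finite G] (ι : Type) [Finite ι] [Nonempty ι] (S : Sylow 2 G) (V Q : Subgroup G) (n : ℕ)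
    (L W Z C A : ι → Subgroup G), LnV S V Q n L W Z C A → OM.Lev.Low.Line.Tr W Z C →
    (∀ i : ι, ∃ j, j ≠ i) → ∀ R : Subgroup G,
    IsMinPar (BL (S : Subgroup G) n) R → Syl (BL (S : Subgroup G) n) R → R ⊓ centralizer (o2 R : Set G) ≤ o2 R →
    ¬ lev (S : Subgroup G) n ≤ o2 R → ¬ R ≤ centralizer (zc (BL (S : Subgroup G) n) : Set G) →
    ∃ j ≤ n, ∃ (l : ι) (K N N1 N0 : Subgroup G),
      TorusK.BK (BL (S : Subgroup G) n) (OM.LevB.BL (S : Subgroup G) j) (zc (lev (S : Subgroup G) j))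
        (TorusK.stM (S : Subgroup G) j) (TorusK.stY (S : Subgroup G) j) W l K N N1 N0 ∧
      TorusK.NA (BL (S : Subgroup G) n) K N

/-- No torus blocks in box R. -/
def NoTor : Prop :=
  ∀ (G : Type u) [Group G] [Finite G] (ι : Type) [Finite ι] (S : Sylow 2 G) (V Q : Subgroup G) (n : ℕ)
    (L W Z C A : ι → Subgroup G), RB S → (∀ P, IsParS (S : Subgroup G) P → lev (S : Subgroup G) n ≤ o2 P) →
    LnV S V Q n L W Z C A → (∀ l m : ι, ∃ r, r ≠ l ∧ r ≠ m) → (∀ i, L i ≤ MZ (S : Subgroup G)) →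
    (∀ i j, ∃ g ∈ MZ (S : Subgroup G), g ∈ normalizer (BL (S : Subgroup G) n : Set G) ∧ cj g (W i) = W j) →
    ∀ j ≤ n, ∀ (l : ι) (K N N1 N0 : Subgroup G),
      TorusK.BK (BL (S : Subgroup G) n) (OM.LevB.BL (S : Subgroup G) j) (zc (lev (S : Subgroup G) j))
        (TorusK.stM (S : Subgroup G) j) (TorusK.stY (S : Subgroup G) j) W l K N N1 N0 →
      TorusK.NA (BL (S : Subgroup G) n) K N → False

/-- Light pairs with a common letter: no minimal parabolic over `B` of lower stage moves `Z_J`. -/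
def NoCross : Prop :=
  ∀ (G : Type u) [Group G] [Finite G] (ι : Type) [Finite ι] (S : Sylow 2 G) (V Q : Subgroup G) (n : ℕ)
    (L W Z C A : ι → Subgroup G), RB S → (∀ P, IsParS (S : Subgroup G) P → lev (S : Subgroup G) n ≤ o2 P) →
    LnV S V Q n L W Z C A → (∀ l m : ι, ∃ r, r ≠ l ∧ r ≠ m) → (∀ i, L i ≤ MZ (S : Subgroup G)) →
    (∀ i j, ∃ g ∈ MZ (S : Subgroup G), g ∈ normalizer (BL (S : Subgroup G) n : Set G) ∧ cj g (W i) = W j) →
    (∀ l, ∃ m, m ≠ l ∧ ∃ g ∈ normalizer (Q : Set G), (∀ p, p ≠ m → ∀ z ∈ Z p, g * z = z * g) ∧ cj g (W l) ≠ W l) →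
    ∀ R : Subgroup G, IsMinPar (BL (S : Subgroup G) n) R → Syl (BL (S : Subgroup G) n) R →
    R ⊓ centralizer (o2 R : Set G) ≤ o2 R → ¬ lev (S : Subgroup G) n ≤ o2 R →
    ¬ R ≤ centralizer (zc (BL (S : Subgroup G) n) : Set G) → False

variable {G : Type u} [Group G] [Finite G] {ι : Type} [Finite ι] {S : Sylow 2 G} {n : ℕ} {Q : Subgroup G}
  {L W Z C A : ι → Subgroup G}

/-- **(LL)** over `B` in box R, stage `n`. -/
theorem ll_of (hX : ExBk.{u}) (hT : NoTor.{u}) (hC : NoCross.{u}) (R : RB S)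
    (fr : FrL (BL (S : Subgroup G) n) Q (Wd (S : Subgroup G)) (zc (lev (S : Subgroup G) n)) (ZL (S : Subgroup G) n)
      L W Z C A 2) (hL : ∀ i, L i ≤ MZ (S : Subgroup G)) (h3 : ∀ l m : ι, ∃ r, r ≠ l ∧ r ≠ m)
    (hM : ∀ i j, ∃ g ∈ MZ (S : Subgroup G), g ∈ normalizer (BL (S : Subgroup G) n : Set G) ∧ cj g (W i) = W j)
    {Y : Subgroup G} (hY : IsMinPar (BL (S : Subgroup G) n) Y) (hs : Syl (BL (S : Subgroup G) n) Y)
    (hc : Y ⊓ centralizer (o2 Y : Set G) ≤ o2 Y)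
    (hZ : ¬ Y ≤ centralizer (zc (BL (S : Subgroup G) n) : Set G)) : lev (S : Subgroup G) n ≤ o2 Y := by
  by_contra hn
  have hln := VSup.lnV R fr hL
  have hne : Nonempty ι := by
    by_contra hcon
    rw [not_nonempty_iff] at hcon
    apply hZ
    have h1 : zc (BL (S : Subgroup G) n) ≤ ⊥ := by
      rw [fr.zcB]
      intro z hz
      rw [mem_bot]
      exact fr.C0 z (fr.ZJV hz) fun i => (hcon.false i).elim
    intro y _
    rw [mem_centralizer_iff]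
    intro z hz
    rw [mem_bot.1 (h1 hz)]
    group
  obtain htr | hcr := TrCross.dich hln fun i j => by
    obtain ⟨g, -, h1, h2⟩ := hM i j
    exact ⟨g, h1, h2⟩
  swap
  · exact hC G ι S _ _ n L W Z C A R (VSup.hall fr.VX) hln h3 hL hM hcr Y hY hs hc hn hZ
  obtain ⟨j, hj, l, K, N, N1, N0, hk, ha⟩ := hX G ι S _ _ n L W Z C A hln htr (fun i => by
    obtain ⟨r, hr, -⟩ := h3 i i
    exact ⟨r, hr⟩) Y hY hs hc hn hZ
  exact hT G ι S _ _ n L W Z C A R (VSup.hall fr.VX) hln h3 hL hM j hj l K N N1 N0 hk ha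

end Cfsg.Agent.Omega.NOThreeL.RRed.BFr.LL

end

end
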