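import Cfsg.Agent.Mrg.Omega.NOThreeL.RRed.BFr.Cut
import Cfsg.Agent.Mrg.Omega.NOThreeL.RRed.BFr.Frame
import Cfsg.Agent.Mrg.Omega.NO3S.Level.Fam
import Cfsg.Agent.Mrg.Omega.OM.Lev.FixPt
import Cfsg.Agent.Mrg.Omega.OM.FrNat
import Cfsg.Agent.Mrg.Omega.OM.Lev.GSym
import Cfsg.Agent.Mrg.Omega.NOThreeL.RRed.FourTree
import Cfsg.Agent.Mrg.Omega.NOThreeL.RRed.BFr.OfFull
import Cfsg.Agent.Mrg.Omega.NOThreeL.RRed.BFr.Off
import Cfsg.Agent.Mrg.Omega.NOThreeL.RWide.LemM
import Cfsg.Agent.Mrg.Omega.EK3.FrStar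
import Cfsg.Agent.Mrg.Omega.EDel.ThmU
import Cfsg.Agent.Mrg.Omega.NOThreeL.Sigma.Loc
import Cfsg.Agent.Mrg.Omega.EDel.Bx.OfFg
import Cfsg.Agent.Mrg.Omega.NOThreeL.RRed.BFr.VSup
import Cfsg.Agent.Mrg.Omega.TC.UniLev
import Cfsg.Agent.Mrg.Omega.EDel.BxW.Base
import Cfsg.Agent.Mrg.Omega.OM.LowV.Line
import Cfsg.Agent.Mrg.Omega.OM.Lev.Main

-- merged: Cfsg.Agent.Mrg.Omega.NOThreeL.RRed.BFr.Stage
section

/-!
# NO-3L, box R: the frame over `B`, stages `-1` and `n ≥ 0`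

* `Bd S D` : `S ≤ M`, `V ≤ S`, `Ω₁(Z(S)) ≤ V`, `C_S(V)` normal in `M`;
* **`Bd.frL`** : stage `n`: `FrL (BL S n) Q V (Ω₁Z(lev S n)) (ZL S n) L W Z C A 2`;
* **`Bd.fr`** : stage `-1`: `Uni.Fr (bau S) Q V (zj S) L W Z C A 2 (mm S)`;
* `card_idx` : the number of pairs.
-/

set_option autoImplicit false
set_option linter.unusedSectionVars false

namespace Cfsg.Agent.Omega.NOThreeL.RRed.BFr

open Subgroup Cfsg Cfsg.Agent.ZN.ChoiceBase
open Cfsg.Agent.ZN (jj zj bau zc)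
open Cfsg.Agent.Omega.SQ1.Bau (mem_sup_comm card_sup_comm elem_comm elem_sq)
open Cfsg.Agent.PLocal.ThompsonJ (isElementaryAbelian_iff)
open Cfsg.Agent.Omega.FFThm (ElemM)
open Cfsg.Agent.Omega.NO3S.OneLine (BFam bo bo_fam)
open Cfsg.Agent.Omega.NO3S.Level (lev Lev lev_isLev nxt BO)
open Cfsg.Agent.Omega.OM.SwapL (BL ZL)
open Cfsg.Agent.Omega.OM.Lev.Uni (FrL)

universe u

variable {G : Type u} [Group G]

/-- The data common to all stages. -/
structure Bd (S : Sylow 2 G) {M V : Subgroup G} {Pt I : Type} [Fintype Pt] [DecidableEq Pt] [DecidableEq I]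
    (_ : Pts M V Pt I) : Prop where
  SM : (S : Subgroup G) ≤ M
  VS : V ≤ (S : Subgroup G)
  ZV : zc (S : Subgroup G) ≤ V
  MQ : ∀ g ∈ M, ∀ x ∈ (S : Subgroup G) ⊓ centralizer (V : Set G), g * x * g⁻¹ ∈ (S : Subgroup G)

/-- `K` moves a letter of every block. -/
def Mvb {M V : Subgroup G} {Pt I : Type} [Fintype Pt] [DecidableEq Pt] [DecidableEq I]
    (D : Pts M V Pt I) (K : Subgroup G) : Prop :=
  ∀ x, ∃ y, D.blk y = D.blk x ∧ ∃ a ∈ K, D.r a y ≠ y

variable {S : Sylow 2 G} {M V : Subgroup G} {Pt I : Type} [Fintype Pt] [DecidableEq Pt] [DecidableEq I]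
  {D : Pts M V Pt I}

theorem V_elem (D : Pts M V Pt I) : IsElementaryAbelian 2 V :=
  isElementaryAbelian_iff.2 ⟨fun x hx y hy => D.comm hx hy, fun x hx => by rw [pow_two]; exact D.sq hx⟩

theorem zc_elem (K : Subgroup G) : IsElementaryAbelian 2 (zc K) :=
  isElementaryAbelian_iff.2 ⟨fun _ hx _ hy => (mem_zc.1 hy).2.2 _ (mem_zc.1 hx).1, fun _ hx => (mem_zc.1 hx).2.1⟩

/-- if `⟨AA⟩ C` moves a letter of the block, and `C` centralises `V`, then a member of `AA` does -/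
theorem mv_of {K C : Subgroup G} {AA : Set (Subgroup G)} (hAM : sSup AA ≤ M) (hCM : C ≤ M)
    (hC : C ≤ centralizer (V : Set G)) (hK : K ≤ C ⊔ sSup AA) (hm : Mvb D K) (x : Pt) :
    ∃ y, D.blk y = D.blk x ∧ ∃ A ∈ AA, ∃ a ∈ A, D.r a y ≠ y := by
  by_contra hcon
  push Not at hcon
  let N : Subgroup G :=
    { carrier := {a | a ∈ M ∧ ∀ y, D.blk y = D.blk x → D.r a y = y}
      mul_mem' := by
        rintro a b ⟨ha, ha'⟩ ⟨hb, hb'⟩
        exact ⟨mul_mem ha hb, fun y hy => by rw [D.r_mul ha hb, Equiv.Perm.mul_apply, hb' y hy, ha' y hy]⟩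
      one_mem' := ⟨one_mem _, fun y _ => by rw [D.r_one]; rfl⟩
      inv_mem' := by
        rintro a ⟨ha, ha'⟩
        exact ⟨inv_mem ha, fun y hy => by rw [D.r_inv ha, Equiv.Perm.inv_eq_iff_eq]; exact (ha' y hy).symm⟩ }
  have h1 : K ≤ N := by
    refine hK.trans (sup_le (fun c hc => ⟨hCM hc, fun y _ => ?_⟩) (sSup_le fun A hA a ha =>
      ⟨hAM ((le_sSup hA) ha), fun y hy => hcon y hy A hA a ha⟩))
    have h2 : D.r c = 1 := (D.r_eq_one_iff (hCM hc)).2 fun v hv => (mem_centralizer_iff.1 (hC hc) v hv).symm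
    rw [h2]; rfl
  obtain ⟨y, hy, a, ha, hay⟩ := hm x
  exact hay ((h1 ha).2 y hy)

namespace Bd

variable (h : Bd S D)
include h

theorem V_le_Q : V ≤ (S : Subgroup G) ⊓ centralizer (V : Set G) := fun v hv =>
  ⟨h.VS hv, mem_centralizer_iff.2 fun u hu => D.comm hu hv⟩

theorem M_norm : M ≤ normalizer (((S : Subgroup G) ⊓ centralizer (V : Set G) : Subgroup G) : Set G) := by
  have key : ∀ m ∈ M, ∀ x ∈ (S : Subgroup G) ⊓ centralizer (V : Set G),
      m * x * m⁻¹ ∈ (S : Subgroup G) ⊓ centralizer (V : Set G) := by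
    intro g hg x hx
    refine ⟨h.MQ g hg x hx, mem_centralizer_iff.2 fun v hv => ?_⟩
    have h1 := D.MV g⁻¹ (inv_mem hg) v hv
    rw [inv_inv] at h1
    have h2 := mem_centralizer_iff.1 hx.2 _ h1
    calc v * (g * x * g⁻¹) = g * ((g⁻¹ * v * g) * x) * g⁻¹ := by group
      _ = g * x * g⁻¹ * v := by rw [h2]; group
  intro m hm
  rw [mem_normalizer_iff]
  intro x
  refine ⟨fun hx => key m hm x hx, fun hx => ?_⟩
  have h1 := key _ (inv_mem hm) _ hx
  have e : m⁻¹ * (m * x * m⁻¹) * m⁻¹⁻¹ = x := by group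
  rwa [e] at h1

variable [Finite G]

section level

variable {n : ℕ} (VX : V ≤ zc (lev (S : Subgroup G) n)) (MK : M ≤ normalizer (lev (S : Subgroup G) n : Set G))
  (mv : Mvb D (lev (S : Subgroup G) (n + 1)))
include VX MK mv

/-- stage `n` -/
theorem lv : Lv S D (zc (lev (S : Subgroup G) n)) (normalizer (zc (lev (S : Subgroup G) n) : Set G))
    (lev (S : Subgroup G) (n + 1)) (bo (S : Subgroup G) (zc (lev (S : Subgroup G) n))) where
  SM := h.SM
  ML := MK.trans (NO3S.Level.normalizer_le_zc _)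
  fam := bo_fam _ _
  elX := zc_elem _
  VX := VX
  VS := h.VS
  MX g hg x hx := (mem_normalizer_iff.1 (NO3S.Level.normalizer_le_zc _ (MK hg)) x).1 hx
  MQ := h.MQ
  AJ A hA := NO3S.Level.BO.le_nxt (by rw [NO3S.OneLine.bo_eq]; exact hA)
  JS := NO3S.Level.lev_le _ _
  Jg := by
    show nxt _ _ ≤ _
    rw [nxt, NO3S.OneLine.bo_eq]
    exact sup_le ((inf_le_inf_left _ (centralizer_le VX)).trans le_sup_right) le_sup_left
  mv := by
    refine mv_of (K := lev (S : Subgroup G) (n + 1)) (C := (S : Subgroup G) ⊓ centralizer (zc (lev (S : Subgroup G) n) : Set G))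
      ?_ (inf_le_left.trans h.SM) (inf_le_right.trans (centralizer_le VX)) ?_ mv
    · exact (sSup_le fun A hA => hA.1).trans h.SM
    · show nxt _ _ ≤ _
      rw [nxt, NO3S.OneLine.bo_eq]

theorem zcQ_lev : zc ((S : Subgroup G) ⊓ centralizer (V : Set G)) ≤ V := by
  refine (h.lv VX MK mv).zcQ h.ZV fun x hx => ?_
  have hx' := mem_zc.1 hx
  refine (lev_isLev (S : Subgroup G) n).mem_of_comm hx'.1.1 hx'.2.1 fun y hy => hx'.2.2 y ?_
  exact ⟨NO3S.Level.lev_le _ n hy, mem_centralizer_iff.2 fun v hv => ((mem_zc.1 (VX hv)).2.2 y hy).symm⟩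

theorem ZJ_lev : ZJ V (lev (S : Subgroup G) (n + 1)) = ZL (S : Subgroup G) n := by
  apply le_antisymm
  · rintro v ⟨hv, hc⟩
    refine mem_zc.2 ⟨NO3S.Level.lev_le_succ _ _ (mem_zc.1 (VX hv)).1, by rw [pow_two]; exact D.sq hv, fun y hy => ?_⟩
    exact mem_centralizer_iff.1 hc y hy
  · have h1 : zc (lev (S : Subgroup G) (n + 1)) ≤ V := by
      refine (h.lv VX MK mv).le_of_cent ?_ h.ZV ?_ (fun w hw j hj => (mem_zc.1 hw).2.2 j hj) fun s hs w hw => ?_
      · exact fun x hx => NO3S.Level.lev_le _ n (mem_zc.1 hx).1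
      · exact (lev_isLev (S : Subgroup G) n).zc_le_zc (NO3S.Level.lev_le_succ _ n) (NO3S.Level.lev_le _ _)
      · refine (mem_normalizer_iff.1 (NO3S.Level.normalizer_le_zc _
          ((lev_isLev (S : Subgroup G) (n + 1)).norm (S : Subgroup G) (NO3S.Level.lev_le _ _) le_rfl
            (le_normalizer hs))) w).1 hw
    exact fun w hw => ⟨h1 hw, mem_centralizer_iff.2 fun j hj => (mem_zc.1 hw).2.2 j hj⟩

/-- **THE FRAME OVER `B`, stage `n`.** -/
theorem frL : ∃ L W Z C A : Idx D (bo (S : Subgroup G) (zc (lev (S : Subgroup G) n))) → Subgroup G,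
    (∀ i, L i ≤ M) ∧ FrL (BL (S : Subgroup G) n) ((S : Subgroup G) ⊓ centralizer (V : Set G)) V
      (zc (lev (S : Subgroup G) n)) (ZL (S : Subgroup G) n) L W Z C A 2 := by
  have hz : Lv.ZcQ (S : Subgroup G) V := fun x h1 h2 h3 =>
    h.zcQ_lev VX MK mv (mem_zc.2 ⟨h1, h2, fun y hy => (h3 y hy).symm⟩)
  obtain ⟨L, A, h1, -, -, h2⟩ := (h.lv VX MK mv).exists_frL hz
  rw [BB, h.ZJ_lev VX MK mv] at h2
  exact ⟨L, _, _, _, A, fun i => (h1 i).trans ((h.lv VX MK mv).XX_le_M i), h2⟩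

end level

section neg

variable (mv : Mvb D (jj (S : Subgroup G)))
include mv

omit h mv in
theorem bfam_AA {U : Subgroup G} (L : Subgroup G) (hU : IsElementaryAbelian 2 U) (hUS : U ≤ (S : Subgroup G)) :
    BFam (S : Subgroup G) U L (AA (S : Subgroup G)) := by
  have h1 := NO3S.Level.bfam_AA (L := L) hU hUS
  exact ⟨h1.le, h1.elem, h1.best, h1.cut, h1.conj⟩

omit mv in
theorem le_zjQ {x : G} (hx : x ∈ zc ((S : Subgroup G) ⊓ centralizer (V : Set G))) :
    x ∈ zc (jj ((S : Subgroup G) ⊓ centralizer (V : Set G))) := by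
  have h1 := mem_zc.1 hx
  have h2 : ∀ y ∈ jj ((S : Subgroup G) ⊓ centralizer (V : Set G)), y * x = x * y := fun y hy =>
    h1.2.2 y (jj_le _ hy)
  exact mem_zc.2 ⟨mem_jj_of_comm h1.1 h1.2.1 h2, h1.2.1, h2⟩

omit mv in
theorem V_le_X : V ≤ zc (jj ((S : Subgroup G) ⊓ centralizer (V : Set G))) := fun v hv =>
  h.le_zjQ (mem_zc.2 ⟨h.V_le_Q hv, by rw [pow_two]; exact D.sq hv, fun y hy =>
    (mem_centralizer_iff.1 hy.2 v hv).symm⟩)

/-- stage `-1` -/
theorem lv_neg : Lv S D (zc (jj ((S : Subgroup G) ⊓ centralizer (V : Set G)))) ⊤ (jj (S : Subgroup G))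
    (AA (S : Subgroup G)) where
  SM := h.SM
  ML := le_top
  fam := bfam_AA _ (zc_elem _) fun x hx => (jj_le _ (mem_zc.1 hx).1).1
  elX := zc_elem _
  VX := h.V_le_X
  VS := h.VS
  MX g hg x hx := (mem_normalizer_iff.1 (NO3S.Level.normalizer_le_zc _ (normalizer_le_jj _ (h.M_norm hg))) x).1 hx
  MQ := h.MQ
  AJ A hA := le_jj hA
  JS := jj_le _
  Jg := by
    rw [Cfsg.Agent.ZN.ChoiceBase.jj_eq]
    exact le_sup_left
  mv := by
    refine mv_of (K := jj (S : Subgroup G)) (C := ⊥) ((sSup_le fun A hA => hA.2.1).trans h.SM) bot_le bot_le ?_ mv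
    rw [Cfsg.Agent.ZN.ChoiceBase.jj_eq]
    exact le_sup_right

theorem zcQ_neg : zc ((S : Subgroup G) ⊓ centralizer (V : Set G)) ≤ V :=
  (h.lv_neg mv).zcQ h.ZV fun _ hx => h.le_zjQ hx

/-- some member of `A(S)` centralises `V` -/
theorem exists_AQ (x : Pt) : ∃ B ∈ AA (S : Subgroup G), B ≤ (S : Subgroup G) ⊓ centralizer (V : Set G) := by
  have hl := h.lv_neg mv
  obtain ⟨y, hy, A, hA, a, ha, hay⟩ := hl.mv x
  obtain ⟨A', hA', ⟨a', ha', ea'⟩, hall⟩ := hl.exists_member hA ha rfl hay.symm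
  have hc := hl.cut_card hA' (Ne.symm hay) ha' ea' hall
  have hf := bfam_AA (S := S) ⊤ (V_elem D) h.VS
  have h1 : A' ⊓ centralizer (V : Set G) ≤ A' := inf_le_left
  have h2 := hf.best A' hA' _ le_rfl h1
  have h3 : V ⊓ centralizer ((A' ⊓ centralizer (V : Set G) : Subgroup G) : Set G) = V :=
    inf_eq_left.2 fun v hv => mem_centralizer_iff.2 fun c hc => (mem_centralizer_iff.1 hc.2 v hv).symm
  rw [h3] at h2
  obtain ⟨B, hB, hBe⟩ := hf.cut A' hA' _ le_rfl h1 (by rw [h3]; exact le_antisymm h2 hc)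
  refine ⟨B, hB, le_inf hB.2.1 ((le_sup_left.trans hBe.le).trans (sup_le inf_le_right le_rfl))⟩

theorem ZJ_neg [Nonempty Pt] : ZJ V (jj (S : Subgroup G)) = zj (S : Subgroup G) := by
  apply le_antisymm
  · rintro v ⟨hv, hc⟩
    have h1 : ∀ y ∈ jj (S : Subgroup G), y * v = v * y := fun y hy => mem_centralizer_iff.1 hc y hy
    have h2 : v ^ 2 = 1 := by rw [pow_two]; exact D.sq hv
    exact mem_zj.2 ⟨mem_jj_of_comm (h.VS hv) h2 h1, h2, h1⟩
  · obtain ⟨B, hB, hBQ⟩ := h.exists_AQ mv (Classical.arbitrary Pt)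
    have hAQ : AA ((S : Subgroup G) ⊓ centralizer (V : Set G)) ⊆ AA (S : Subgroup G) := fun A hA =>
      ⟨hA.1, hA.2.1.trans inf_le_left, fun E hE hES => (hB.2.2 E hE hES).trans (hA.2.2 B hB.1 hBQ)⟩
    have hBA : B ∈ AA ((S : Subgroup G) ⊓ centralizer (V : Set G)) :=
      ⟨hB.1, hBQ, fun E hE hEQ => hB.2.2 E hE (hEQ.trans inf_le_left)⟩
    have hjj : jj ((S : Subgroup G) ⊓ centralizer (V : Set G)) ≤ jj (S : Subgroup G) := by
      rw [Cfsg.Agent.ZN.ChoiceBase.jj_eq, Cfsg.Agent.ZN.ChoiceBase.jj_eq]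
      exact sSup_le fun A hA => le_sSup (hAQ hA)
    have h1 : zj (S : Subgroup G) ≤ V := by
      refine (h.lv_neg mv).le_of_cent (fun x hx => (jj_le _ (mem_zc.1 hx).1).1) h.ZV (fun w hw => ?_)
        (fun w hw j hj => (mem_zj.1 hw).2.2 j hj) fun s hs w hw => ?_
      · have hw' := mem_zj.1 hw
        have h2 : w ∈ B := OM.Lev.Low.mem_of_AA hB (jj_le _ hw'.1) hw'.2.1 fun y hy => hw'.2.2 y (le_jj hB hy)
        exact mem_zc.2 ⟨le_jj hBA h2, hw'.2.1, fun y hy => hw'.2.2 y (hjj hy)⟩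
      · have h2 := normalizer_le_of_cj (F := zj) zj_cj (S : Subgroup G) (le_normalizer hs)
        exact (mem_normalizer_iff.1 h2 w).1 hw
    exact fun w hw => ⟨h1 hw, mem_centralizer_iff.2 fun j hj => (mem_zj.1 hw).2.2 j hj⟩

/-- **THE FRAME OVER `B`, stage `-1`.** -/
theorem fr [Nonempty Pt] : ∃ L W Z C A : Idx D (AA (S : Subgroup G)) → Subgroup G,
    (∀ i, L i ≤ M) ∧ OM.Uni.Fr (bau (S : Subgroup G)) ((S : Subgroup G) ⊓ centralizer (V : Set G)) V
      (zj (S : Subgroup G)) L W Z C A 2 (mm (S : Subgroup G)) := by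
  have hz : Lv.ZcQ (S : Subgroup G) V := fun x h1 h2 h3 =>
    h.zcQ_neg mv (mem_zc.2 ⟨h1, h2, fun y hy => (h3 y hy).symm⟩)
  obtain ⟨L, A, h1, hA, -, h2⟩ := (h.lv_neg mv).exists_frL hz
  rw [BB, h.ZJ_neg mv] at h2
  refine ⟨L, (h.lv_neg mv).W, fun i => zpowers (D.pe (xx i) (yy i)), fun i => Lv.C D i, A, fun i =>
    (h1 i).trans ((h.lv_neg mv).XX_le_M i), ?_⟩
  exact
    { max := OM.Uni.mx_sylow S
      blk := h2.blk
      cardZ := h2.cardZ
      QB := h2.QB
      VQ := h2.VQ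
      el := V_elem D
      mem_Q := h2.mem_Q
      zcQ := h2.zcQ
      mem_ZJ := h2.mem_ZJ
      LV := h2.LV
      LQ := h2.LQ
      WV := h2.WV
      CV := h2.CV
      WC := h2.WC
      dir := h2.dir
      C0 := h2.C0
      WjC := h2.WjC
      BC := h2.BC
      LC := h2.LC
      AB := h2.AB
      Ael := fun i => (hA i).1
      Am := fun i => (mm_eq (hA i)).symm
      Ane := h2.Ane
      AC := h2.AC }

end neg

end Bd

end Cfsg.Agent.Omega.NOThreeL.RRed.BFr

end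

-- merged: Cfsg.Agent.Mrg.Omega.NOThreeL.RRed.HypJOf
section

/-!
# NO-3L, box R: one class of `𝔽₂`-blocks: a level which moves `V*` moves all blocks (#24972 (3), #24413)

* `trans_of_irr` : `V*` irreducible: `M₀` is transitive on the blocks;
* `Fx L N` : the elements of `L` which normalise all blocks; `best_le_fx` : best offenders on `X ≥ V*` lie in it;
* `par_move` : `P ∈ P*(S)`, `J ≤ S ∩ Fx`: `P` normalises `J`, or moves the blocks like `S`;
* **`hypJ_of`** : `Bks S N E ⊥ Om phi`, `M₀` transitive, some level (or `J(S)`) moves `V*`: `HypJ S N`.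
-/

set_option autoImplicit false
set_option linter.unusedSectionVars false

namespace Cfsg.Agent.Omega.NOThreeL.RRed.HypJOf

open Subgroup Cfsg Cfsg.Agent.ZN Cfsg.Agent.ZN.ChoiceBase Cfsg.Agent.Omega.MinPar
open Cfsg.Agent.Omega.Frame Cfsg.Agent.Omega.FrameNOFF
open Cfsg.Agent.Omega.Node.NO3L Cfsg.Agent.Omega.NOThreeL.Basic Cfsg.Agent.Omega.NOThreeL.RTree
open Cfsg.Agent.Omega.NOThreeL.Merge (MZ le_MZ S_le_MZ isLoc_MZ zl_MZ_comm zl_MZ_isPGroup)
open Cfsg.Agent.Omega.NOThreeL.Merge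
open Cfsg.Agent.Omega.NOThreeL.RRed.FourTree (Bks LevX nxtX HypJ)
open Cfsg.Agent.Omega.NOThreeL.RRed.Blk (Dec Co)
open Cfsg.Agent.Omega.NOThreeL.RWide.LemM (smul_of_nor smul_inv_of)
open Cfsg.Agent.Omega.NOThreeL.RRed.BFr (Ofd ofFull ofFull_r fP cI)
open Cfsg.Agent.Omega.NO1.BestOff (Best)
open Cfsg.Agent.Omega.NOThreeL.RRed.GlueSig
open scoped Pointwise

universe u v

variable {G : Type u} [Group G]

section abs

variable {ι : Type v} {S L U : Subgroup G} {N E : ι → Subgroup G}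

/-- An irreducible sum of blocks: `L` is transitive on the blocks. -/
theorem trans_of_irr (h : Dec S L U N E ⊥)
    (hirr : ∀ W : Subgroup G, W ≤ U → L ≤ normalizer (W : Set G) → W ≠ ⊥ → U ≤ W) (b c : ι) :
    ∃ g ∈ L, MulAut.conj g • N b = N c := by
  classical
  by_contra hcon
  push Not at hcon
  set W : Subgroup G := ⨆ d : {d // ∃ g ∈ L, MulAut.conj g • N b = N d}, N d.1 with hW
  have hWU : W ≤ U := iSup_le fun d => h.NU d.1
  have hbW : N b ≤ W := le_iSup (fun d : {d // ∃ g ∈ L, MulAut.conj g • N b = N d} => N d.1)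
    ⟨b, 1, one_mem _, by rw [map_one, one_smul]⟩
  have hWn : L ≤ normalizer (W : Set G) := by
    have key : ∀ g ∈ L, MulAut.conj g • W ≤ W := by
      intro g hg
      rw [hW, show MulAut.conj g • (⨆ d : {d // ∃ g ∈ L, MulAut.conj g • N b = N d}, N d.1) =
        ⨆ d : {d // ∃ g ∈ L, MulAut.conj g • N b = N d}, MulAut.conj g • N d.1 from Subgroup.map_iSup _ _]
      refine iSup_le fun d => ?_
      obtain ⟨k, hk, e⟩ := d.2
      obtain ⟨f, hf, -⟩ := h.perm g hg d.1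
      rw [hf]
      refine le_iSup (fun d : {d // ∃ g ∈ L, MulAut.conj g • N b = N d} => N d.1) ⟨f, g * k, mul_mem hg hk, ?_⟩
      rw [map_mul, mul_smul, e, hf]
    intro g hg
    rw [mem_normalizer_iff]
    intro x
    constructor
    · intro hx
      exact key g hg ⟨x, hx, rfl⟩
    · intro hx
      have h1 : g⁻¹ * (g * x * g⁻¹) * g⁻¹⁻¹ ∈ W := key g⁻¹ (inv_mem hg) ⟨_, hx, rfl⟩
      have e : g⁻¹ * (g * x * g⁻¹) * g⁻¹⁻¹ = x := by group
      rwa [e] at h1
  have h1 : U ≤ W := hirr W hWU hWn fun h0 => h.ne b (by rw [eq_bot_iff, ← h0]; exact hbW)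
  have h2 : W ≤ Co N ⊥ c := iSup_le fun d => h.N_le_Co fun e => by
    obtain ⟨g, hg, hg'⟩ := d.2
    exact hcon g hg (by rw [hg', e])
  apply h.ne c
  rw [eq_bot_iff, ← h.ind c]
  exact le_inf le_rfl ((h.NU c).trans (h1.trans h2))

/-- The elements of `L` which normalise all `N b`. -/
def Fx (L : Subgroup G) (N : ι → Subgroup G) : Subgroup G := L ⊓ ⨅ b, normalizer (N b : Set G)

theorem mem_fx {g : G} : g ∈ Fx L N ↔ g ∈ L ∧ ∀ b, g ∈ normalizer (N b : Set G) := by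
  unfold Fx
  rw [mem_inf, mem_iInf]

theorem mem_nor_iff {A : Subgroup G} {g : G} : g ∈ normalizer (A : Set G) ↔ MulAut.conj g • A = A := by
  refine ⟨smul_of_nor, fun h => ?_⟩
  rw [mem_normalizer_iff]
  intro x
  exact Blk.conj_smul h

theorem fx_norm (h : ∀ g ∈ L, ∀ b, ∃ c, MulAut.conj g • N b = N c) : L ≤ normalizer (Fx L N : Set G) := by
  have key : ∀ g ∈ L, ∀ x ∈ Fx L N, g * x * g⁻¹ ∈ Fx L N := by
    intro g hg x hx
    rw [mem_fx] at hx ⊢
    refine ⟨mul_mem (mul_mem hg hx.1) (inv_mem hg), fun b => ?_⟩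
    obtain ⟨c, hc⟩ := h g⁻¹ (inv_mem hg) b
    have hc' : MulAut.conj g • N c = N b := smul_inv_of hc
    rw [mem_nor_iff, map_mul, map_mul, mul_smul, mul_smul, hc, mem_nor_iff.1 (hx.2 c), hc']
  intro g hg
  rw [mem_normalizer_iff]
  intro x
  constructor
  · exact key g hg x
  · intro hx
    have h1 := key g⁻¹ (inv_mem hg) _ hx
    have e : g⁻¹ * (g * x * g⁻¹) * g⁻¹⁻¹ = x := by group
    rwa [e] at h1

end abs

section full

variable {S M V : Subgroup G} {I : Type u} [Fintype I] [DecidableEq I] {N E : I → Subgroup G} {Om : I → Type u}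
  [∀ i, Fintype (Om i)] [∀ i, DecidableEq (Om i)] {phi : ∀ i, Finset (Om i) → G}

/-- **Best offenders on `X ≥ V` fix all blocks.** -/
theorem best_le_fx [Finite G] (F : TvFin.Full S M V N E ⊥ Om phi) {X A : Subgroup G} (h : Ofd M X A) (hVX : V ≤ X)
    (hX : ∀ x ∈ X, ∀ y ∈ X, x * y = y * x) : A ≤ Fx M N := by
  intro a ha
  have haM := h.AM ha
  refine mem_fx.2 ⟨haM, fun i => ?_⟩
  obtain ⟨τ, σ, h1, -, h3⟩ := F.letters a haM
  have hr := ofFull_r F haM h1 h3
  have h3c := F.three i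
  obtain ⟨x⟩ : Nonempty (Om i) := Fintype.card_pos_iff.1 (by omega)
  have h4 := Ofd.blk_eq (ofFull F) h hVX hX ha ((fP Om).symm ⟨i, x⟩)
  rw [hr] at h4
  have h5 : (cI I).symm (fP Om ((fP Om).symm (Equiv.sigmaCongr τ σ (fP Om ((fP Om).symm ⟨i, x⟩))))).1 =
      (cI I).symm (fP Om ((fP Om).symm ⟨i, x⟩)).1 := h4
  rw [Equiv.apply_symm_apply, Equiv.apply_symm_apply] at h5
  have h6 : τ i = i := (cI I).symm.injective h5
  have h7 := h1 i
  rw [h6] at h7
  exact mem_nor_iff.2 h7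

end full

section par

variable [Finite G] {S : Sylow 2 G} {ι : Type v} {N E : ι → Subgroup G}

/-- `P ∈ P*(S)` normalises `J ≤ S ∩ Fx`, or moves the blocks like `S`. -/
theorem par_move {L : Subgroup G} (hL : ∀ g ∈ L, ∀ b, ∃ c, MulAut.conj g • N b = N c) {P J : Subgroup G}
    (hP : IsParS (S : Subgroup G) P) (hPL : P ≤ L) (hJ : J ≤ Fx L N) (hJS : J ≤ (S : Subgroup G))
    (hJn : (S : Subgroup G) ≤ normalizer (J : Set G)) (hPJ : J ≤ o2 P → P ≤ normalizer (J : Set G)) :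
    ∀ g ∈ P, ∀ b, ∃ s ∈ normalizer (J : Set G), MulAut.conj g • N b = MulAut.conj s • N b := by
  have hn : P ≤ normalizer ((P ⊓ Fx L N : Subgroup G) : Set G) := by
    refine le_trans ?_ (inf_normalizer_le_normalizer_inf)
    exact le_inf le_normalizer (hPL.trans (fx_norm hL))
  rcases hP.toIsPar.sup_eq_or_inf_le S inf_le_left hn with h1 | h1
  · intro g hg b
    rw [← h1, sup_comm] at hg
    obtain ⟨s, hs, m, hm, rfl⟩ := Blk.mem_sup_of (hP.le.trans hn) hg
    refine ⟨s, hJn hs, ?_⟩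
    rw [map_mul, mul_smul, mem_nor_iff.1 ((mem_fx.1 hm.2).2 b)]
  · have h2 : J ≤ o2 P := (le_inf hJS (le_inf (hJS.trans hP.le) hJ)).trans h1
    exact fun g hg b => ⟨g, hPJ h2 hg, rfl⟩

theorem norm_jj {P : Subgroup G} (hP : IsParS (S : Subgroup G) P) (h : jj (S : Subgroup G) ≤ o2 P) :
    P ≤ normalizer (jj (S : Subgroup G) : Set G) := by
  have h1 : o2 P ≤ (S : Subgroup G) := hP.isLoc.o2_le S
  have h2 := jj_eq_of_jj_le h h1
  rw [← h2]
  exact (MinSimple.VModule.le_normalizer_o2 P).trans (normalizer_le_jj _)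

/-- `H` normalises `nxtX S X` if it normalises `X` and the conjugates of `nxtX S X` under `H` lie in `S` -/
theorem norm_nxtX_of {S X H : Subgroup G} (hX : H ≤ normalizer (X : Set G))
    (hgS : ∀ g ∈ H, ∀ x ∈ nxtX S X, g * x * g⁻¹ ∈ S) : H ≤ normalizer (nxtX S X : Set G) := by
  have key : ∀ g ∈ H, MulAut.conj g • nxtX S X ≤ nxtX S X := by
    intro g hg
    have hc1 : S ⊓ centralizer (X : Set G) ≤ nxtX S X := le_sup_left
    have hA1 : ∀ A, A ≤ S → Best X A → A ≤ nxtX S X := fun A h1 h2 =>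
      (le_sSup (show A ∈ {A | A ≤ S ∧ Best X A} from ⟨h1, h2⟩)).trans le_sup_right
    have hgO := hgS g hg
    conv_lhs => unfold nxtX
    rw [smul_sup]
    refine sup_le ?_ ?_
    · refine le_trans ?_ hc1
      rintro _ ⟨c, hc, rfl⟩
      refine ⟨hgO c (hc1 hc), ?_⟩
      change g * c * g⁻¹ ∈ centralizer (X : Set G)
      rw [mem_centralizer_iff]
      intro x hx
      have h1 : g⁻¹ * x * g ∈ X := by
        have h2 := (mem_normalizer_iff.1 (inv_mem (hX hg)) x).1 hx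
        rwa [inv_inv] at h2
      have h3 := mem_centralizer_iff.1 hc.2 _ h1
      calc x * (g * c * g⁻¹) = g * ((g⁻¹ * x * g) * c) * g⁻¹ := by group
        _ = g * c * g⁻¹ * x := by rw [h3]; group
    · rw [sSup_eq_iSup', show MulAut.conj g • (⨆ A : {A | A ≤ S ∧ Best X A}, (A : Subgroup G)) =
        ⨆ A : {A | A ≤ S ∧ Best X A}, MulAut.conj g • (A : Subgroup G) from Subgroup.map_iSup _ _]
      refine iSup_le fun A => ?_
      refine hA1 _ ?_ (A.2.2.conj_smul (hX hg))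
      rintro _ ⟨a, ha, rfl⟩
      exact hgO a (hA1 A A.2.1 A.2.2 ha)
  intro g hg
  rw [mem_normalizer_iff]
  intro x
  constructor
  · intro hx
    exact key g hg ⟨x, hx, rfl⟩
  · intro hx
    have h1 : g⁻¹ * (g * x * g⁻¹) * g⁻¹⁻¹ ∈ nxtX S X := key g⁻¹ (inv_mem hg) ⟨_, hx, rfl⟩
    have e : g⁻¹ * (g * x * g⁻¹) * g⁻¹⁻¹ = x := by group
    rwa [e] at h1

theorem nxtX_le (S X : Subgroup G) : nxtX S X ≤ S := sup_le inf_le_left (sSup_le fun _ hA => hA.1)

/-- `nxtX S X` is normal in `P ≤ N(X)` if it lies in `O₂(P)` -/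
theorem norm_nxtX {P X : Subgroup G} (hP : IsParS (S : Subgroup G) P) (hX : P ≤ normalizer (X : Set G))
    (h : nxtX (S : Subgroup G) X ≤ o2 P) : P ≤ normalizer (nxtX (S : Subgroup G) X : Set G) :=
  norm_nxtX_of hX fun _ hg x hx =>
    hP.isLoc.o2_le S ((mem_normalizer_iff.1 (MinSimple.VModule.le_normalizer_o2 P hg) x).1 (h hx))

end par

section main

variable [Finite G] {S : Sylow 2 G}

/-- `V* ≤ S`, elementary abelian -/
theorem wd_le (B : RB S) : Wd (S : Subgroup G) ≤ (S : Subgroup G) :=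
  le_of_le_normalizer S (zl_MZ_isPGroup B.ctx B.data.noff)
    ((S_le_MZ B.ctx B.full).trans (MinSimple.VModule.le_normalizer_zl (S : Subgroup G) (MZ (S : Subgroup G))))

/-- Thompson: `A ∈ 𝒜(S)` is a best offender on every elementary abelian `U ≤ S`. -/
theorem best_of_AA {T U A : Subgroup G} (hU : ∀ x ∈ U, ∀ y ∈ U, x * y = y * x) (hU2 : ∀ x ∈ U, x ^ 2 = 1) (hUT : U ≤ T)
    (hA : A ∈ AA T) : Best U A where
  sq := fun a ha => by rw [(PLocal.ThompsonJ.isElementaryAbelian_iff.1 hA.1).2 a ha]; exact one_mem _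
  comm := fun a ha b hb => by
    have e := (PLocal.ThompsonJ.isElementaryAbelian_iff.1 hA.1).1 a ha b hb
    have e2 : a * b * a⁻¹ * b⁻¹ = 1 := by rw [e]; group
    rw [e2]; exact one_mem _
  max := fun F hF2 _ => by
    have hc : F ≤ centralizer ((U ⊓ centralizer (F : Set G) : Subgroup G) : Set G) := fun f hf =>
      mem_centralizer_iff.2 fun v hv => (mem_centralizer_iff.1 hv.2 f hf).symm
    have hFe := PLocal.ThompsonJ.isElementaryAbelian_mono hA.1 hF2
    have hUe : IsElementaryAbelian 2 U := PLocal.ThompsonJ.isElementaryAbelian_iff.2 ⟨hU, hU2⟩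
    have hCe := PLocal.ThompsonJ.isElementaryAbelian_mono hUe (inf_le_left (b := centralizer (F : Set G)))
    have h1 := Cfsg.Agent.PLocal.ElemAbSup.isElementaryAbelian_sup hCe hFe hc
    have h2 := hA.2.2 _ h1 (sup_le (inf_le_left.trans hUT) (hF2.trans hA.2.1))
    have h3 := Cfsg.Agent.PLocal.ElemAbSup.card_sup_mul_card_inf hc
    have h4 : Nat.card ↥((U ⊓ centralizer (F : Set G)) ⊓ F) ≤ Nat.card ↥(U ⊓ centralizer (A : Set G)) := by
      refine Subgroup.card_le_of_le (le_inf (inf_le_left.trans inf_le_left) fun x hx =>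
        mem_centralizer_iff.2 fun a ha => ?_)
      exact congrArg (fun t : A => (t : G)) (hA.1.1.is_comm.comm ⟨a, ha⟩ ⟨x, hF2 hx.2⟩)
    calc Nat.card F * Nat.card ↥(U ⊓ centralizer (F : Set G)) =
        Nat.card ↥(U ⊓ centralizer (F : Set G)) * Nat.card F := mul_comm _ _
      _ = _ := h3.symm
      _ ≤ _ := Nat.mul_le_mul h2 h4

theorem ofd_of {M X A : Subgroup G} (hAS : A ≤ (S : Subgroup G)) (hSM : (S : Subgroup G) ≤ M) (h : Best X A) :
    Ofd M X A where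
  AM := hAS.trans hSM
  p := S.isPGroup'.to_le hAS
  el := h.toElemM
  best := fun F h1 h2 => h.max F h2 h1

variable {I : Type u} [Fintype I] [DecidableEq I] {N E : I → Subgroup G} {Om : I → Type u}
  [∀ i, Fintype (Om i)] [∀ i, DecidableEq (Om i)] {phi : ∀ i, Finset (Om i) → G}

/-- **A level which moves `V*` moves all blocks.** -/
theorem hypJ_of (B : RB S) (hB : Bks S N E ⊥ Om phi)
    (tr : ∀ b c, ∃ g ∈ MZ (S : Subgroup G), MulAut.conj g • N b = N c)
    (hl : ¬ jj (S : Subgroup G) ≤ centralizer (Wd (S : Subgroup G) : Set G) ∨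
      ∃ K X, LevX (S : Subgroup G) K X ∧ ¬ nxtX (S : Subgroup G) X ≤ centralizer (Wd (S : Subgroup G) : Set G)) :
    HypJ (S : Subgroup G) N := by
  have hG := B.ctx
  have hSM := S_le_MZ hG B.full
  have hperm : ∀ g ∈ MZ (S : Subgroup G), ∀ b, ∃ c, MulAut.conj g • N b = N c := fun g hg b => by
    obtain ⟨c, hc, -⟩ := hB.toDec.perm g hg b
    exact ⟨c, hc⟩
  have hMZ : MZ (S : Subgroup G) = sSup {P | IsParS (S : Subgroup G) P} := rfl
  have hsup : (⨆ b, N b) = Wd (S : Subgroup G) := by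
    have := hB.toDec.sup
    rwa [sup_bot_eq] at this
  -- `J` moves a block
  have hmv : ∀ J : Subgroup G, ¬ J ≤ centralizer (Wd (S : Subgroup G) : Set G) →
      ∃ b, ¬ J ≤ centralizer (N b : Set G) := by
    intro J hJ
    by_contra hcon
    push Not at hcon
    apply hJ
    rw [le_centralizer_iff, ← hsup]
    exact iSup_le fun b => le_centralizer_iff.1 (hcon b)
  have main : ∀ J : Subgroup G, J ≤ (S : Subgroup G) → (S : Subgroup G) ≤ normalizer (J : Set G) →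
      J ≤ Fx (MZ (S : Subgroup G)) N → (∀ P, IsParS (S : Subgroup G) P → J ≤ o2 P → P ≤ normalizer (J : Set G)) →
      ¬ J ≤ centralizer (Wd (S : Subgroup G) : Set G) → ∀ b, ¬ J ≤ centralizer (N b : Set G) := by
    intro J h1 h2 h3 h4 h5
    refine RWide.LemM.mv_all (PP := {P | IsParS (S : Subgroup G) P}) hperm ?_ tr (hmv J h5)
    intro P hP
    exact par_move hperm hP (le_MZ hP) h3 h1 h2 (h4 P hP)
  have hab : ∀ x ∈ Wd (S : Subgroup G), ∀ y ∈ Wd (S : Subgroup G), x * y = y * x := fun x hx y hy =>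
    hB.toDec.ucomm hx hy
  rcases hl with hj | ⟨K, X, hKX, hj⟩
  · left
    refine main _ (ChoiceBase.jj_le _) (le_normalizer.trans (normalizer_le_jj _)) ?_ (fun P hP h => norm_jj hP h) hj
    rw [jj_eq]
    refine sSup_le fun A hA => ?_
    exact best_le_fx hB.toFull (ofd_of hA.2.1 hSM (best_of_AA hab (zl_MZ_sq hG.char2 B.data.noff) (wd_le B) hA)) le_rfl hab
  · right
    refine ⟨K, X, hKX, main _ ?_ ?_ ?_ (fun P hP h => norm_nxtX hP ((le_MZ hP).trans hKX.MX) h) hj⟩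
    · exact nxtX_le _ _
    · exact norm_nxtX_of (hSM.trans hKX.MX) fun g hg x hx =>
        mul_mem (mul_mem hg (nxtX_le _ _ hx)) (inv_mem hg)
    · have hXc : ∀ x ∈ X, ∀ y ∈ X, x * y = y * x := fun x hx y hy => MinSimple.VModule.zc_comm _ _ (hKX.Xle hx) _ (hKX.Xle hy)
      refine sup_le ?_ (sSup_le fun A hA => best_le_fx hB.toFull (ofd_of hA.1 hSM hA.2) hKX.VX hXc)
      rintro c ⟨hcS, hcX⟩
      refine mem_fx.2 ⟨hSM hcS, fun b => ?_⟩
      exact hB.toDec.EN b (hB.toDec.CE b ⟨hSM hcS, centralizer_le hKX.VX hcX⟩)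

end main

end Cfsg.Agent.Omega.NOThreeL.RRed.HypJOf

end

-- merged: Cfsg.Agent.Mrg.Omega.EDel.Bx.Par
section

/-!
# The universal frame over `B`, `q = 2` : the groups `Y_j = C_G(z_l : l ≠ j)` and `N_j = ⟨z_j^(Y_j)⟩`

* `Bx.parY` : a `B`-minimal `R ≤ Y_j` is in `D` or normalises `W j` and is transitive on `W j - 1`;
* `Bx.genY` (QP) : `K ≤ Y_j`, `Y_j ≤ N(K)`, `K ≰ C(N_j)` gives `Y_j ≤ K D`;
* `Bx.W_le_N`, `Bx.Q_eq` : `O₂(Y_j) = C_O(N_j)`, `Bx.eab_N`, `Bx.N_comm`, `Bx.conj` : `N_G(B)` permutes `z`, `Y`, `N`;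
* `Bx.no` : (NO) for `Y_j` on `N_j`.
-/

set_option autoImplicit false
set_option linter.unusedSectionVars false

namespace Cfsg.Agent.Omega.EDel.BxF

open Subgroup Cfsg Cfsg.Agent.ZN.ChoiceBase
open Cfsg.Agent.ZN (zc zl o2)
open Cfsg.Agent.ZN.ChoiceSit (Syl o2_le_syl)
open Cfsg.Agent.Omega.NO3S.EThree.ExactA (eab_mono eab_sup eab_iff)
open Cfsg.Agent.Omega.EK3 (CT mem_CT CT_mono ET ZJ_le_ET CT_norm_ET V_le_ET CT_compl_le CT_compl_le' Yc mem_Yc Nc
  Y_norm_V Y_norm_N)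
open Cfsg.Agent.Omega.EK3.Rank (NoOn)
open Cfsg.Agent.MinSimple.MinParabolic (IsMinPar le_of_forall)
open Cfsg.Agent.MinSimple.VModule (zc_le normalizer_le_normalizer_zc le_normalizer_o2 o2_isPGroup le_o2 o2_le
  le_centralizer_zc)
open scoped Pointwise

universe u

variable {G : Type u} [Group G]

/-- a nontrivial element of a four-group -/
theorem eq_of_four [Finite G] {W : Subgroup G} (h4 : Nat.card W = 4) (hsq : ∀ x ∈ W, x ^ 2 = 1) {a b x : G} (ha : a ∈ W)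
    (ha1 : a ≠ 1) (hb : b ∈ W) (hb1 : b ≠ 1) (hab : a ≠ b) (hx : x ∈ W) (hx1 : x ≠ 1) : x = a ∨ x = b ∨ x = a * b :=
  NO3S.eq_of_card_four h4 hsq ha ha1 hb hb1 hab hx hx1

/-- `N_j` is the smallest `Y_j`-invariant subgroup containing `z j` -/
theorem N_le_of {ι : Type} {z : ι → G} {j : ι} {U : Subgroup G} (hz : z j ∈ U)
    (hU : Yc z j ≤ normalizer (U : Set G)) : Nc z j ≤ U := by
  refine NoFF.Basic.V_le fun g hg => ?_
  rw [← NOThreeL.Pair.conj_eq_of_mem (hU hg)]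
  exact NoFF.Basic.conj_le_iff.2 (by rw [zpowers_le]; exact hz)

namespace Bx

variable [Finite G] {B J ZJ : Subgroup G} {ι : Type} {W : ι → Subgroup G} {z : ι → G} (h : Bx B J ZJ W z)
include h

/-- `R` over `B` in `C_T` has characteristic 2 -/
theorem char2_of {T : Set ι} (hT : T.Nonempty) {R : Subgroup G} (hB : B ≤ R) (hR : R ≤ CT z T) :
    R ⊓ centralizer (o2 R : Set G) ≤ o2 R := by
  have h1 : o2 (CT z T) ≤ o2 R :=
    le_o2 ((h.o2_CT_le_B T).trans hB) (o2_isPGroup _) (hR.trans (le_normalizer_o2 _))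
  rintro x ⟨hx, hxc⟩
  exact h1 (h.char2_CT hT ⟨hR hx, centralizer_le (by exact_mod_cast h1) hxc⟩)

/-- the members of `𝒫(X, B)` which move `ZJ`, if `N_X(B) ≤ D` and `B` is Sylow in `X` -/
theorem parX {T : Set ι} (hT : T.Nonempty) (hs : Syl B (CT z T))
    (hN : CT z T ⊓ normalizer (B : Set G) ≤ centralizer (ZJ : Set G)) {R : Subgroup G} (hR : IsMinPar B R)
    (hRX : R ≤ CT z T) (hD : ¬ R ≤ centralizer (ZJ : Set G)) :
    ∃ i, R ≤ normalizer (W i : Set G) ∧ ∀ l, l ≠ i → R ≤ centralizer ({z l} : Set G) := by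
  obtain ⟨l, hl⟩ := hT
  have hs' : Syl B R := ⟨hR.le, h.two, fun Q hQ h2 hBQ => hs.2.2 Q (hQ.trans hRX) h2 hBQ⟩
  refine h.par R ⟨l, fun x hx => mem_centralizer_singleton_iff.2 (mem_CT.1 (hRX hx) l hl)⟩ hR
    hs' (h.char2_of ⟨l, hl⟩ hR.le hRX) ?_ hD
  intro hJ
  apply hD
  have h1 : R ≤ normalizer (ZJ : Set G) := (le_normalizer_o2 R).trans (h.nJ _ (o2_isPGroup R) hJ (o2_le_syl hs'))
  intro r hr
  obtain ⟨d, hd, n, hn, rfl⟩ := h.frattini (h1 hr)
  have h2 : n ∈ CT z T := by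
    have := mul_mem (inv_mem (h.D_le_CT T hd)) (hRX hr)
    rwa [inv_mul_cancel_left] at this
  exact mul_mem hd (hN ⟨h2, hn⟩)

/-- a subgroup over `B` which normalises `W j` and moves `z j` is transitive on `W j - 1` -/
theorem trans_of {j : ι} {R : Subgroup G} (hB : B ≤ R) (hN : R ≤ normalizer (W j : Set G))
    (hm : ¬ R ≤ centralizer ({z j} : Set G)) {x : G} (hx : x ∈ W j) (hx1 : x ≠ 1) :
    ∃ r ∈ R, r * z j * r⁻¹ = x := by
  by_cases hxz : x = z j
  · exact ⟨1, one_mem _, by rw [hxz]; group⟩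
  obtain ⟨r, hr, hrz⟩ : ∃ r ∈ R, r * z j * r⁻¹ ≠ z j := by
    by_contra hcon
    push Not at hcon
    exact hm fun r hr => mem_centralizer_singleton_iff.2 (mul_inv_eq_iff_eq_mul.1 (hcon r hr))
  have h1 : r * z j * r⁻¹ ∈ W j := (mem_normalizer_iff.1 (hN hr) _).1 (h.zW j)
  have h2 : r * z j * r⁻¹ ≠ 1 := fun e => h.ne j (conj_eq_one_iff.1 e)
  by_cases hrx : r * z j * r⁻¹ = x
  · exact ⟨r, hr, hrx⟩
  obtain ⟨b, hb, hbe⟩ := h.swap h1 h2 hrz
  refine ⟨b * r, mul_mem (hB hb) hr, ?_⟩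
  have e : b * r * z j * (b * r)⁻¹ = b * (r * z j * r⁻¹) * b⁻¹ := by group
  rw [e, hbe]
  rcases eq_of_four (h.cardW j) (h.sqW j) (h.zW j) (h.ne j) h1 h2 (Ne.symm hrz) hx hx1 with h3 | h3 | h3
  · exact absurd h3 hxz
  · exact absurd h3.symm hrx
  · exact h3.symm

/-- **the minimal parabolics of `Y_j` over `B`** -/
theorem parY {j : ι} {R : Subgroup G} (hR : IsMinPar B R) (hRY : R ≤ Yc z j) :
    R ≤ centralizer (ZJ : Set G) ∨ (R ≤ normalizer (W j : Set G) ∧ ¬ R ≤ centralizer ({z j} : Set G) ∧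
      ∀ x ∈ W j, x ≠ 1 → ∃ r ∈ R, r * z j * r⁻¹ = x) := by
  by_cases hD : R ≤ centralizer (ZJ : Set G)
  · exact Or.inl hD
  right
  obtain ⟨i, hi, hl⟩ := h.parX (compl_one_ne h.three j) (h.syl_Y j) (h.norm_Y j) hR hRY hD
  have hij : i = j := by
    by_contra hne
    apply hD
    intro x hx
    refine h.mem_D fun l => ?_
    by_cases hlj : l = j
    · exact mem_centralizer_singleton_iff.1 (hl l (by rw [hlj]; exact Ne.symm hne) hx)
    · exact mem_Yc.1 (hRY hx) l hlj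
  subst hij
  have hm : ¬ R ≤ centralizer ({z i} : Set G) := fun hc => hD (by
    rw [← h.stab i]; exact le_inf hRY hc)
  exact ⟨hi, hm, fun x hx hx1 => h.trans_of hR.le hi hm hx hx1⟩

/-- **(QP)** -/
theorem genY {j : ι} {K : Subgroup G} (hK : K ≤ Yc z j) (hn : Yc z j ≤ normalizer (K : Set G))
    (hc : ¬ K ≤ centralizer (Nc z j : Set G)) : Yc z j ≤ K ⊔ centralizer (ZJ : Set G) := by
  have hKD : ¬ K ≤ centralizer (ZJ : Set G) := by
    intro hKD
    apply hc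
    rw [le_centralizer_iff]
    refine N_le_of ?_ ?_
    · rw [mem_centralizer_iff]
      exact fun k hk => h.D_comm (hKD hk) j
    · intro y hy
      rw [mem_normalizer_iff_cj, cj_centralizer, cj_eq_of_mem_normalizer (hn hy)]
  have hBK : B ≤ K ⊔ B := le_sup_right
  have hKY : K ⊔ B ≤ Yc z j := sup_le hK (h.B_le j)
  obtain ⟨R', hR', hR'K, hR'D⟩ : ∃ R', IsMinPar B R' ∧ R' ≤ K ⊔ B ∧ ¬ R' ≤ centralizer (ZJ : Set G) := by
    by_contra hcon
    push Not at hcon
    apply hKD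
    have h1 : K ⊔ B ≤ centralizer (ZJ : Set G) :=
      le_of_forall hBK ((inf_le_inf_right _ hKY).trans (h.norm_Y j)) fun R hR hRK => hcon R hR hRK
    exact le_sup_left.trans h1
  rcases h.parY hR' (hR'K.trans hKY) with h1 | ⟨-, -, ht⟩
  · exact absurd h1 hR'D
  refine le_of_forall (h.B_le j) ((h.norm_Y j).trans le_sup_right) fun R hR hRY => ?_
  rcases h.parY hR hRY with h1 | ⟨hRW, -, -⟩
  · exact h1.trans le_sup_right
  intro r hr
  have h1 : r * z j * r⁻¹ ∈ W j := (mem_normalizer_iff.1 (hRW hr) _).1 (h.zW j)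
  have h2 : r * z j * r⁻¹ ≠ 1 := fun e => h.ne j (conj_eq_one_iff.1 e)
  obtain ⟨y, hy, hye⟩ := ht _ h1 h2
  have hyY : y ∈ Yc z j := hKY (hR'K hy)
  have h3 : y⁻¹ * r ∈ centralizer (ZJ : Set G) := by
    rw [← h.stab j]
    refine mem_inf.2 ⟨mul_mem (inv_mem hyY) (hRY hr), mem_centralizer_singleton_iff.2 ?_⟩
    refine mul_inv_eq_iff_eq_mul.1 ?_
    calc y⁻¹ * r * z j * (y⁻¹ * r)⁻¹ = y⁻¹ * (r * z j * r⁻¹) * y := by group
      _ = y⁻¹ * (y * z j * y⁻¹) * y := by rw [hye]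
      _ = z j := by group
  have h4 : y ∈ K ⊔ centralizer (ZJ : Set G) := (sup_le_sup_left h.BD K) (hR'K hy)
  have h5 := mul_mem h4 ((le_sup_right : centralizer (ZJ : Set G) ≤ K ⊔ _) h3)
  rwa [mul_inv_cancel_left] at h5

/-! ### `N_j` -/

/-- `N_j ≤ E_T` for `j ∉ T` -/
theorem N_le_ET {T : Set ι} {j : ι} (hj : j ∉ T) : Nc z j ≤ ET ZJ z T :=
  V_le_ET (zpowers_le.2 (h.zJ j)) (CT_mono fun l hl => by
    rw [Set.mem_compl_iff, Set.mem_singleton_iff]
    exact fun e => hj (e ▸ hl))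

theorem eab_N (j : ι) : IsElementaryAbelian 2 (Nc z j) :=
  eab_mono (h.eab_ET (compl_one_ne h.three j)) (h.N_le_ET (by simp))

theorem N_le_O (j : ι) : Nc z j ≤ o2 (centralizer (ZJ : Set G)) :=
  (h.N_le_ET (T := {j}ᶜ) (by simp)).trans (h.ET_le_O (compl_one_ne h.three j))

theorem N_comm (i j : ι) : Nc z i ≤ centralizer (Nc z j : Set G) := by
  have he := (eab_iff.1 (h.eab_ET (compl_two_ne h.three i j))).1
  intro x hx
  rw [mem_centralizer_iff]
  intro y hy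
  exact mem_centralizer_iff.1 (he (h.N_le_ET (by simp) hx)) y (h.N_le_ET (by simp) hy)

theorem o2Y_le_B (j : ι) : o2 (Yc z j) ≤ B := o2_le_syl (h.syl_Y j)

theorem O_le_B : o2 (centralizer (ZJ : Set G)) ≤ B := o2_le_syl h.syl

theorem O_le_Y (j : ι) : o2 (centralizer (ZJ : Set G)) ≤ Yc z j := h.O_le_B.trans (h.B_le j)

theorem o2_le_O (j : ι) : o2 (Yc z j) ≤ o2 (centralizer (ZJ : Set G)) :=
  le_o2 ((h.o2Y_le_B j).trans h.BD) (o2_isPGroup _) ((h.D_le j).trans (le_normalizer_o2 _))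

theorem N_le_zc (j : ι) : Nc z j ≤ zc (o2 (Yc z j)) :=
  (h.N_le_ET (T := {j}ᶜ) (by simp)).trans (h.ET_le_zc (compl_one_ne h.three j))

theorem o2_le_cent (j : ι) : o2 (Yc z j) ≤ centralizer (Nc z j : Set G) :=
  (le_centralizer_zc _).trans (centralizer_le (h.N_le_zc j))

/-- `C_{Y_j}(N_j) ≤ D` -/
theorem cent_le (j : ι) : Yc z j ⊓ centralizer (Nc z j : Set G) ≤ centralizer (ZJ : Set G) := by
  rw [← h.stab j]
  exact le_inf inf_le_left (inf_le_right.trans (centralizer_le (Set.singleton_subset_iff.2 (h.mem_N j))))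

omit h [Finite G] in
theorem Y_norm_cent (j : ι) :
    Yc z j ≤ normalizer ((Yc z j ⊓ centralizer (Nc z j : Set G) : Subgroup G) : Set G) := by
  intro g hg
  rw [mem_normalizer_iff_cj, cj_inf, cj_centralizer, cj_eq_of_mem_normalizer (Y_norm_N j hg),
    cj_eq_of_mem_normalizer (Subgroup.le_normalizer hg)]

/-- **`O₂(Y_j) = C_O(N_j)`** -/
theorem Q_eq (j : ι) : o2 (Yc z j) = o2 (centralizer (ZJ : Set G)) ⊓ centralizer (Nc z j : Set G) := by
  apply le_antisymm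
  · exact le_inf (h.o2_le_O j) (h.o2_le_cent j)
  · set X := Yc z j ⊓ centralizer (Nc z j : Set G) with hX
    have h1 : o2 (centralizer (ZJ : Set G)) ⊓ centralizer (Nc z j : Set G) ≤ o2 X := by
      refine le_o2 (le_inf (inf_le_left.trans (h.O_le_Y j)) inf_le_right) ((o2_isPGroup _).to_le inf_le_left) ?_
      intro x hx
      have hxD : x ∈ normalizer (o2 (centralizer (ZJ : Set G)) : Set G) := le_normalizer_o2 _ (h.cent_le j hx)
      have hxN : x ∈ normalizer (Nc z j : Set G) := Y_norm_N j hx.1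
      rw [mem_normalizer_iff_cj, cj_inf, cj_centralizer, cj_eq_of_mem_normalizer hxD,
        cj_eq_of_mem_normalizer hxN]
    refine h1.trans (le_o2 ((o2_le _).trans inf_le_left) (o2_isPGroup _) ?_)
    refine (Y_norm_cent j).trans ?_
    exact normalizer_le_of_cj (F := o2) (fun g T => Cfsg.Agent.ZN.ChoiceSit.o2_cj g T) X

/-- `W j ≤ N_j` -/
theorem W_le_N (j : ι) : W j ≤ Nc z j := by
  obtain ⟨ρ, hρ, hρW, hρz⟩ := h.rho j
  have hρY : ρ ∈ Yc z j := mem_Yc.2 fun l hl => hρ l hl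
  have h1 : ρ * z j * ρ⁻¹ ∈ Nc z j := (mem_normalizer_iff.1 (Y_norm_N j hρY) _).1 (h.mem_N j)
  have h2 : ρ * z j * ρ⁻¹ ≠ 1 := fun e => h.ne j (conj_eq_one_iff.1 e)
  intro x hx
  by_cases hx1 : x = 1
  · rw [hx1]; exact one_mem _
  rcases eq_of_four (h.cardW j) (h.sqW j) (h.zW j) (h.ne j) hρW h2 (Ne.symm hρz) hx hx1 with e | e | e
  · rw [e]; exact h.mem_N j
  · rw [e]; exact h1
  · rw [e]; exact mul_mem (h.mem_N j) h1

/-- `ZJ^y ≤ N_i ZJ` for `y ∈ Y_i` -/
theorem ZN (i : ι) {y : G} (hy : y ∈ Yc z i) : cj y ZJ ≤ Nc z i ⊔ ZJ := by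
  refine (cj_mono y h.gen).trans ?_
  rw [cj, MonoidHom.map_closure, closure_le]
  rintro _ ⟨_, ⟨l, rfl⟩, rfl⟩
  change y * z l * y⁻¹ ∈ (Nc z i ⊔ ZJ : Subgroup G)
  by_cases hl : l = i
  · subst hl
    exact mem_sup_left ((mem_normalizer_iff.1 (Y_norm_N l hy) _).1 (h.mem_N l))
  · rw [mem_Yc.1 hy l hl, mul_inv_cancel_right]
    exact mem_sup_right (h.zJ l)

/-! ### (NO) -/

/-- the stabiliser of the coset `z j U`, `U` a submodule of `N_j` without `z j`, is in `D` -/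
theorem stab_le {j : ι} {U : Subgroup G} (hY : Yc z j ≤ normalizer (U : Set G)) (hv : z j ∉ U) :
    ∀ g ∈ Yc z j, g * z j * g⁻¹ * (z j)⁻¹ ∈ U → g ∈ centralizer (ZJ : Set G) := by
  let K' : Subgroup G :=
    { carrier := {g | g ∈ Yc z j ∧ g * z j * g⁻¹ * (z j)⁻¹ ∈ U}
      one_mem' := ⟨one_mem _, by simp⟩
      mul_mem' := by
        rintro a b ⟨ha, ha'⟩ ⟨hb, hb'⟩
        refine ⟨mul_mem ha hb, ?_⟩
        have e : a * b * z j * (a * b)⁻¹ * (z j)⁻¹ =
            (a * (b * z j * b⁻¹ * (z j)⁻¹) * a⁻¹) * (a * z j * a⁻¹ * (z j)⁻¹) := by group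
        rw [e]
        exact mul_mem ((mem_normalizer_iff.1 (hY ha) _).1 hb') ha'
      inv_mem' := by
        rintro a ⟨ha, ha'⟩
        refine ⟨inv_mem ha, ?_⟩
        have e : a⁻¹ * z j * a⁻¹⁻¹ * (z j)⁻¹ = a⁻¹ * (a * z j * a⁻¹ * (z j)⁻¹)⁻¹ * a⁻¹⁻¹ := by group
        rw [e]
        exact (mem_normalizer_iff.1 (hY (inv_mem ha)) _).1 (inv_mem ha') }
  have hBK : B ≤ K' := fun t ht => ⟨h.B_le j ht, by
    rw [h.D_comm (h.BD ht) j, mul_inv_cancel_right, mul_inv_cancel]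
    exact one_mem _⟩
  have hKY : K' ≤ Yc z j := fun k hk => hk.1
  suffices hs : K' ≤ centralizer (ZJ : Set G) from fun g hg hgY => hs ⟨hg, hgY⟩
  refine le_of_forall hBK ((inf_le_inf_right _ hKY).trans (h.norm_Y j)) ?_
  intro R hR hRK
  rcases h.parY hR (hRK.trans hKY) with hm | ⟨-, -, ht⟩
  · exact hm
  exfalso
  have key : ∀ y ∈ W j, y ≠ 1 → y * (z j)⁻¹ ∈ U := by
    intro y hy hy1
    obtain ⟨r, hr, hry⟩ := ht y hy hy1
    have h1 := (hRK hr).2
    rwa [hry] at h1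
  obtain ⟨ρ, -, hx, hxz⟩ := h.rho j
  set x := ρ * z j * ρ⁻¹ with hxdef
  have hx1 : x ≠ 1 := fun e => h.ne j (conj_eq_one_iff.1 e)
  have h1 := key x hx hx1
  have hzz : z j * z j = 1 := by rw [← pow_two]; exact h.z_sq j
  have hxz1 : x * z j ≠ 1 := by
    intro e
    apply hxz
    have := eq_inv_of_mul_eq_one_left e
    rw [this, inv_eq_of_mul_eq_one_left hzz]
  have h2 := key (x * z j) (mul_mem hx (h.zW j)) hxz1
  rw [mul_inv_cancel_right] at h2
  apply hv
  have h3 := mul_mem (inv_mem h1) h2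
  have e : (x * (z j)⁻¹)⁻¹ * x = z j := by group
  rwa [e] at h3

/-- **(NO)** : `|A : C_A(N_j)| ≤ |N_j : C_{N_j}(A)|` for `A ≤ O₂(D)` elementary abelian -/
theorem no (hML : ML.Final.MLK.{u, u}) {j : ι} (kg : IsKGroup (Yc z j)) :
    NoOn (o2 (centralizer (ZJ : Set G))) (Nc z j) := by
  intro A hAe hA
  have hA2 : ∀ a ∈ A, a ^ 2 = 1 := (eab_iff.1 hAe).2
  have hN1 : ∀ g : G, g ∈ normalizer ((⊥ : Subgroup G) : Set G) := fun g => by
    rw [mem_normalizer_iff]
    intro x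
    rw [mem_bot, mem_bot, conj_eq_one_iff]
  have hb : ∀ x y : G, x * y * x⁻¹ * y⁻¹ ∈ (⊥ : Subgroup G) ↔ x * y = y * x := fun x y => by
    rw [mem_bot, mul_inv_eq_one, mul_inv_eq_iff_eq_mul]
  have hsqN := (eab_iff.1 (h.eab_N j)).2
  have hmain : (A ⊓ centralizer (Nc z j : Set G)).relIndex A ≤
      (Nc z j ⊓ centralizer (A : Set G)).relIndex (Nc z j) := by
    refine hML.grp (C := Yc z j) (W := Nc z j) (Y := ⊥) (T := B) (Q := o2 (centralizer (ZJ : Set G))) (A := A)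
      (w := z j) kg ?_ (KA := A ⊓ centralizer (Nc z j : Set G))
      (CW := Nc z j ⊓ centralizer (A : Set G)) ?_ ?_
    · refine ⟨Y_norm_N j, fun g _ => hN1 g, bot_le, fun g _ => hN1 g, ?_, h.mem_N j, ?_, h.B_le j,
        h.two, Cfsg.Agent.ZN.ChoiceSit.syl_not_dvd (h.syl_Y j), ?_, h.O_le_Y j, o2_isPGroup _, ?_, ?_, hA, ?_⟩
      · intro x hx
        rw [mem_bot, ← pow_two]
        exact hsqN x hx
      · exact fun U hU _ hYU => N_le_of hU hYU
      · exact fun t ht => (hb _ _).2 (h.D_comm (h.BD ht) j)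
      · exact fun t ht => (hb _ _).2 (h.D_comm (o2_le _ ht) j)
      · intro g hg hgz q hq
        have h1 : g ∈ centralizer (ZJ : Set G) := by
          rw [← h.stab j]
          exact ⟨hg, mem_centralizer_singleton_iff.2 ((hb _ _).1 hgz)⟩
        exact (mem_normalizer_iff.1 (le_normalizer_o2 _ h1) q).1 hq
      · intro a ha x _
        have h1 : a * a = 1 := by rw [← pow_two]; exact hA2 a ha
        have e : a * (a * x * a⁻¹) * a⁻¹ * x⁻¹ = (a * a) * x * (a * a)⁻¹ * x⁻¹ := by group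
        rw [e, h1, mem_bot]
        simp
    · intro a
      refine and_congr_right fun _ => ?_
      exact ⟨fun h1 x hx => (hb _ _).2 (mem_centralizer_iff.1 h1 x hx).symm,
        fun h1 => mem_centralizer_iff.2 fun x hx => ((hb _ _).1 (h1 x hx)).symm⟩
    · intro x
      refine and_congr_right fun _ => ?_
      exact ⟨fun h1 a ha => (hb _ _).2 (mem_centralizer_iff.1 h1 a ha),
        fun h1 => mem_centralizer_iff.2 fun a ha => (hb _ _).1 (h1 a ha)⟩
  rwa [inf_relIndex_left, inf_relIndex_left] at hmain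

/-! ### `N_G(B)` -/

omit h [Finite G] in
/-- an element which permutes the `z i` permutes the `Y i`, `N i` -/
theorem conj_of [Finite ι] (hinj : Function.Injective z) {g : G} (hp : ∀ i, ∃ j, g * z i * g⁻¹ = z j) :
    ∃ σ : Equiv.Perm ι, ∀ i, g * z i * g⁻¹ = z (σ i) ∧ cj g (Yc z i) = Yc z (σ i) ∧ cj g (Nc z i) = Nc z (σ i) := by
  choose f hf using hp
  have hfi : Function.Injective f := by
    intro i j e
    apply hinj
    have h1 := hf i
    rw [e, ← hf j] at h1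
    exact mul_left_cancel (mul_right_cancel h1)
  let σ : Equiv.Perm ι := Equiv.ofBijective f (Finite.injective_iff_bijective.1 hfi)
  have hσ : ∀ i, g * z i * g⁻¹ = z (σ i) := hf
  have hY : ∀ i, cj g (Yc z i) = Yc z (σ i) := by
    intro i
    ext x
    rw [mem_cj, mem_Yc, mem_Yc]
    constructor
    · intro h1 l hl
      obtain ⟨m, rfl⟩ := σ.surjective l
      have h2 := h1 m fun e => hl (by rw [e])
      rw [← hσ m]
      calc x * (g * z m * g⁻¹) = g * ((g⁻¹ * x * g) * z m) * g⁻¹ := by group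
        _ = g * (z m * (g⁻¹ * x * g)) * g⁻¹ := by rw [h2]
        _ = g * z m * g⁻¹ * x := by group
    · intro h1 l hl
      have h2 := h1 (σ l) fun e => hl (σ.injective e)
      rw [← hσ l] at h2
      calc g⁻¹ * x * g * z l = g⁻¹ * (x * (g * z l * g⁻¹)) * g := by group
        _ = g⁻¹ * (g * z l * g⁻¹ * x) * g := by rw [h2]
        _ = z l * (g⁻¹ * x * g) := by group
  have hmem : ∀ j, z j ∈ Nc z j := fun j => by
    have := NoFF.Basic.Z_le_V (Z := zpowers (z j)) (one_mem (Yc z j))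
    rw [map_one, one_smul] at this
    exact this (mem_zpowers _)
  refine ⟨σ, fun i => ⟨hσ i, hY i, ?_⟩⟩
  have key : ∀ {g : G} {i j : ι}, g * z i * g⁻¹ = z j → cj g (Yc z i) = Yc z j → Nc z j ≤ cj g (Nc z i) := by
    intro g i j h1 h2
    refine N_le_of (by rw [← h1]; exact ⟨z i, hmem i, rfl⟩) fun y hy => ?_
    rw [← h2, mem_cj] at hy
    have h3 := mem_normalizer_iff_cj.1 (Y_norm_N i hy)
    rw [mem_normalizer_iff_cj]
    have h4 : cj y (cj g (Nc z i)) = cj g (cj (g⁻¹ * y * g) (Nc z i)) := by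
      rw [cj_cj, cj_cj]
      congr 1
      group
    rw [h4, h3]
  apply le_antisymm
  · have h1 : g⁻¹ * z (σ i) * g⁻¹⁻¹ = z i := by rw [← hσ i]; group
    have h2 : cj g⁻¹ (Yc z (σ i)) = Yc z i := by rw [← hY i, cj_inv_cj]
    have h3 := cj_mono g (key h1 h2)
    rwa [cj_cj, mul_inv_cancel, cj_one] at h3
  · exact key (hσ i) (hY i)

end Bx

end Cfsg.Agent.Omega.EDel.BxF

end

-- merged: Cfsg.Agent.Mrg.Omega.EDel.Bx.Inst
section

/-!
# The universal frame over `B`, `q = 2` : the inputs of THEOREM U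

* `Bx.toFr` : the structure `ThmU.Fr` for `Y i = C_G(z_l : l ≠ i)`, `N i = ⟨z_i^(Y_i)⟩`;
* `Bx.NB`, `Bx.QO`, `Bx.ch`, `Bx.par_pair` : the further inputs.
-/

set_option autoImplicit false
set_option linter.unusedSectionVars false

namespace Cfsg.Agent.Omega.EDel.BxF

open Subgroup Cfsg Cfsg.Agent.ZN.ChoiceBase
open Cfsg.Agent.ZN (zc zl o2)
open Cfsg.Agent.ZN.ChoiceSit (Syl o2_le_syl)
open Cfsg.Agent.Omega.NO3S.EThree.ExactA (eab_mono eab_sup eab_iff)
open Cfsg.Agent.Omega.EK3 (CT mem_CT CT_mono ET ZJ_le_ET CT_norm_ET V_le_ET CT_compl_le CT_compl_le' Yc mem_Yc Nc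
  Y_norm_V Y_norm_N)
open Cfsg.Agent.Omega.EK3.Rank (NoOn)
open Cfsg.Agent.Omega.ESym.CoreS (EI EI_mono EI_norm Sy)
open Cfsg.Agent.MinSimple.MinParabolic (IsMinPar le_of_forall)
open Cfsg.Agent.MinSimple.VModule (zc_le normalizer_le_normalizer_zc le_normalizer_o2 o2_isPGroup le_o2 o2_le
  le_centralizer_zc)
open scoped Pointwise

universe u

variable {G : Type u} [Group G]

/-- `C_G(z_n : n ≠ l, m)` is `C_T` for `T = {l, m}ᶜ` -/
theorem X_eq {ι : Type} (z : ι → G) (l m : ι) :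
    centralizer {x | ∃ n, n ≠ l ∧ n ≠ m ∧ z n = x} = CT z ({l, m} : Set ι)ᶜ := by
  unfold CT
  congr 1
  ext x
  constructor
  · rintro ⟨n, h1, h2, rfl⟩
    exact ⟨n, by simp [h1, h2], rfl⟩
  · rintro ⟨n, hn, rfl⟩
    exact ⟨n, fun e => hn (Or.inl e), fun e => hn (Or.inr e), rfl⟩

/-- `Y_i = C_G(z_n : n ≠ i)` as a centraliser -/
theorem Yc_eq {ι : Type} (z : ι → G) (i : ι) : Yc z i = centralizer {x | ∃ n, n ≠ i ∧ z n = x} := by
  ext x
  rw [mem_Yc, mem_centralizer_iff]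
  constructor
  · rintro h1 _ ⟨n, hn, rfl⟩
    exact (h1 n hn).symm
  · exact fun h1 l hl => (h1 _ ⟨l, hl, rfl⟩).symm

namespace Bx

variable [Finite G] {B J ZJ : Subgroup G} {ι : Type} {W : ι → Subgroup G} {z : ι → G} (h : Bx B J ZJ W z)
include h

theorem closure_eq : ZJ = closure (Set.range z) :=
  le_antisymm h.gen ((closure_le _).2 (by rintro _ ⟨i, rfl⟩; exact h.zJ i))

theorem D_eq : centralizer (ZJ : Set G) = centralizer (Set.range z) := by
  rw [h.closure_eq, centralizer_closure]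

omit h [Finite G] in
theorem Y_le_CT {I : Set ι} {i : ι} (hi : i ∈ I) : Yc z i ≤ CT z Iᶜ :=
  CT_mono (Set.compl_subset_compl.2 (Set.singleton_subset_iff.2 hi))

omit h in
theorem EI_le (I : Set ι) : EI ZJ (Yc z) I ≤ ET ZJ z Iᶜ := by
  have h1 : (⨆ i : I, Yc z i : Subgroup G) ≤ CT z Iᶜ := iSup_le fun i => Y_le_CT i.2
  refine iSup_le fun y => ?_
  have h2 := cj_mono (y : G) (ZJ_le_ET (ZJ := ZJ) (z := z) (T := Iᶜ))
  rwa [cj_eq_of_mem_normalizer (CT_norm_ET (h1 y.2))] at h2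

/-- `O ≠ 1` -/
theorem O_ne [Nonempty ι] : o2 (centralizer (ZJ : Set G)) ≠ ⊥ := by
  obtain ⟨i⟩ := ‹Nonempty ι›
  intro e
  have h1 := h.N_le_O i (h.mem_N i)
  rw [e, mem_bot] at h1
  exact h.ne i h1

/-- **the frame of THEOREM U** -/
theorem toFr (hML : ML.Final.MLK.{u, u}) (kg : ∀ j, IsKGroup (Yc z j)) :
    ThmU.Fr (o2 (centralizer (ZJ : Set G))) (centralizer (ZJ : Set G)) ZJ (Yc z) (Nc z) where
  two := o2_isPGroup _
  OY := h.O_le_Y
  OZ := o2_le _
  DY := h.D_le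
  three := h.three
  eab := by
    intro I hI
    have hne : (Iᶜ : Set ι).Nonempty := Set.nonempty_compl.2 hI
    exact ⟨eab_mono (h.eab_ET hne) (EI_le I), (EI_le I).trans (h.ET_le_O hne)⟩
  NE := by
    intro i
    refine N_le_of ?_ (EI_norm rfl)
    have h1 : cj (1 : G) ZJ ≤ EI ZJ (Yc z) {i} :=
      le_iSup (fun y : (⨆ j : ({i} : Set ι), Yc z j : Subgroup G) => cj (y : G) ZJ) 1
    rw [cj_one] at h1
    exact h1 (h.zJ i)
  YN := Y_norm_N
  YQ := by
    intro i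
    rw [← h.Q_eq i]
    exact le_normalizer_o2 _
  no := fun i => h.no hML (kg i)
  gen := by
    intro j K hK hn hc
    exact h.genY hK hn fun h' => hc (inf_le_left.trans h')
  ZN := fun i y hy => h.ZN i hy

/-- `N_G(B)` permutes the `z i` and induces symmetries -/
theorem NB [Finite ι] {g : G} (hg : g ∈ normalizer (B : Set G)) :
    ∃ σ : Equiv.Perm ι, Sy (o2 (centralizer (ZJ : Set G))) (Yc z) (Nc z) g σ ∧ ∀ i, g * z i * g⁻¹ = z (σ i) := by
  obtain ⟨σ, hσ⟩ := conj_of h.inj (h.perm g hg)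
  refine ⟨σ, ⟨?_, fun l => (hσ l).2.1, fun l => (hσ l).2.2⟩, fun i => (hσ i).1⟩
  rw [← ZN.ChoiceSit.o2_cj, cj_centralizer, cj_eq_of_mem_normalizer (h.norm_ZJ hg)]

theorem QO (i : ι) : o2 (centralizer (ZJ : Set G)) ⊓ centralizer (Nc z i : Set G) ≤ o2 (Yc z i) := (h.Q_eq i).ge

/-- `X = C_G(z_n : n ≠ l, m)` has characteristic 2 -/
theorem ch (l m : ι) : centralizer {x | ∃ n, n ≠ l ∧ n ≠ m ∧ z n = x} ⊓
    centralizer (o2 (centralizer {x | ∃ n, n ≠ l ∧ n ≠ m ∧ z n = x}) : Set G) ≤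
      o2 (centralizer {x | ∃ n, n ≠ l ∧ n ≠ m ∧ z n = x}) := by
  rw [X_eq]
  exact h.char2_CT (compl_two_ne h.three l m)

/-- the members of `𝒫(X, B)` centralise `z l` or `z m` -/
theorem par_pair {l m : ι} (hlm : l ≠ m) (hs : Syl B (centralizer {x | ∃ n, n ≠ l ∧ n ≠ m ∧ z n = x}))
    (hN : centralizer {x | ∃ n, n ≠ l ∧ n ≠ m ∧ z n = x} ⊓ normalizer (B : Set G) ≤ centralizer (ZJ : Set G))
    {R : Subgroup G} (hR : IsMinPar B R) (hRX : R ≤ centralizer {x | ∃ n, n ≠ l ∧ n ≠ m ∧ z n = x}) :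
    R ≤ centralizer ({z l} : Set G) ∨ R ≤ centralizer ({z m} : Set G) := by
  rw [X_eq] at hs hN hRX
  by_cases hD : R ≤ centralizer (ZJ : Set G)
  · exact Or.inl fun x hx => mem_centralizer_singleton_iff.2 (h.D_comm (hD hx) l)
  obtain ⟨i, -, hi⟩ := h.parX (compl_two_ne h.three l m) hs hN hR hRX hD
  by_cases hil : l = i
  · exact Or.inr (hi m fun e => hlm (hil.trans e.symm))
  · exact Or.inl (hi l hil)

end Bx

end Cfsg.Agent.Omega.EDel.BxF

end

-- merged: Cfsg.Agent.Mrg.Omega.EDel.BxW.ThmU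
section

/-!
# THEOREM U with weak UNI (helper165 #26684): (1) and (2)

`Y j` are the full groups `C_G(z_l : l ≠ j)`, `Y' j ≤ Y j` the groups `⟨D, N_{Y j}(W_j Z_J)⟩`; only `Y' j` is recovered from a
normal subgroup `K` of `Y j` (`gen`), and only the `Y' j` are used in the relation `Y' j ≤ N(N i N j)`.

* `FrW` : the frame;  `SyW` : symmetries;  `MM` : `M_{lm} = ⟨(N_l N_m)^⟨Y'_l, Y'_m⟩⟩`;
* `FrW.exists_A` : some `A ∈ AA(O)` centralises every `N i` and moves some `M_{lm}`;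
* `FrW.no_swap`, `FrW.nB`, `FrW.main`.
-/

set_option autoImplicit false
set_option linter.unusedSectionVars false

namespace Cfsg.Agent.Omega.EDel.BxW

open Subgroup Cfsg Cfsg.Agent.ZN Cfsg.Agent.ZN.ChoiceBase
open Cfsg.Agent.Omega.NO3S.EThree
open Cfsg.Agent.Omega.NO3S.EThree.ExactA (eab_mono eab_sup eab_iff)
open Cfsg.Agent.Omega.EK3.Rank (NoOn mem_inf_of_mem_AA jj_inf_le offd_of_mem exch)
open Cfsg.Agent.Omega.EK3.Lever (Dt)
open Cfsg.Agent.Omega.NoFF.Basic (comm_symm comm_mono)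
open Cfsg.Agent.Omega.ESym.CoreS
open Cfsg.Agent.Omega.EDel.ThmU (sy_one sy_mul ne_bot_of_mem_AA sylow_of_norm)
open scoped commutatorElement

universe u

variable {G : Type u} [Group G]

/-- **The frame of THEOREM U with weak UNI.** -/
structure FrW {ι : Type*} (O D ZJ : Subgroup G) (Y Y' N : ι → Subgroup G) : Prop where
  two : IsPGroup 2 O
  OY : ∀ i, O ≤ Y i
  OZ : O ≤ centralizer (ZJ : Set G)
  DY : ∀ i, D ≤ Y' i
  YY : ∀ i, Y' i ≤ Y i
  three : ∀ i j : ι, ∃ l, l ≠ i ∧ l ≠ j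
  eab : ∀ I : Set ι, I ≠ Set.univ → IsElementaryAbelian 2 (EI ZJ Y I : Subgroup G) ∧ EI ZJ Y I ≤ O
  NE : ∀ i, N i ≤ EI ZJ Y {i}
  YN : ∀ i, Y i ≤ normalizer (N i : Set G)
  YQ : ∀ i, Y i ≤ normalizer ((O ⊓ centralizer (N i : Set G) : Subgroup G) : Set G)
  no : ∀ i, NoOn O (N i)
  gen : ∀ j, ∀ K : Subgroup G, K ≤ Y j → Y j ≤ normalizer (K : Set G) → ¬ K ⊓ O ≤ centralizer (N j : Set G) →
    Y' j ≤ K ⊔ D

/-- a symmetry -/
structure SyW {ι : Type*} (O : Subgroup G) (Y Y' N : ι → Subgroup G) (g : G) (σ : Equiv.Perm ι) : Prop where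
  s : Sy O Y N g σ
  s' : Sy O Y' N g σ

/-- `⟨(∏_{i ∈ I} N i)^(Y' i : i ∈ I)⟩` -/
def MM {ι : Type*} (Y' N : ι → Subgroup G) (I : Set ι) : Subgroup G :=
  ⨆ y : (⨆ i : I, Y' i : Subgroup G), cj (y : G) (⨆ i : I, N i)

section mm

variable {ι : Type*} {Y' N : ι → Subgroup G}

theorem N_le_MM {I : Set ι} {i : ι} (hi : i ∈ I) : N i ≤ MM Y' N I := by
  have h1 : cj (1 : G) (⨆ i : I, N i) ≤ MM Y' N I :=
    le_iSup (fun y : (⨆ i : I, Y' i : Subgroup G) => cj (y : G) (⨆ i : I, N i)) 1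
  rw [cj_one] at h1
  exact (le_iSup (fun i : I => N i) ⟨i, hi⟩).trans h1

theorem MM_norm [Finite G] {I : Set ι} {i : ι} (hi : i ∈ I) : Y' i ≤ normalizer (MM Y' N I : Set G) := by
  have hle : Y' i ≤ (⨆ i : I, Y' i : Subgroup G) := le_iSup (fun i : I => Y' i) ⟨i, hi⟩
  have key : ∀ y ∈ Y' i, cj y (MM Y' N I) ≤ MM Y' N I := by
    intro y hy
    unfold MM
    rw [cj, Subgroup.map_iSup]
    refine iSup_le fun x => ?_
    have e : Subgroup.map (MulAut.conj y).toMonoidHom (cj (x : G) (⨆ i : I, N i)) = cj (y * x : G) (⨆ i : I, N i) :=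
      cj_cj y x _
    rw [e]
    exact le_iSup (fun x : (⨆ i : I, Y' i : Subgroup G) => cj (x : G) (⨆ i : I, N i)) ⟨y * x, mul_mem (hle hy) x.2⟩
  intro y hy
  exact mem_norm_of_le (key y hy)

theorem MM_le {I : Set ι} {M : Subgroup G} (h1 : ∀ i ∈ I, N i ≤ M) (h2 : ∀ i ∈ I, Y' i ≤ normalizer (M : Set G)) :
    MM Y' N I ≤ M := by
  have h3 : (⨆ i : I, Y' i : Subgroup G) ≤ normalizer (M : Set G) := iSup_le fun i => h2 i.1 i.2
  refine iSup_le fun y => ?_
  have h4 := cj_mono (y : G) (iSup_le fun i : I => h1 i.1 i.2)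
  rwa [cj_eq_of_mem_normalizer (h3 y.2)] at h4

end mm

section sy

variable {ι : Type*} {O : Subgroup G} {Y Y' N : ι → Subgroup G}

theorem syW_one : SyW O Y Y' N 1 1 := ⟨sy_one, sy_one⟩

theorem SyW.mul {g g' : G} {σ σ' : Equiv.Perm ι} (h : SyW O Y Y' N g σ) (h' : SyW O Y Y' N g' σ') :
    SyW O Y Y' N (g * g') (σ * σ') := ⟨sy_mul h.s h'.s, sy_mul h.s' h'.s'⟩

theorem SyW.inv {g : G} {σ : Equiv.Perm ι} (h : SyW O Y Y' N g σ) : SyW O Y Y' N g⁻¹ σ⁻¹ := ⟨h.s.inv, h.s'.inv⟩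

end sy

section core

variable [Finite G] {ι : Type*} {O D ZJ : Subgroup G} {Y Y' N : ι → Subgroup G} (h : FrW O D ZJ Y Y' N)
include h

theorem FrW.N_le_EI {I : Set ι} {i : ι} (hi : i ∈ I) : N i ≤ EI ZJ Y I :=
  (h.NE i).trans (EI_mono (Set.singleton_subset_iff.2 hi))

theorem FrW.MM_le_EI (I : Set ι) : MM Y' N I ≤ EI ZJ Y I :=
  MM_le (fun _ hi => h.N_le_EI hi) fun i hi => (h.YY i).trans (EI_norm hi)

theorem FrW.pair_ne_univ (i j : ι) : ({i, j} : Set ι) ≠ Set.univ := by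
  obtain ⟨l, hl, hl'⟩ := h.three i j
  intro e
  have : l ∈ ({i, j} : Set ι) := e ▸ Set.mem_univ l
  rcases this with h1 | h1
  · exact hl h1
  · exact hl' h1

theorem FrW.ne_univ (i : ι) : ({i} : Set ι) ≠ Set.univ := by
  obtain ⟨l, hl, -⟩ := h.three i i
  intro e
  have : l ∈ ({i} : Set ι) := e ▸ Set.mem_univ l
  exact hl this

theorem FrW.N_eab (i : ι) : IsElementaryAbelian 2 (N i : Subgroup G) :=
  eab_mono (h.eab _ (h.ne_univ i)).1 (h.NE i)

theorem FrW.N_le_O (i : ι) : N i ≤ O := (h.NE i).trans (h.eab _ (h.ne_univ i)).2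

theorem FrW.NN (i j : ι) : N i ≤ centralizer (N j : Set G) := by
  have h1 := (eab_iff.1 (h.eab _ (h.pair_ne_univ i j)).1).1
  exact (h.N_le_EI (Or.inl rfl)).trans (h1.trans (centralizer_le (h.N_le_EI (Or.inr rfl))))

/-- if some `A ∈ AA(O)` moves `E_I`, `I` proper, then some `j ∈ I` has `Y' j ≤ N(N i N j)` for all `i ∈ I`. -/
theorem FrW.step {I : Set ι} (hI : I ≠ Set.univ) (hne : I.Nonempty) {A : Subgroup G} (hA : A ∈ AA O)
    (hAm : ¬ A ≤ centralizer (EI ZJ Y I : Set G)) :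
    ∃ j ∈ I, ∀ i ∈ I, Y' j ≤ normalizer ((N i ⊔ N j : Subgroup G) : Set G) := by
  obtain ⟨j0, hj0⟩ := hne
  obtain ⟨hE, hEO⟩ := h.eab I hI
  have hOE : O ≤ normalizer (EI ZJ Y I : Set G) := (h.OY j0).trans (EI_norm hj0)
  have hoff : Offd (EI ZJ Y I) A :=
    offd_of_mem hE hEO hA (hA.2.1.trans hOE) le_rfl hAm
  have hdt : Dt O (EI ZJ Y I) ZJ (fun i : I => Y i) (fun i : I => N i) := by
    refine ⟨(eab_iff.1 hE).1, fun i => h.OY i, fun i => EI_norm i.2, h.OZ, le_rfl, fun i => h.N_le_EI i.2,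
      fun i => h.YN i, fun i => h.YQ i, fun i F hF hFO => h.no i F hF hFO⟩
  obtain ⟨j, F, hFO, hFe, hFm, hF⟩ := hdt.lever hA.2.1 hA.1 hoff
  refine ⟨j, j.2, fun i hi => ?_⟩
  -- the normal closure of `F` in `Y j`
  let K : Subgroup G := ⨆ y : Y j, cj (y : G) F
  have hFY : F ≤ Y j := hFO.trans (h.OY j)
  have hFK : F ≤ K := by
    have := le_iSup (fun y : Y j => cj (y : G) F) 1
    simpa only [OneMemClass.coe_one, cj_one] using this
  have hKY : K ≤ Y j := iSup_le fun y => by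
    have := cj_mono (y : G) hFY
    rwa [cj_eq_of_mem_normalizer (Subgroup.le_normalizer y.2)] at this
  have hYK : Y j ≤ normalizer (K : Set G) := by
    intro y hy
    refine mem_norm_of_le ?_
    change cj y (⨆ x : Y j, cj (x : G) F) ≤ _
    rw [cj, Subgroup.map_iSup]
    refine iSup_le fun x => ?_
    have e : Subgroup.map (MulAut.conj y).toMonoidHom (cj (x : G) F) = cj (y * x : G) F := cj_cj y x F
    rw [e]
    exact le_iSup (fun x : Y j => cj (x : G) F) ⟨y * x, mul_mem hy x.2⟩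
  have hKm : ¬ K ⊓ O ≤ centralizer (N j : Set G) := fun hc => hFm ((le_inf hFK hFO).trans hc)
  have hKN : K ≤ normalizer ((N i ⊔ N j : Subgroup G) : Set G) := by
    refine iSup_le fun y => ?_
    intro x hx
    refine mem_norm_of_le ?_
    rw [cj, Subgroup.map_sup]
    have hxY : x ∈ Y j := hKY (le_iSup (fun y : Y j => cj (y : G) F) y hx)
    refine sup_le ?_ ?_
    · rintro _ ⟨n, hn, rfl⟩
      change x * n * x⁻¹ ∈ _
      -- `x = y f y⁻¹`
      obtain ⟨f, hf, e⟩ := hx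
      have e' : x = (y : G) * f * (y : G)⁻¹ := by rw [← e]; rfl
      have hnE : n ∈ EI ZJ Y I := h.N_le_EI hi hn
      have hn' : (y : G)⁻¹ * n * y ∈ EI ZJ Y I := by
        have := (mem_normalizer_iff.1 (EI_norm j.2 (inv_mem y.2)) n).1 hnE
        rwa [inv_inv] at this
      have h1 := hF _ hn' f hf
      have h2 : (y : G) * ⁅(y : G)⁻¹ * n * y, f⁆ * (y : G)⁻¹ ∈ N j :=
        (mem_normalizer_iff.1 (h.YN j y.2) _).1 h1
      have h3 : ⁅n, x⁆ = (y : G) * ⁅(y : G)⁻¹ * n * y, f⁆ * (y : G)⁻¹ := by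
        rw [e']
        simp only [commutatorElement_def]
        group
      have h4 : x * n * x⁻¹ = ⁅n, x⁆⁻¹ * n := by
        simp only [commutatorElement_def]
        group
      rw [h4]
      exact mul_mem (inv_mem (mem_sup_right (by rw [h3]; exact h2))) (mem_sup_left hn)
    · have h1 := cj_eq_of_mem_normalizer (h.YN j hxY)
      exact (le_of_eq h1).trans le_sup_right
  have hDN : D ≤ normalizer ((N i ⊔ N j : Subgroup G) : Set G) := by
    intro x hx
    refine mem_norm_of_le ?_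
    rw [cj, Subgroup.map_sup]
    exact sup_le_sup (cj_eq_of_mem_normalizer (h.YN i (h.YY i (h.DY i hx)))).le
      (cj_eq_of_mem_normalizer (h.YN j (h.YY j (h.DY j hx)))).le
  exact (h.gen j K hKY hYK hKm).trans (sup_le hKN hDN)

/-- `AA* ≠ ∅` -/
theorem FrW.star [Finite ι] : ∃ A ∈ AA O, ∀ i, A ≤ centralizer (N i : Set G) := by
  classical
  have key : ∀ s : Finset ι, ∃ A ∈ AA O, ∀ i ∈ s, A ≤ centralizer (N i : Set G) := by
    intro s
    induction s using Finset.induction_on with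
    | empty =>
      obtain ⟨A, hA⟩ := AA_nonempty O
      exact ⟨A, hA, by simp⟩
    | insert i s his ih =>
      obtain ⟨A, hA, hc⟩ := ih
      refine ⟨(A ⊓ centralizer (N i : Set G)) ⊔ N i, (exch (h.N_eab i) (h.N_le_O i) (h.no i) hA).2.2, ?_⟩
      intro j hj
      rcases Finset.mem_insert.1 hj with rfl | hj
      · exact sup_le inf_le_right (eab_iff.1 (h.N_eab _)).1
      · exact sup_le (inf_le_left.trans (hc j hj)) (h.NN i j)
  cases nonempty_fintype ι
  obtain ⟨A, hA, hc⟩ := key Finset.univ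
  exact ⟨A, hA, fun i => hc i (Finset.mem_univ i)⟩

/-- **THEOREM U (1), weak UNI.** -/
theorem FrW.exists_A [Finite ι] (hO : O ≠ ⊥)
    (nl : ∀ R : Subgroup G, R ≠ ⊥ → IsPGroup 2 R → ¬ ∀ j, Y' j ≤ normalizer (R : Set G)) :
    ∃ A ∈ AA O, (∀ i, A ≤ centralizer (N i : Set G)) ∧
      ∃ l m, l ≠ m ∧ ¬ A ≤ centralizer (MM Y' N {l, m} : Set G) := by
  classical
  by_contra hcon
  push Not at hcon
  -- `AA*` is invariant under every `Y' l`
  have hinv : ∀ l, ∀ y ∈ Y' l, ∀ A ∈ AA O, (∀ i, A ≤ centralizer (N i : Set G)) →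
      cj y A ∈ AA O ∧ ∀ i, cj y A ≤ centralizer (N i : Set G) := by
    intro l y hy A hA hc
    have hQ : A ≤ O ⊓ centralizer (N l : Set G) := le_inf hA.2.1 (hc l)
    have hQ' : cj y A ≤ O ⊓ centralizer (N l : Set G) := by
      have := cj_mono y hQ
      rwa [cj_eq_of_mem_normalizer (h.YQ l (h.YY l hy))] at this
    have hyA : cj y A ∈ AA O := by
      rw [mem_AA_iff]
      refine ⟨(cj_mem_AA y hA).1, hQ'.trans inf_le_left, ?_⟩
      rw [card_cj, mm_eq hA]
    refine ⟨hyA, fun i => ?_⟩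
    by_cases hi : i = l
    · rw [hi]; exact hQ'.trans inf_le_right
    · have h1 := hcon A hA hc i l hi
      have h2 : A ≤ centralizer (cj y⁻¹ (N i) : Set G) := by
        refine h1.trans (centralizer_le ?_)
        have h3 := cj_mono y⁻¹ (N_le_MM (Y' := Y') (N := N) (I := {i, l}) (i := i) (Or.inl rfl))
        have h4 : cj y⁻¹ (MM Y' N {i, l}) = MM Y' N {i, l} :=
          cj_eq_of_mem_normalizer (MM_norm (I := {i, l}) (i := l) (Or.inr rfl) (inv_mem hy))
        rw [h4] at h3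
        exact h3
      have h5 := cj_mono y h2
      rwa [← cj_centralizer, cj_cj_inv] at h5
  -- the join of `AA*`
  let J : Subgroup G := ⨆ A : {A : Subgroup G // A ∈ AA O ∧ ∀ i, A ≤ centralizer (N i : Set G)}, (A : Subgroup G)
  obtain ⟨A, hA, hc⟩ := h.star
  have hAJ : A ≤ J := le_iSup
    (fun A : {A : Subgroup G // A ∈ AA O ∧ ∀ i, A ≤ centralizer (N i : Set G)} => (A : Subgroup G)) ⟨A, hA, hc⟩
  have hJO : J ≤ O := iSup_le fun A => A.2.1.2.1
  refine nl J (fun e => ne_bot_of_mem_AA h.two hO hA (eq_bot_iff.2 (hAJ.trans e.le))) (h.two.to_le hJO) ?_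
  intro l y hy
  refine mem_norm_of_le ?_
  rw [cj, Subgroup.map_iSup]
  refine iSup_le fun C => ?_
  obtain ⟨h1, h2⟩ := hinv l y hy C.1 C.2.1 C.2.2
  exact le_iSup (fun A : {A : Subgroup G // A ∈ AA O ∧ ∀ i, A ≤ centralizer (N i : Set G)} => (A : Subgroup G))
    ⟨cj y C.1, h1, h2⟩

/-- `J(O)` moves every `N j` when the symmetries are transitive -/
theorem FrW.moves (hO : O ≠ ⊥)
    (nl : ∀ R : Subgroup G, R ≠ ⊥ → IsPGroup 2 R → ¬ ∀ j, Y' j ≤ normalizer (R : Set G))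
    (tr : ∀ i j, ∃ g, ∃ σ : Equiv.Perm ι, SyW O Y Y' N g σ ∧ σ i = j) (j : ι) :
    ∃ A ∈ AA O, ¬ A ≤ centralizer (N j : Set G) := by
  by_contra hj
  push Not at hj
  have e : jj O = jj (O ⊓ centralizer (N j : Set G)) := by
    refine le_antisymm ?_ (jj_inf_le (h.N_eab j) (h.N_le_O j) (h.no j))
    rw [ChoiceBase.jj_eq O]
    exact sSup_le fun A hA => ChoiceBase.le_jj (mem_inf_of_mem_AA (h.N_eab j) (h.N_le_O j) (h.no j) hA (hj A hA))
  have h1 : Y' j ≤ normalizer (jj O : Set G) := by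
    rw [e]
    exact ((h.YY j).trans (h.YQ j)).trans (jj_norm _)
  refine nl (jj O) (jj_ne_bot h.two hO) (h.two.to_le (ChoiceBase.jj_le O)) fun i => ?_
  obtain ⟨g, σ, hg, hσ⟩ := tr j i
  have h2 := cj_mono g h1
  rwa [hg.s'.Y_eq, hσ, cj_normalizer, ← jj_cj, hg.s.O_eq] at h2

/-- **THEOREM S'' (transitive case), weak UNI**: a symmetry which fixes an index is trivial on the indices -/
theorem FrW.regular [Finite ι] (hO : O ≠ ⊥)
    (nl : ∀ R : Subgroup G, R ≠ ⊥ → IsPGroup 2 R → ¬ ∀ j, Y' j ≤ normalizer (R : Set G))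
    (tr : ∀ i j, ∃ g, ∃ σ : Equiv.Perm ι, SyW O Y Y' N g σ ∧ σ i = j) {g : G} {σ : Equiv.Perm ι}
    (hg : SyW O Y Y' N g σ) {n : ι} (hn : σ n = n) : σ = 1 := by
  classical
  have hm := h.moves hO nl tr
  refine Cfsg.Agent.Omega.ESym.Comb.fix_all
    (fun i j => ¬ Y' i ≤ normalizer ((N j ⊔ N i : Subgroup G) : Set G)) ?_ ?_ σ ?_ n hn
  · -- every index has an arrow
    intro j
    by_contra hcon
    push Not at hcon
    have hall : ∀ i, Y' j ≤ normalizer ((N i ⊔ N j : Subgroup G) : Set G) := by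
      intro i
      by_cases hi : i = j
      · rw [hi, sup_idem]; exact (h.YY j).trans (h.YN j)
      · exact hcon i hi
    have hall' : ∀ i k, Y' k ≤ normalizer ((N i ⊔ N k : Subgroup G) : Set G) := by
      intro i k
      obtain ⟨g, σ, hg, hσ⟩ := tr j k
      have h1 := hg.s'.conj_rel (hall (σ⁻¹ i))
      rwa [inv_r σ i, hσ] at h1
    refine nl (⨆ i, N i) ?_ (h.two.to_le (iSup_le h.N_le_O)) fun k => ?_
    · obtain ⟨A, -, hA⟩ := hm j
      intro e
      apply hA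
      have h1 : N j = ⊥ := eq_bot_iff.2 ((le_iSup N j).trans e.le)
      rw [h1]
      intro x _
      rw [mem_centralizer_iff]
      intro y hy
      rw [SetLike.mem_coe, mem_bot] at hy
      rw [hy, one_mul, mul_one]
    · intro x hx
      refine mem_norm_of_le ?_
      rw [cj, Subgroup.map_iSup]
      refine iSup_le fun i => ?_
      have h1 : cj x (N i) ≤ N i ⊔ N k := by
        refine (cj_mono x (le_sup_left (b := N k))).trans ?_
        exact (cj_eq_of_mem_normalizer (hall' i k hx)).le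
      exact h1.trans (sup_le (le_iSup N i) (le_iSup N k))
  · -- every proper set has a sink
    intro K hK hKu
    obtain ⟨k, hk⟩ := hK
    obtain ⟨A, hA, hAm⟩ := hm k
    obtain ⟨i, hi, hir⟩ := h.step hKu ⟨k, hk⟩ hA
      (fun hc => hAm (hc.trans (centralizer_le (h.N_le_EI hk))))
    exact ⟨i, hi, fun j hj _ => by rw [not_not]; exact hir j hj⟩
  · -- invariance
    intro i j hij hc
    apply hij
    have h1 := hg.s'.inv.conj_rel hc
    rwa [inv_l σ i, inv_l σ j] at h1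

/-- **THEOREM U (2), weak UNI**: no symmetry interchanges `l` and `m` and fixes the other indices. -/
theorem FrW.no_swap [Finite ι] (hO : O ≠ ⊥)
    (nl : ∀ R : Subgroup G, R ≠ ⊥ → IsPGroup 2 R → ¬ ∀ j, Y' j ≤ normalizer (R : Set G))
    {A : Subgroup G} (hA : A ∈ AA O) (hc : ∀ i, A ≤ centralizer (N i : Set G)) {l m : ι} (hlm : l ≠ m)
    (hAm : ¬ A ≤ centralizer (MM Y' N {l, m} : Set G)) {g : G} {σ : Equiv.Perm ι} (hg : SyW O Y Y' N g σ)
    (h1 : σ l = m) (h3 : ∀ n, n ≠ l → n ≠ m → σ n = n) : False := by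
  classical
  -- the orbit of `l`
  let I : Set ι := {j | ∃ g, ∃ σ : Equiv.Perm ι, SyW O Y Y' N g σ ∧ σ l = j}
  have hlI : l ∈ I := ⟨1, 1, syW_one, rfl⟩
  have hmI : m ∈ I := ⟨g, σ, hg, h1⟩
  have htr : ∀ j ∈ I, ∀ k ∈ I, ∃ g, ∃ σ : Equiv.Perm ι, SyW O Y Y' N g σ ∧ σ j = k := by
    rintro j ⟨g1, σ1, hg1, e1⟩ k ⟨g2, σ2, hg2, e2⟩
    refine ⟨g2 * g1⁻¹, σ2 * σ1⁻¹, hg2.mul hg1.inv, ?_⟩
    rw [Equiv.Perm.mul_apply, ← e1, inv_l σ1 l, e2]
  by_cases hI : I = Set.univ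
  · -- the transitive case: `THEOREM S''`
    obtain ⟨n, hn1, hn2⟩ := h.three l m
    have := h.regular hO nl (fun i j => htr i (hI ▸ Set.mem_univ i) j (hI ▸ Set.mem_univ j)) hg (h3 n hn1 hn2)
    rw [this] at h1
    exact hlm h1
  · have hpair : ({l, m} : Set ι) ⊆ I := by
      rintro x (rfl | rfl)
      · exact hlI
      · exact hmI
    obtain ⟨j, hj, hjr⟩ := h.step hI ⟨l, hlI⟩ hA
      (fun hx => hAm (hx.trans (centralizer_le ((h.MM_le_EI _).trans (EI_mono hpair)))))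
    have hall : ∀ i ∈ I, ∀ k ∈ I, Y' k ≤ normalizer ((N i ⊔ N k : Subgroup G) : Set G) := by
      intro i hi k hk
      obtain ⟨g', τ, hg', hτ⟩ := htr j hj k hk
      have h4 : τ⁻¹ i ∈ I := by
        obtain ⟨g1, σ1, hg1, e1⟩ := hi
        exact ⟨g'⁻¹ * g1, τ⁻¹ * σ1, hg'.inv.mul hg1, by rw [Equiv.Perm.mul_apply, e1]⟩
      have h5 := hg'.s'.conj_rel (hjr _ h4)
      rwa [inv_r τ i, hτ] at h5
    -- `M_lm ≤ N_l N_m`
    have hM : MM Y' N {l, m} ≤ N l ⊔ N m := by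
      refine MM_le ?_ ?_
      · rintro i (rfl | rfl)
        · exact le_sup_left
        · exact le_sup_right
      · rintro i (rfl | rfl)
        · rw [sup_comm]; exact hall m hmI i hlI
        · exact hall l hlI i hmI
    apply hAm
    exact comm_symm (hM.trans (sup_le (comm_symm (hc l)) (comm_symm (hc m))))

/-- `N_X(B) ≤ D`, `X = C_G(z_n : n ≠ l, m)` -/
theorem FrW.nB [Finite ι] (hO : O ≠ ⊥)
    (nl : ∀ R : Subgroup G, R ≠ ⊥ → IsPGroup 2 R → ¬ ∀ j, Y' j ≤ normalizer (R : Set G))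
    {A : Subgroup G} (hA : A ∈ AA O) (hc : ∀ i, A ≤ centralizer (N i : Set G)) {l m : ι} (hlm : l ≠ m)
    (hAm : ¬ A ≤ centralizer (MM Y' N {l, m} : Set G))
    {B : Subgroup G} {z : ι → G} (hz : Function.Injective z) (hD : D = centralizer (Set.range z))
    (NB : ∀ g ∈ normalizer (B : Set G), ∃ σ : Equiv.Perm ι, SyW O Y Y' N g σ ∧ ∀ i, g * z i * g⁻¹ = z (σ i)) :
    centralizer {x | ∃ n, n ≠ l ∧ n ≠ m ∧ z n = x} ⊓ normalizer (B : Set G) ≤ D := by
  rintro g ⟨hgX, hgB⟩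
  obtain ⟨σ, hσ, hσz⟩ := NB g hgB
  have hfix : ∀ n, n ≠ l → n ≠ m → σ n = n := by
    intro n hn1 hn2
    apply hz
    rw [← hσz n]
    have := (mem_centralizer_iff.1 hgX) (z n) ⟨n, hn1, hn2, rfl⟩
    rw [← this, mul_inv_cancel_right]
  have hl : σ l = l := by
    by_contra hne
    have hm : σ l = m := by
      by_contra hne'
      have h4 := hfix _ hne hne'
      exact hne (σ.injective h4)
    exact h.no_swap hO nl hA hc hlm hAm hσ hm hfix
  have hmm : σ m = m := by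
    by_contra hne
    have hne' : σ m ≠ l := fun e => hlm (σ.injective (hl.trans e.symm))
    exact hne (σ.injective (hfix _ hne' hne))
  rw [hD, mem_centralizer_iff]
  rintro _ ⟨i, rfl⟩
  have hi : σ i = i := by
    by_cases h1 : i = l
    · rw [h1]; exact hl
    by_cases h2 : i = m
    · rw [h2]; exact hmm
    · exact hfix i h1 h2
  have := hσz i
  rw [hi] at this
  exact (mul_inv_eq_iff_eq_mul.1 this).symm

/-- **THEOREM U (2), weak UNI**: `B` is a Sylow 2-subgroup of `X = C_G(z_n : n ≠ l, m)`. -/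
theorem FrW.syl [Finite ι] (hO : O ≠ ⊥)
    (nl : ∀ R : Subgroup G, R ≠ ⊥ → IsPGroup 2 R → ¬ ∀ j, Y' j ≤ normalizer (R : Set G))
    {A : Subgroup G} (hA : A ∈ AA O) (hc : ∀ i, A ≤ centralizer (N i : Set G)) {l m : ι} (hlm : l ≠ m)
    (hAm : ¬ A ≤ centralizer (MM Y' N {l, m} : Set G))
    {B : Subgroup G} (hB : IsPGroup 2 B) (hBD : B ≤ D) (hsyl : ¬ 2 ∣ B.relIndex D)
    {z : ι → G} (hz : Function.Injective z) (hD : D = centralizer (Set.range z))
    (NB : ∀ g ∈ normalizer (B : Set G), ∃ σ : Equiv.Perm ι, SyW O Y Y' N g σ ∧ ∀ i, g * z i * g⁻¹ = z (σ i)) :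
    ¬ 2 ∣ B.relIndex (centralizer {x | ∃ n, n ≠ l ∧ n ≠ m ∧ z n = x}) := by
  refine sylow_of_norm hB hBD ?_ hsyl (h.nB hO nl hA hc hlm hAm hz hD NB)
  rw [hD]
  exact centralizer_le (by rintro _ ⟨n, -, -, rfl⟩; exact ⟨n, rfl⟩)

/-- **THEOREM U (1), (2) together, weak UNI.** -/
theorem FrW.main [Finite ι] (hO : O ≠ ⊥)
    (nl : ∀ R : Subgroup G, R ≠ ⊥ → IsPGroup 2 R → ¬ ∀ j, Y' j ≤ normalizer (R : Set G))
    {B : Subgroup G} (hB : IsPGroup 2 B) (hBD : B ≤ D) (hsyl : ¬ 2 ∣ B.relIndex D)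
    {z : ι → G} (hz : Function.Injective z) (hD : D = centralizer (Set.range z))
    (NB : ∀ g ∈ normalizer (B : Set G), ∃ σ : Equiv.Perm ι, SyW O Y Y' N g σ ∧ ∀ i, g * z i * g⁻¹ = z (σ i)) :
    ∃ A ∈ AA O, (∀ i, A ≤ centralizer (N i : Set G)) ∧ ∃ l m, l ≠ m ∧
      ¬ A ≤ centralizer (EI ZJ Y {l, m} : Set G) ∧
      ¬ 2 ∣ B.relIndex (centralizer {x | ∃ n, n ≠ l ∧ n ≠ m ∧ z n = x}) ∧
      centralizer {x | ∃ n, n ≠ l ∧ n ≠ m ∧ z n = x} ⊓ normalizer (B : Set G) ≤ D := by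
  obtain ⟨A, hA, hc, l, m, hlm, hAm⟩ := h.exists_A hO nl
  exact ⟨A, hA, hc, l, m, hlm, fun hx => hAm (hx.trans (centralizer_le (h.MM_le_EI _))),
    h.syl hO nl hA hc hlm hAm hB hBD hsyl hz hD NB, h.nB hO nl hA hc hlm hAm hz hD NB⟩

end core

end Cfsg.Agent.Omega.EDel.BxW

end

-- merged: Cfsg.Agent.Mrg.Omega.EDel.ThmUEnd
section

section


/-!
# THEOREM U (helper23 #24127): (3), over helper863's `LocIn`

* `XX z l m` : `C_G(z_n : n ≠ l, m)`;
* `FB` : the frame over `B`;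
* `FB.locIn` : the input of SIGMA inside `XX z l m`, with Sylow 2-subgroup `B`;
* `FB.false_of` : THEOREM U.
-/

set_option autoImplicit false
set_option linter.unusedSectionVars false

namespace Cfsg.Agent.Omega.EDel.ThmU

open Subgroup Cfsg Cfsg.Agent.ZN Cfsg.Agent.ZN.ChoiceBase
open Cfsg.Agent.Omega.NO3S.EThree
open Cfsg.Agent.Omega.NO3S.EThree.ExactA (eab_mono eab_sup eab_iff)
open Cfsg.Agent.Omega.NoFF.Basic (comm_symm comm_mono)
open Cfsg.Agent.Omega.NoFF.ThmJQ (MxIn)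
open Cfsg.Agent.Omega.ESym.CoreS
open Cfsg.Agent.MinSimple.MinParabolic (IsMinPar)
open Cfsg.Agent.Omega.ML.Final (MLK)
open Cfsg.Agent.Omega.NOThreeL.Sigma (LocIn)

universe u

variable {G : Type u} [Group G]

/-- `X = C_G(z_n : n ≠ l, m)` -/
def XX {ι : Type*} (z : ι → G) (l m : ι) : Subgroup G := centralizer {x | ∃ n, n ≠ l ∧ n ≠ m ∧ z n = x}

/-- **The frame of THEOREM U over `B`.** -/
structure FB {ι : Type*} (B D ZJ : Subgroup G) (z : ι → G) (Y N : ι → Subgroup G) : Prop where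
  fr : Fr (o2 D) D ZJ Y N
  two : IsPGroup 2 B
  BD : B ≤ D
  syl : ¬ 2 ∣ B.relIndex D
  inj : Function.Injective z
  ZJ_eq : ZJ = closure (Set.range z)
  ZB : ZJ ≤ B
  D_eq : D = centralizer (ZJ : Set G)
  Y_eq : ∀ i, Y i = centralizer {x | ∃ n, n ≠ i ∧ z n = x}
  NB : ∀ g ∈ normalizer (B : Set G), ∃ σ : Equiv.Perm ι, Sy (o2 D) Y N g σ ∧ ∀ i, g * z i * g⁻¹ = z (σ i)
  ch : ∀ l m, l ≠ m → XX z l m ⊓ centralizer (o2 (XX z l m) : Set G) ≤ o2 (XX z l m)
  KX : ∀ l m, l ≠ m → IsKGroup (XX z l m)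
  /-- UNI+, only needed when `B` is Sylow in `X` and `N_X(B) ≤ D` -/
  par : ∀ l m, l ≠ m → ¬ 2 ∣ B.relIndex (XX z l m) → XX z l m ⊓ normalizer (B : Set G) ≤ D →
    ∀ P, IsMinPar B P → P ≤ XX z l m → P ≤ centralizer ({z l} : Set G) ∨ P ≤ centralizer ({z m} : Set G)

theorem XX_comm {ι : Type*} (z : ι → G) (l m : ι) : XX z l m = XX z m l := by
  unfold XX
  congr 1
  ext x
  constructor
  · rintro ⟨n, h1, h2, h3⟩
    exact ⟨n, h2, h1, h3⟩
  · rintro ⟨n, h1, h2, h3⟩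
    exact ⟨n, h2, h1, h3⟩

section fb

variable [Finite G] {ι : Type*} [Finite ι] {B D ZJ : Subgroup G} {z : ι → G} {Y N : ι → Subgroup G}
  (h : FB B D ZJ z Y N)
include h

theorem FB.z_mem (i : ι) : z i ∈ ZJ := by
  rw [h.ZJ_eq]
  exact subset_closure ⟨i, rfl⟩

theorem FB.D_range : D = centralizer (Set.range z) := by
  rw [h.D_eq, h.ZJ_eq, centralizer_closure]

theorem FB.DX (l m : ι) : D ≤ XX z l m := by
  rw [h.D_range]
  exact centralizer_le (by rintro _ ⟨n, -, -, rfl⟩; exact ⟨n, rfl⟩)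

theorem FB.X_inf (l m : ι) : XX z l m ⊓ centralizer (ZJ : Set G) = D := by
  rw [← h.D_eq]
  exact inf_eq_right.2 (h.DX l m)

/-- `C_X(z_l) = Y m` -/
theorem FB.X_cent {l m : ι} (hlm : l ≠ m) : XX z l m ⊓ centralizer ({z l} : Set G) = Y m := by
  rw [h.Y_eq]
  ext g
  rw [mem_inf]
  constructor
  · rintro ⟨h1, h2⟩
    rw [mem_centralizer_iff]
    rintro _ ⟨n, hn, rfl⟩
    by_cases hnl : n = l
    · rw [hnl]; exact (mem_centralizer_iff.1 h2) (z l) rfl
    · exact (mem_centralizer_iff.1 h1) (z n) ⟨n, hnl, hn, rfl⟩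
  · intro h1
    refine ⟨?_, ?_⟩
    · rw [XX, mem_centralizer_iff]
      rintro _ ⟨n, -, hn, rfl⟩
      exact (mem_centralizer_iff.1 h1) (z n) ⟨n, hn, rfl⟩
    · rw [mem_centralizer_iff]
      rintro _ rfl
      exact (mem_centralizer_iff.1 h1) (z l) ⟨l, hlm, rfl⟩

theorem FB.YX {l m : ι} (hlm : l ≠ m) : Y m ≤ XX z l m := by
  rw [← h.X_cent hlm]
  exact inf_le_left

/-- `E_{lm} ≤ C(O₂(X))` -/
theorem FB.cent_EI {l m : ι} (hlm : l ≠ m) (hX : ¬ 2 ∣ B.relIndex (XX z l m)) :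
    o2 (XX z l m) ≤ centralizer (EI ZJ Y {l, m} : Set G) := by
  have h1 : o2 (XX z l m) ≤ B := MinSimple.VModule.o2_le_of_sylow h.two hX
  have h2 : o2 (XX z l m) ≤ centralizer (ZJ : Set G) := by
    rw [← h.D_eq]
    exact h1.trans h.BD
  have hle : (⨆ i : ({l, m} : Set ι), Y i : Subgroup G) ≤ XX z l m := by
    have key : ∀ i ∈ ({l, m} : Set ι), Y i ≤ XX z l m := by
      intro i hi
      rcases hi with rfl | hi
      · rw [XX_comm]
        exact h.YX hlm.symm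
      · rw [show i = m from hi]
        exact h.YX hlm
    exact iSup_le fun i => key i.1 i.2
  refine comm_symm (iSup_le fun y => ?_)
  have h3 := cj_mono (y : G) (comm_symm h2)
  rwa [cj_centralizer, cj_eq_of_mem_normalizer (MinSimple.VModule.le_normalizer_o2 _ (hle y.2))] at h3

/-- **The input of SIGMA inside `X = C_G(z_n : n ≠ l, m)`.** -/
theorem FB.locIn (hO : o2 D ≠ ⊥)
    (nl : ∀ R : Subgroup G, R ≠ ⊥ → IsPGroup 2 R → ¬ ∀ j, Y j ≤ normalizer (R : Set G)) :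
    ∃ A : Subgroup G, ∃ l m, l ≠ m ∧ LocIn 2 (XX z l m) B ZJ A := by
  obtain ⟨A, hA, hc, l, m, hlm, hAm, hsyl, hnB⟩ :=
    h.fr.main hO nl h.two h.BD h.syl h.inj h.D_range h.NB
  change ¬ 2 ∣ B.relIndex (XX z l m) at hsyl
  change XX z l m ⊓ normalizer (B : Set G) ≤ D at hnB
  have hAo : ∀ i, A ≤ o2 (Y i) := by
    intro i
    refine (le_inf hA.2.1 (hc i)).trans (MinSimple.VModule.le_o2 (inf_le_left.trans (h.fr.OY i)) (h.fr.two.to_le inf_le_left) ?_)
    exact h.fr.YQ i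
  have hsq : ∀ x ∈ ZJ, x ^ 2 = 1 := by
    intro x hx
    have h1 := (eab_iff.1 (h.fr.eab _ (h.fr.ne_univ l)).1).2
    refine h1 x ?_
    have h2 : ZJ ≤ EI ZJ Y {l} := by
      have := le_iSup (fun y : (⨆ i : ({l} : Set ι), Y i : Subgroup G) => cj (y : G) ZJ) 1
      simp only [OneMemClass.coe_one, cj_one] at this
      exact this
    exact h2 hx
  have hDX : D ≤ XX z l m := h.DX l m
  -- `|ZJ : C_ZJ(P)| ≤ 2`
  have hpar : ∀ P : Subgroup G, ∀ i, (∀ n, n ≠ i → P ≤ centralizer ({z n} : Set G)) →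
      (ZJ ⊓ centralizer (P : Set G)).relIndex ZJ ≤ 2 := by
    intro P i hP
    have hZc : ∀ x ∈ ZJ, ∀ y ∈ ZJ, x * y = y * x := by
      intro x hx y hy
      have h1 : ZJ ≤ centralizer (ZJ : Set G) := by
        rw [← h.D_eq]
        exact h.ZB.trans h.BD
      exact (mem_centralizer_iff.1 (h1 hy) x hx)
    -- every element is in `C` or in `C z_i`
    have hcos : ∀ x ∈ ZJ, x ∈ ZJ ⊓ centralizer (P : Set G) ∨ x * (z i)⁻¹ ∈ ZJ ⊓ centralizer (P : Set G) := by
      intro x hx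
      have hx' := hx
      rw [h.ZJ_eq] at hx'
      have hzi : z i ∈ ZJ := h.z_mem i
      have hzi2 : z i * z i = 1 := by rw [← pow_two]; exact hsq _ hzi
      have hzinv : (z i)⁻¹ = z i := inv_eq_of_mul_eq_one_left hzi2
      have key : ∀ x ∈ closure (Set.range z), x ∈ ZJ ∧ (x ∈ ZJ ⊓ centralizer (P : Set G) ∨
          x * (z i)⁻¹ ∈ ZJ ⊓ centralizer (P : Set G)) := by
        intro x hx
        induction hx using closure_induction with
        | mem x hx =>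
          obtain ⟨n, rfl⟩ := hx
          refine ⟨h.z_mem n, ?_⟩
          by_cases hn : n = i
          · right
            rw [hn, mul_inv_cancel]
            exact one_mem _
          · left
            refine mem_inf.2 ⟨h.z_mem n, ?_⟩
            rw [mem_centralizer_iff]
            intro p hp
            exact (mem_centralizer_iff.1 (hP n hn hp) (z n) rfl).symm
        | one => exact ⟨one_mem _, Or.inl (one_mem _)⟩
        | mul x y _ _ hx hy =>
          refine ⟨mul_mem hx.1 hy.1, ?_⟩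
          rcases hx.2 with h1 | h1 <;> rcases hy.2 with h2 | h2
          · exact Or.inl (mul_mem h1 h2)
          · right
            rw [mul_assoc]
            exact mul_mem h1 h2
          · right
            have e : x * y * (z i)⁻¹ = x * (z i)⁻¹ * y := by
              rw [mul_assoc, mul_assoc, hZc y hy.1 _ (inv_mem hzi)]
            rw [e]
            exact mul_mem h1 h2
          · left
            have e : x * y = (x * (z i)⁻¹) * (y * (z i)⁻¹) := by
              have : (x * (z i)⁻¹) * (y * (z i)⁻¹) = x * y * ((z i)⁻¹ * (z i)⁻¹) := by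
                rw [mul_assoc, ← mul_assoc _ y, hZc _ (inv_mem hzi) y hy.1]
                group
              rw [this, hzinv, hzi2, mul_one]
            rw [e]
            exact mul_mem h1 h2
        | inv x _ hx =>
          have e : x⁻¹ = x := inv_eq_of_mul_eq_one_left (by rw [← pow_two]; exact hsq x hx.1)
          rw [e]
          exact hx
      exact (key x hx').2
    set C := ZJ ⊓ centralizer (P : Set G) with hC
    have hCle : C ≤ ZJ := inf_le_left
    rw [relIndex]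
    by_contra hcon
    push Not at hcon
    -- three cosets
    have hfin : Finite (ZJ ⧸ C.subgroupOf ZJ) := inferInstance
    have hcard : (C.subgroupOf ZJ).index = Nat.card (ZJ ⧸ C.subgroupOf ZJ) := index_eq_card _
    have hsurj : Function.Surjective (fun b : Bool =>
        (QuotientGroup.mk (if b then (1 : ZJ) else ⟨z i, h.z_mem i⟩) : ZJ ⧸ C.subgroupOf ZJ)) := by
      intro q
      induction q using QuotientGroup.induction_on with
      | H x =>
        rcases hcos x x.2 with h1 | h1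
        · refine ⟨true, ?_⟩
          simp only [if_true]
          rw [QuotientGroup.eq, mem_subgroupOf]
          simpa using h1
        · refine ⟨false, ?_⟩
          simp only [Bool.false_eq_true, if_false]
          rw [QuotientGroup.eq, mem_subgroupOf]
          have : ((⟨z i, h.z_mem i⟩ : ZJ)⁻¹ * x : ZJ) = (((x : G) * (z i)⁻¹ : G)) := by
            change (z i)⁻¹ * (x : G) = (x : G) * (z i)⁻¹
            exact hZc _ (inv_mem (h.z_mem i)) _ x.2
          rw [this]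
          exact h1
    have h1 := Nat.card_le_card_of_surjective _ hsurj
    rw [Nat.card_eq_fintype_card (α := Bool), Fintype.card_bool, ← hcard] at h1
    omega
  have hXn : ∀ P : Subgroup G, P ≤ XX z l m → ∀ n, n ≠ l → n ≠ m → P ≤ centralizer ({z n} : Set G) := by
    intro P hP n h1 h2
    exact hP.trans (centralizer_le (by rintro _ rfl; exact ⟨n, h1, h2, rfl⟩))
  refine ⟨A, l, m, hlm, ?_⟩
  exact
    { two := h.two
      TY := h.BD.trans hDX
      syl := hsyl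
      ZT := h.ZB
      TZ := h.D_eq ▸ h.BD
      sq := hsq
      nZ := by
        refine hnB.trans ?_
        rw [h.D_eq]
        exact centralizer_le_normalizer _
      ch := fun R hR hRX => by
        rw [h.X_inf] at hR
        have h1 : o2 (XX z l m) ≤ B := MinSimple.VModule.o2_le_of_sylow h.two hsyl
        have hBR : B ≤ R := h.BD.trans hR
        have h2 : o2 (XX z l m) ≤ o2 R :=
          MinSimple.VModule.le_o2 (h1.trans hBR) (MinSimple.VModule.o2_isPGroup _) (hRX.trans (MinSimple.VModule.le_normalizer_o2 _))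
        have hsylR : ¬ 2 ∣ B.relIndex R := fun h3 => by
          apply hsyl
          rw [← relIndex_mul_relIndex B R _ hBR hRX]
          exact h3.mul_right _
        have h3 : o2 R ≤ B := MinSimple.VModule.o2_le_of_sylow h.two hsylR
        have h4 : ZJ ≤ centralizer (o2 (XX z l m) : Set G) := by
          refine comm_symm ?_
          rw [← h.D_eq]
          exact h1.trans h.BD
        exact ((le_inf (h.ZB.trans (h.BD.trans hDX)) h4).trans (h.ch l m hlm)).trans h2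
      mx := by
        rw [h.X_inf]
        refine ⟨(eab_iff.1 hA.1).2, hA.2.1, fun C hC hCO => hA.2.2 C ?_ hCO⟩
        exact eab_iff.2 ⟨hC.comm, hC⟩
      nA := fun hcon => hAm (hcon.trans (h.cent_EI hlm hsyl))
      par := fun P hP hPX => by
        rcases h.par l m hlm hsyl hnB P hP hPX with h1 | h1
        · refine hpar P m fun n hn => ?_
          by_cases hnl : n = l
          · rw [hnl]; exact h1
          · exact hXn P hPX n hnl hn
        · refine hpar P l fun n hn => ?_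
          by_cases hnm : n = m
          · rw [hnm]; exact h1
          · exact hXn P hPX n hn hnm
      fix := fun P hP hPX _ => by
        rcases h.par l m hlm hsyl hnB P hP hPX with h1 | h1
        · refine ⟨z l, h.z_mem l, h1, ?_⟩
          rw [h.X_cent hlm]
          exact hAo m
        · refine ⟨z m, h.z_mem m, h1, ?_⟩
          rw [XX_comm, h.X_cent hlm.symm]
          exact hAo l
      KY := h.KX l m hlm }

/-- **THEOREM U**: (E) is impossible. -/
theorem FB.false_of (ml : MLK.{u, u}) (hE : ML.Ex.Two.Ext.{u, u}) (hO : o2 D ≠ ⊥)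
    (nl : ∀ R : Subgroup G, R ≠ ⊥ → IsPGroup 2 R → ¬ ∀ j, Y j ≤ normalizer (R : Set G)) : False := by
  obtain ⟨A, l, m, -, hL⟩ := h.locIn hO nl
  exact LocIn.false_of ml hE hL

end fb

end Cfsg.Agent.Omega.EDel.ThmU

end

section


/-!
# THEOREM U with weak UNI (helper165 #26684): (3), over helper863's `LocIn`

* `FBW` : the frame over `B`;
* `FBW.locIn` : the input of SIGMA inside `XX z l m`, with Sylow 2-subgroup `B`;
* `FBW.false_of` : THEOREM U with weak UNI.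
-/

set_option autoImplicit false
set_option linter.unusedSectionVars false

namespace Cfsg.Agent.Omega.EDel.BxW

open Subgroup Cfsg Cfsg.Agent.ZN Cfsg.Agent.ZN.ChoiceBase
open Cfsg.Agent.Omega.NO3S.EThree
open Cfsg.Agent.Omega.NO3S.EThree.ExactA (eab_mono eab_sup eab_iff)
open Cfsg.Agent.Omega.NoFF.Basic (comm_symm comm_mono)
open Cfsg.Agent.Omega.NoFF.ThmJQ (MxIn)
open Cfsg.Agent.Omega.ESym.CoreS
open Cfsg.Agent.MinSimple.MinParabolic (IsMinPar)
open Cfsg.Agent.Omega.ML.Final (MLK)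
open Cfsg.Agent.Omega.NOThreeL.Sigma (LocIn)
open Cfsg.Agent.Omega.EDel.ThmU (XX XX_comm)

universe u

variable {G : Type u} [Group G]

/-- **The frame of THEOREM U over `B`.** -/
structure FBW {ι : Type*} (B D ZJ : Subgroup G) (z : ι → G) (Y Y' N : ι → Subgroup G) : Prop where
  fr : FrW (o2 D) D ZJ Y Y' N
  two : IsPGroup 2 B
  BD : B ≤ D
  syl : ¬ 2 ∣ B.relIndex D
  inj : Function.Injective z
  ZJ_eq : ZJ = closure (Set.range z)
  ZB : ZJ ≤ B
  D_eq : D = centralizer (ZJ : Set G)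
  Y_eq : ∀ i, Y i = centralizer {x | ∃ n, n ≠ i ∧ z n = x}
  NB : ∀ g ∈ normalizer (B : Set G), ∃ σ : Equiv.Perm ι, SyW (o2 D) Y Y' N g σ ∧ ∀ i, g * z i * g⁻¹ = z (σ i)
  ch : ∀ l m, l ≠ m → XX z l m ⊓ centralizer (o2 (XX z l m) : Set G) ≤ o2 (XX z l m)
  KX : ∀ l m, l ≠ m → IsKGroup (XX z l m)
  /-- UNI+, only needed when `B` is Sylow in `X` and `N_X(B) ≤ D` -/
  par : ∀ l m, l ≠ m → ¬ 2 ∣ B.relIndex (XX z l m) → XX z l m ⊓ normalizer (B : Set G) ≤ D →
    ∀ P, IsMinPar B P → P ≤ XX z l m → P ≤ centralizer ({z l} : Set G) ∨ P ≤ centralizer ({z m} : Set G)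

section fb

variable [Finite G] {ι : Type*} [Finite ι] {B D ZJ : Subgroup G} {z : ι → G} {Y Y' N : ι → Subgroup G}
  (h : FBW B D ZJ z Y Y' N)
include h

theorem FBW.z_mem (i : ι) : z i ∈ ZJ := by
  rw [h.ZJ_eq]
  exact subset_closure ⟨i, rfl⟩

theorem FBW.D_range : D = centralizer (Set.range z) := by
  rw [h.D_eq, h.ZJ_eq, centralizer_closure]

theorem FBW.DX (l m : ι) : D ≤ XX z l m := by
  rw [h.D_range]
  exact centralizer_le (by rintro _ ⟨n, -, -, rfl⟩; exact ⟨n, rfl⟩)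

theorem FBW.X_inf (l m : ι) : XX z l m ⊓ centralizer (ZJ : Set G) = D := by
  rw [← h.D_eq]
  exact inf_eq_right.2 (h.DX l m)

/-- `C_X(z_l) = Y m` -/
theorem FBW.X_cent {l m : ι} (hlm : l ≠ m) : XX z l m ⊓ centralizer ({z l} : Set G) = Y m := by
  rw [h.Y_eq]
  ext g
  rw [mem_inf]
  constructor
  · rintro ⟨h1, h2⟩
    rw [mem_centralizer_iff]
    rintro _ ⟨n, hn, rfl⟩
    by_cases hnl : n = l
    · rw [hnl]; exact (mem_centralizer_iff.1 h2) (z l) rfl
    · exact (mem_centralizer_iff.1 h1) (z n) ⟨n, hnl, hn, rfl⟩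
  · intro h1
    refine ⟨?_, ?_⟩
    · rw [XX, mem_centralizer_iff]
      rintro _ ⟨n, -, hn, rfl⟩
      exact (mem_centralizer_iff.1 h1) (z n) ⟨n, hn, rfl⟩
    · rw [mem_centralizer_iff]
      rintro _ rfl
      exact (mem_centralizer_iff.1 h1) (z l) ⟨l, hlm, rfl⟩

theorem FBW.YX {l m : ι} (hlm : l ≠ m) : Y m ≤ XX z l m := by
  rw [← h.X_cent hlm]
  exact inf_le_left

/-- `E_{lm} ≤ C(O₂(X))` -/
theorem FBW.cent_EI {l m : ι} (hlm : l ≠ m) (hX : ¬ 2 ∣ B.relIndex (XX z l m)) :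
    o2 (XX z l m) ≤ centralizer (EI ZJ Y {l, m} : Set G) := by
  have h1 : o2 (XX z l m) ≤ B := MinSimple.VModule.o2_le_of_sylow h.two hX
  have h2 : o2 (XX z l m) ≤ centralizer (ZJ : Set G) := by
    rw [← h.D_eq]
    exact h1.trans h.BD
  have hle : (⨆ i : ({l, m} : Set ι), Y i : Subgroup G) ≤ XX z l m := by
    have key : ∀ i ∈ ({l, m} : Set ι), Y i ≤ XX z l m := by
      intro i hi
      rcases hi with rfl | hi
      · rw [XX_comm]
        exact h.YX hlm.symm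
      · rw [show i = m from hi]
        exact h.YX hlm
    exact iSup_le fun i => key i.1 i.2
  refine comm_symm (iSup_le fun y => ?_)
  have h3 := cj_mono (y : G) (comm_symm h2)
  rwa [cj_centralizer, cj_eq_of_mem_normalizer (MinSimple.VModule.le_normalizer_o2 _ (hle y.2))] at h3

/-- **The input of SIGMA inside `X = C_G(z_n : n ≠ l, m)`.** -/
theorem FBW.locIn (hO : o2 D ≠ ⊥)
    (nl : ∀ R : Subgroup G, R ≠ ⊥ → IsPGroup 2 R → ¬ ∀ j, Y' j ≤ normalizer (R : Set G)) :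
    ∃ A : Subgroup G, ∃ l m, l ≠ m ∧ LocIn 2 (XX z l m) B ZJ A := by
  obtain ⟨A, hA, hc, l, m, hlm, hAm, hsyl, hnB⟩ :=
    h.fr.main hO nl h.two h.BD h.syl h.inj h.D_range h.NB
  change ¬ 2 ∣ B.relIndex (XX z l m) at hsyl
  change XX z l m ⊓ normalizer (B : Set G) ≤ D at hnB
  have hAo : ∀ i, A ≤ o2 (Y i) := by
    intro i
    refine (le_inf hA.2.1 (hc i)).trans (MinSimple.VModule.le_o2 (inf_le_left.trans (h.fr.OY i)) (h.fr.two.to_le inf_le_left) ?_)
    exact h.fr.YQ i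
  have hsq : ∀ x ∈ ZJ, x ^ 2 = 1 := by
    intro x hx
    have h1 := (eab_iff.1 (h.fr.eab _ (h.fr.ne_univ l)).1).2
    refine h1 x ?_
    have h2 : ZJ ≤ EI ZJ Y {l} := by
      have := le_iSup (fun y : (⨆ i : ({l} : Set ι), Y i : Subgroup G) => cj (y : G) ZJ) 1
      simp only [OneMemClass.coe_one, cj_one] at this
      exact this
    exact h2 hx
  have hDX : D ≤ XX z l m := h.DX l m
  -- `|ZJ : C_ZJ(P)| ≤ 2`
  have hpar : ∀ P : Subgroup G, ∀ i, (∀ n, n ≠ i → P ≤ centralizer ({z n} : Set G)) →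
      (ZJ ⊓ centralizer (P : Set G)).relIndex ZJ ≤ 2 := by
    intro P i hP
    have hZc : ∀ x ∈ ZJ, ∀ y ∈ ZJ, x * y = y * x := by
      intro x hx y hy
      have h1 : ZJ ≤ centralizer (ZJ : Set G) := by
        rw [← h.D_eq]
        exact h.ZB.trans h.BD
      exact (mem_centralizer_iff.1 (h1 hy) x hx)
    -- every element is in `C` or in `C z_i`
    have hcos : ∀ x ∈ ZJ, x ∈ ZJ ⊓ centralizer (P : Set G) ∨ x * (z i)⁻¹ ∈ ZJ ⊓ centralizer (P : Set G) := by
      intro x hx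
      have hx' := hx
      rw [h.ZJ_eq] at hx'
      have hzi : z i ∈ ZJ := h.z_mem i
      have hzi2 : z i * z i = 1 := by rw [← pow_two]; exact hsq _ hzi
      have hzinv : (z i)⁻¹ = z i := inv_eq_of_mul_eq_one_left hzi2
      have key : ∀ x ∈ closure (Set.range z), x ∈ ZJ ∧ (x ∈ ZJ ⊓ centralizer (P : Set G) ∨
          x * (z i)⁻¹ ∈ ZJ ⊓ centralizer (P : Set G)) := by
        intro x hx
        induction hx using closure_induction with
        | mem x hx =>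
          obtain ⟨n, rfl⟩ := hx
          refine ⟨h.z_mem n, ?_⟩
          by_cases hn : n = i
          · right
            rw [hn, mul_inv_cancel]
            exact one_mem _
          · left
            refine mem_inf.2 ⟨h.z_mem n, ?_⟩
            rw [mem_centralizer_iff]
            intro p hp
            exact (mem_centralizer_iff.1 (hP n hn hp) (z n) rfl).symm
        | one => exact ⟨one_mem _, Or.inl (one_mem _)⟩
        | mul x y _ _ hx hy =>
          refine ⟨mul_mem hx.1 hy.1, ?_⟩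
          rcases hx.2 with h1 | h1 <;> rcases hy.2 with h2 | h2
          · exact Or.inl (mul_mem h1 h2)
          · right
            rw [mul_assoc]
            exact mul_mem h1 h2
          · right
            have e : x * y * (z i)⁻¹ = x * (z i)⁻¹ * y := by
              rw [mul_assoc, mul_assoc, hZc y hy.1 _ (inv_mem hzi)]
            rw [e]
            exact mul_mem h1 h2
          · left
            have e : x * y = (x * (z i)⁻¹) * (y * (z i)⁻¹) := by
              have : (x * (z i)⁻¹) * (y * (z i)⁻¹) = x * y * ((z i)⁻¹ * (z i)⁻¹) := by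
                rw [mul_assoc, ← mul_assoc _ y, hZc _ (inv_mem hzi) y hy.1]
                group
              rw [this, hzinv, hzi2, mul_one]
            rw [e]
            exact mul_mem h1 h2
        | inv x _ hx =>
          have e : x⁻¹ = x := inv_eq_of_mul_eq_one_left (by rw [← pow_two]; exact hsq x hx.1)
          rw [e]
          exact hx
      exact (key x hx').2
    set C := ZJ ⊓ centralizer (P : Set G) with hC
    have hCle : C ≤ ZJ := inf_le_left
    rw [relIndex]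
    by_contra hcon
    push Not at hcon
    -- three cosets
    have hfin : Finite (ZJ ⧸ C.subgroupOf ZJ) := inferInstance
    have hcard : (C.subgroupOf ZJ).index = Nat.card (ZJ ⧸ C.subgroupOf ZJ) := index_eq_card _
    have hsurj : Function.Surjective (fun b : Bool =>
        (QuotientGroup.mk (if b then (1 : ZJ) else ⟨z i, h.z_mem i⟩) : ZJ ⧸ C.subgroupOf ZJ)) := by
      intro q
      induction q using QuotientGroup.induction_on with
      | H x =>
        rcases hcos x x.2 with h1 | h1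
        · refine ⟨true, ?_⟩
          simp only [if_true]
          rw [QuotientGroup.eq, mem_subgroupOf]
          simpa using h1
        · refine ⟨false, ?_⟩
          simp only [Bool.false_eq_true, if_false]
          rw [QuotientGroup.eq, mem_subgroupOf]
          have : ((⟨z i, h.z_mem i⟩ : ZJ)⁻¹ * x : ZJ) = (((x : G) * (z i)⁻¹ : G)) := by
            change (z i)⁻¹ * (x : G) = (x : G) * (z i)⁻¹
            exact hZc _ (inv_mem (h.z_mem i)) _ x.2
          rw [this]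
          exact h1
    have h1 := Nat.card_le_card_of_surjective _ hsurj
    rw [Nat.card_eq_fintype_card (α := Bool), Fintype.card_bool, ← hcard] at h1
    omega
  have hXn : ∀ P : Subgroup G, P ≤ XX z l m → ∀ n, n ≠ l → n ≠ m → P ≤ centralizer ({z n} : Set G) := by
    intro P hP n h1 h2
    exact hP.trans (centralizer_le (by rintro _ rfl; exact ⟨n, h1, h2, rfl⟩))
  refine ⟨A, l, m, hlm, ?_⟩
  exact
    { two := h.two
      TY := h.BD.trans hDX
      syl := hsyl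
      ZT := h.ZB
      TZ := h.D_eq ▸ h.BD
      sq := hsq
      nZ := by
        refine hnB.trans ?_
        rw [h.D_eq]
        exact centralizer_le_normalizer _
      ch := fun R hR hRX => by
        rw [h.X_inf] at hR
        have h1 : o2 (XX z l m) ≤ B := MinSimple.VModule.o2_le_of_sylow h.two hsyl
        have hBR : B ≤ R := h.BD.trans hR
        have h2 : o2 (XX z l m) ≤ o2 R :=
          MinSimple.VModule.le_o2 (h1.trans hBR) (MinSimple.VModule.o2_isPGroup _) (hRX.trans (MinSimple.VModule.le_normalizer_o2 _))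
        have hsylR : ¬ 2 ∣ B.relIndex R := fun h3 => by
          apply hsyl
          rw [← relIndex_mul_relIndex B R _ hBR hRX]
          exact h3.mul_right _
        have h3 : o2 R ≤ B := MinSimple.VModule.o2_le_of_sylow h.two hsylR
        have h4 : ZJ ≤ centralizer (o2 (XX z l m) : Set G) := by
          refine comm_symm ?_
          rw [← h.D_eq]
          exact h1.trans h.BD
        exact ((le_inf (h.ZB.trans (h.BD.trans hDX)) h4).trans (h.ch l m hlm)).trans h2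
      mx := by
        rw [h.X_inf]
        refine ⟨(eab_iff.1 hA.1).2, hA.2.1, fun C hC hCO => hA.2.2 C ?_ hCO⟩
        exact eab_iff.2 ⟨hC.comm, hC⟩
      nA := fun hcon => hAm (hcon.trans (h.cent_EI hlm hsyl))
      par := fun P hP hPX => by
        rcases h.par l m hlm hsyl hnB P hP hPX with h1 | h1
        · refine hpar P m fun n hn => ?_
          by_cases hnl : n = l
          · rw [hnl]; exact h1
          · exact hXn P hPX n hnl hn
        · refine hpar P l fun n hn => ?_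
          by_cases hnm : n = m
          · rw [hnm]; exact h1
          · exact hXn P hPX n hn hnm
      fix := fun P hP hPX _ => by
        rcases h.par l m hlm hsyl hnB P hP hPX with h1 | h1
        · refine ⟨z l, h.z_mem l, h1, ?_⟩
          rw [h.X_cent hlm]
          exact hAo m
        · refine ⟨z m, h.z_mem m, h1, ?_⟩
          rw [XX_comm, h.X_cent hlm.symm]
          exact hAo l
      KY := h.KX l m hlm }

/-- **THEOREM U**: (E) is impossible. -/
theorem FBW.false_of (ml : MLK.{u, u}) (hE : ML.Ex.Two.Ext.{u, u}) (hO : o2 D ≠ ⊥)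
    (nl : ∀ R : Subgroup G, R ≠ ⊥ → IsPGroup 2 R → ¬ ∀ j, Y' j ≤ normalizer (R : Set G)) : False := by
  obtain ⟨A, l, m, -, hL⟩ := h.locIn hO nl
  exact LocIn.false_of ml hE hL

end fb

end Cfsg.Agent.Omega.EDel.BxW

end

end

-- merged: Cfsg.Agent.Mrg.Omega.EDel.Bx.Final
section

/-!
# The universal frame over `B`, `q = 2` : THEOREM U #24127

* `Bx.fb` : helper583's frame `ThmU.FB`;
* `Bx.false_of` : THEOREM U over `Bx`.
-/

set_option autoImplicit false
set_option linter.unusedSectionVars false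

namespace Cfsg.Agent.Omega.EDel.BxF

open Subgroup Cfsg Cfsg.Agent.ZN.ChoiceBase
open Cfsg.Agent.ZN (zc zl o2)
open Cfsg.Agent.ZN.ChoiceSit (Syl o2_le_syl syl_not_dvd)
open Cfsg.Agent.Omega.EK3 (CT mem_CT Yc Nc)
open Cfsg.Agent.Omega.EDel.ThmU (XX FB)

universe u

variable {G : Type u} [Group G]

theorem syl_of_not_dvd [Finite G] {B X : Subgroup G} (hBX : B ≤ X) (h2 : IsPGroup 2 B)
    (h : ¬ 2 ∣ B.relIndex X) : Syl B X := by
  have : Fact (Nat.Prime 2) := ⟨Nat.prime_two⟩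
  refine ⟨hBX, h2, fun Q hQX hQ hBQ => le_antisymm ?_ hBQ⟩
  have h3 : B.relIndex Q ∣ B.relIndex X := by
    rw [← relIndex_mul_relIndex B Q X hBQ hQX]
    exact dvd_mul_right _ _
  obtain ⟨n, hn⟩ := (IsPGroup.index hQ (B.subgroupOf Q))
  rw [← relIndex] at hn
  rcases Nat.eq_zero_or_pos n with e | hpos
  · rw [e, pow_zero] at hn
    exact relIndex_eq_one.1 hn
  · exact absurd ((dvd_pow_self 2 hpos.ne').trans (hn ▸ h3)) h

namespace Bx

variable [Finite G] {B J ZJ : Subgroup G} {ι : Type} {W : ι → Subgroup G} {z : ι → G} (h : Bx B J ZJ W z)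
include h

/-- the frame of helper583's `ThmUEnd` -/
theorem fb [Finite ι] (hML : ML.Final.MLK.{u, u}) (kg : ∀ T : Set ι, T.Nonempty → IsKGroup (CT z T)) :
    FB B (centralizer (ZJ : Set G)) ZJ z (Yc z) (Nc z) where
  fr := h.toFr hML fun j => kg _ (compl_one_ne h.three j)
  two := h.two
  BD := h.BD
  syl := syl_not_dvd h.syl
  inj := h.inj
  ZJ_eq := h.closure_eq
  ZB := h.ZJB
  D_eq := rfl
  Y_eq := fun i => Yc_eq z i
  NB := fun _ hg => h.NB hg
  ch := fun l m _ => h.ch l m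
  KX := fun l m _ => by
    unfold XX
    rw [X_eq]
    exact kg _ (compl_two_ne h.three l m)
  par := fun l m hlm hs hN P hP hPX => by
    have hBX : B ≤ XX z l m := by
      unfold XX
      rw [X_eq]
      exact h.B_le_CT _
    exact h.par_pair hlm (syl_of_not_dvd hBX h.two hs) hN hP hPX

/-- **THEOREM U** over `Bx` -/
theorem false_of [Finite ι] [Nonempty ι] (hML : ML.Final.MLK.{u, u}) (hE : ML.Ex.Two.Ext.{u, u})
    (kg : ∀ T : Set ι, T.Nonempty → IsKGroup (CT z T))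
    (nl : ∀ R : Subgroup G, R ≠ ⊥ → IsPGroup 2 R → ¬ ∀ j, Yc z j ≤ normalizer (R : Set G)) : False :=
  (h.fb hML kg).false_of hML hE h.O_ne nl

end Bx

end Cfsg.Agent.Omega.EDel.BxF

end

-- merged: Cfsg.Agent.Mrg.Omega.EDel.Bx.OfLine
section

/-!
# Box R, at least three blocks over `B = bau S` (stage `-1`), `q = 2`: THEOREM U

* `kg_of` : `C_G(z_l : l ∈ T)` is a `K`-group;
* `exists_bx` : `LineV S Q V L W Z C A 2` gives the frame `Bx`;
* `false_line` : THEOREM U over `LineV` in box R.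
-/

set_option autoImplicit false
set_option linter.unusedSectionVars false

namespace Cfsg.Agent.Omega.EDel.BxF

open Subgroup Cfsg Cfsg.Agent.ZN.ChoiceBase
open Cfsg.Agent.ZN (jj zj bau zc zl o2)
open Cfsg.Agent.ZN.ChoiceSit (Syl o2_le_syl)
open Cfsg.Agent.Omega.OM Cfsg.Agent.Omega.OM.Uni
open Cfsg.Agent.Omega.OM.SwapV.NegPair
open Cfsg.Agent.Omega.NO3S.EThree.Frame
open Cfsg.Agent.Omega.EK3 (CT mem_CT Yc mem_Yc)
open Cfsg.Agent.Omega.NOThreeL.RTree (RB)

universe u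

variable {G : Type u} [Group G]

/-- `C_G(z_l : l ∈ T)` is a `K`-group, `T ≠ ∅` -/
theorem kg_of [Finite G] (hG : Frame.Ctx G) {ι : Type} {z : ι → G} (hz : ∀ i, z i ≠ 1) (T : Set ι)
    (hT : T.Nonempty) : IsKGroup (CT z T) := by
  refine hG.kproper _ ?_
  intro e
  obtain ⟨i, hi⟩ := hT
  have hs := hG.simple
  have h1 : z i ∈ center G := by
    rw [mem_center_iff]
    intro g
    exact mem_CT.1 (e ▸ mem_top g) i hi
  rcases hs.eq_bot_or_eq_top_of_normal (center G) inferInstance with h2 | h2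
  · rw [h2, mem_bot] at h1
    exact hz i h1
  · exact hG.nonComm ⟨⟨fun a b => (mem_center_iff.1 (h2 ▸ mem_top b) a)⟩⟩

variable [Finite G] {ι : Type} [Finite ι] {S : Sylow 2 G} {Q V : Subgroup G} {L W Z C A : ι → Subgroup G}

/-- **The universal frame at stage `-1`.** -/
theorem exists_bx (h : LineV S Q V L W Z C A 2) (h3 : ∀ i j : ι, ∃ l, l ≠ i ∧ l ≠ j) :
    ∃ z : ι → G, (∀ i x, x ∈ Z i ↔ x = 1 ∨ x = z i) ∧
      Bx (bau (S : Subgroup G)) (jj (S : Subgroup G)) (zj (S : Subgroup G)) W z := by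
  refine of_fg h.ch (LevD.LB.neg S) (Fg.of_fr h.fr) (fun g hg i => ?_) ?_
    (NO3S.EThree.TiNeg.blkS_neg FF.Glob.ffthm S le_rfl) h3
  · obtain ⟨j, hj, -⟩ := (h.norm hg).2 i
    exact ⟨j, hj⟩
  · rintro L' V' ⟨⟨Z', q', hfb⟩, -⟩
    obtain ⟨-, i, -, -, h1⟩ := h.uniPlus hfb
    rcases h1 with ⟨-, -, h2⟩ | ⟨-, h4, -⟩
    · exact ⟨i, (h2 rfl).2⟩
    · exact absurd h4 (NOThreeL.RRed.BFr.NlNeg.card_ne h h3 i)

/-- **THEOREM U over `LineV` in box R.** -/
theorem false_line (hML : ML.Final.MLK.{u, u}) (hE : ML.Ex.Two.Ext.{u, u}) (B : RB S)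
    (h : LineV S Q V L W Z C A 2) (h3 : ∀ i j : ι, ∃ l, l ≠ i ∧ l ≠ j) [Nonempty ι] : False := by
  obtain ⟨z, hz, hb⟩ := exists_bx h h3
  refine hb.false_of hML hE (kg_of B.ctx hb.ne) fun R hR hR2 hall => hR ?_
  obtain ⟨i⟩ := ‹Nonempty ι›
  refine NOThreeL.RRed.BFr.NlNeg.nl B h h3 hR2 ((hb.D_le i).trans (hall i)) fun j => le_trans ?_ (hall j)
  intro l hl
  refine mem_Yc.2 fun m hm => ?_
  exact h.fr.LC j l hl (z m) (hb.zJ m) (h.fr.WjC j m hm.symm (hb.zW m))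

end Cfsg.Agent.Omega.EDel.BxF

end

-- merged: Cfsg.Agent.Mrg.Omega.EDel.BxW.OfLnV
section

section


/-!
# The universal frame with WEAK UNI over `B = BL S n` (stage `n ≥ 0`), `q = 2`, over `LnV`

A minimal parabolic `R` over `B` which moves `Ω₁Z(B)` has stage `≥ n` (then UNI+), or it is of torus type (helper646's
`LowV.exists_blk`); both are allowed by helper165's frame `Bw`. No transitivity, light pairs with a common letter allowed.

* `weakPar_of` : `R` of lower stage;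
* `exists_bw_lev` : `LnV` (at least three blocks) gives the frame `Bw`.
-/

set_option autoImplicit false
set_option linter.unusedSectionVars false

namespace Cfsg.Agent.Omega.EDel.BxW

open Subgroup Cfsg Cfsg.Agent.ZN.ChoiceBase
open Cfsg.Agent.ZN (zc zl o2)
open Cfsg.Agent.ZN.ChoiceSit (Syl o2_le_syl)
open Cfsg.Agent.Omega.OM Cfsg.Agent.Omega.OM.Uni
open Cfsg.Agent.Omega.OM.SwapL (ZL BL)
open Cfsg.Agent.Omega.OM.SwapV.Lv (LnV)
open Cfsg.Agent.Omega.NO3S.Level (lev lev_isLev)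
open Cfsg.Agent.Omega.NO3S.EThree.Frame
open Cfsg.Agent.MinSimple.MinParabolic (IsMinPar)

universe u

variable {G : Type u} [Group G] [Finite G] {ι : Type} [Finite ι] {S : Sylow 2 G} {n : ℕ} {Q V : Subgroup G}
  {L W Z C A : ι → Subgroup G}

/-- **A minimal parabolic over `B` of lower stage which moves `Ω₁Z(B)`: weak UNI.** -/
theorem weakPar_of [Nonempty ι] (h : LnV S V Q n L W Z C A) (two : ∀ i : ι, ∃ j, j ≠ i) {R : Subgroup G}
    (hP : IsMinPar (BL (S : Subgroup G) n) R) (hT : Syl (BL (S : Subgroup G) n) R)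
    (hc : R ⊓ centralizer (o2 R : Set G) ≤ o2 R) (hn : ¬ lev (S : Subgroup G) n ≤ o2 R)
    (hZ : ¬ R ≤ centralizer (zc (BL (S : Subgroup G) n) : Set G)) : WeakPar W Z (ZL (S : Subgroup G) n) R := by
  obtain ⟨j, K, N₁, c, τ, l, k, -⟩ := LowV.exists_blk h two hP hT hc hn hZ
  refine ⟨l, ⟨τ, k.KR k.τK, ?_, fun hle => ?_⟩, fun m hm => ?_⟩
  · have h1 := cj_mono τ ((SwapV.Lv.Z_W h l).trans k.cW.ge)
    rw [k.τc, k.cW] at h1
    exact h1.trans le_sup_left
  · obtain ⟨z, hz, hz1⟩ := SwapV.Lv.Z_ne h l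
    have hzc : z ∈ c := k.cW ▸ SwapV.Lv.Z_W h l hz
    have h1 : τ * z * τ⁻¹ ∈ ZL (S : Subgroup G) n := hle ⟨z, hz, rfl⟩
    have h2 : τ * z * τ⁻¹ ∈ W l := by
      have h3 : τ * z * τ⁻¹ ∈ cj τ c := ⟨z, hzc, rfl⟩
      rwa [k.τc, k.cW] at h3
    have h3 : τ * z * τ⁻¹ ∈ Z l :=
      (h.fr.blk l).toMd.mem_Z_iff.2 ⟨h2, ((h.fr.mem_ZJ _).1 h1).2⟩
    have h4 : τ * z * τ⁻¹ ≠ 1 := fun e => hz1 (conj_eq_one_iff.1 e)
    exact hz1 (k.τ1 z hzc (SwapV.Lv.Z_eq h h3 hz h4 hz1))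
  · refine k.RK.trans (sup_le ?_ (le_centralizer_iff.1 (k.ZK m hm)))
    exact fun b hb => mem_centralizer_iff.2 fun z hz => ((h.fr.blk m).cZ b hb z hz).symm

/-- **The universal frame with weak UNI at stage `n`.** -/
theorem exists_bw_lev [Nonempty ι] (h : LnV S V Q n L W Z C A) (h3 : ∀ i j : ι, ∃ l, l ≠ i ∧ l ≠ j) :
    ∃ z : ι → G, (∀ i x, x ∈ Z i ↔ x = 1 ∨ x = z i) ∧
      Bw (BL (S : Subgroup G) n) (lev (S : Subgroup G) (n + 1)) (ZL (S : Subgroup G) n) L W z := by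
  have lb := SwapL.lb S n
  have fr := h.fr
  have eqB : BL (S : Subgroup G) n =
      (S : Subgroup G) ⊓ centralizer (zc (lev (S : Subgroup G) (n + 1)) : Set G) := rfl
  refine of_fgW h.char2 lb (Lev.Main.toFg fr) (fun g hg i => ?_) (fun R _ hR hT hc hK hZ => ?_) h3
  · obtain ⟨j, hj, -⟩ := (fr.norm_of hg (NO3S.Level.normalizer_le_zc _
      (Lev.Wc.norm_B_Lev (lev_isLev (S : Subgroup G) n) eqB hg))).2 i
    exact ⟨j, hj⟩
  · by_cases hn : lev (S : Subgroup G) n ≤ o2 R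
    · obtain ⟨L', V', h1, ⟨h2, h3⟩, h4⟩ := LevB.exists_fblk S (n := n) hT le_rfl hR hc hn hK hZ
      obtain ⟨-, -, i, -, -, -, -, h5⟩ := TC.UniLev.uni_all S rfl eqB fr ⟨h2, h3⟩
      exact Or.inl ⟨i, h4.trans ((sup_comm _ _).le.trans (sup_le_sup_right (h5 rfl).2 _))⟩
    · exact Or.inr (weakPar_of h (fun i => (h3 i i).imp fun l hl => hl.1) hR hT hc hn hZ)

end Cfsg.Agent.Omega.EDel.BxW

end

section


/-!
# The universal frame over `B` with WEAK UNI (helper165 #26684; port of `Bx/Par.lean`)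

* `Bw.parY` : a `B`-minimal `R ≤ Y_j` is in `D` or `W_j# ⊆ z_j ^ R`;
* `Yp` : `Y'_j = ⟨D, N_(Y_j)(W_j ZJ)⟩`, `Bw.L_le_Yp`, `Bw.D_le_Yp`, `Bw.Yp_le`;
* **`Bw.genW`** (QP') : `K ≤ Y_j`, `Y_j ≤ N(K)`, `K ≰ C(N_j)` gives `Y'_j ≤ K D`;
* `Bw.W_le_N`, `Bw.Q_eq` : `O₂(Y_j) = C_O(N_j)`, `Bw.eab_N`, `Bw.N_comm`, `Bw.no` : (NO) for `Y_j` on `N_j`;
* **`Bw.conjW`** : `N_G(B)` permutes `z`, `Y`, `N`, `Y'`;
* `Bw.nlp` : nonlocality of the `Y'_j`.
-/

set_option autoImplicit false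
set_option linter.unusedSectionVars false

namespace Cfsg.Agent.Omega.EDel.BxW

open Subgroup Cfsg Cfsg.Agent.ZN.ChoiceBase
open Cfsg.Agent.ZN (zc zl o2)
open Cfsg.Agent.ZN.ChoiceSit (Syl o2_le_syl)
open Cfsg.Agent.Omega.NO3S.EThree.ExactA (eab_mono eab_sup eab_iff)
open Cfsg.Agent.Omega.EK3 (CT mem_CT CT_mono ET ZJ_le_ET CT_norm_ET V_le_ET CT_compl_le CT_compl_le' Yc mem_Yc Nc
  Y_norm_V Y_norm_N)
open Cfsg.Agent.Omega.EK3.Rank (NoOn)
open Cfsg.Agent.MinSimple.MinParabolic (IsMinPar le_of_forall)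
open Cfsg.Agent.MinSimple.VModule (zc_le normalizer_le_normalizer_zc le_normalizer_o2 o2_isPGroup le_o2 o2_le
  le_centralizer_zc)
open scoped Pointwise

universe u

variable {G : Type u} [Group G]

/-- a nontrivial element of a four-group -/
theorem eq_of_four [Finite G] {W : Subgroup G} (h4 : Nat.card W = 4) (hsq : ∀ x ∈ W, x ^ 2 = 1) {a b x : G} (ha : a ∈ W)
    (ha1 : a ≠ 1) (hb : b ∈ W) (hb1 : b ≠ 1) (hab : a ≠ b) (hx : x ∈ W) (hx1 : x ≠ 1) : x = a ∨ x = b ∨ x = a * b :=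
  NO3S.eq_of_card_four h4 hsq ha ha1 hb hb1 hab hx hx1

/-- `N_j` is the smallest `Y_j`-invariant subgroup containing `z j` -/
theorem N_le_of {ι : Type} {z : ι → G} {j : ι} {U : Subgroup G} (hz : z j ∈ U)
    (hU : Yc z j ≤ normalizer (U : Set G)) : Nc z j ≤ U := by
  refine NoFF.Basic.V_le fun g hg => ?_
  rw [← NOThreeL.Pair.conj_eq_of_mem (hU hg)]
  exact NoFF.Basic.conj_le_iff.2 (by rw [zpowers_le]; exact hz)

/-- `Y'_j = ⟨D, N_(Y_j)(W_j ZJ)⟩` -/
def Yp {ι : Type} (ZJ : Subgroup G) (W : ι → Subgroup G) (z : ι → G) (j : ι) : Subgroup G :=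
  centralizer (ZJ : Set G) ⊔ (Yc z j ⊓ normalizer ((W j ⊔ ZJ : Subgroup G) : Set G))

theorem isMinPar_cj {T P : Subgroup G} (g : G) (h : IsMinPar T P) : IsMinPar (cj g T) (cj g P) where
  le := cj_mono g h.le
  not_le := by
    intro h1
    apply h.not_le
    have h2 := cj_mono g⁻¹ h1
    rwa [cj_inv_cj, cj_normalizer, cj_inv_cj] at h2
  exists_max := by
    obtain ⟨N, hN, hmax⟩ := h.exists_max
    refine ⟨cj g N, lt_of_le_of_ne (cj_mono g hN.le) fun e => hN.ne ?_, fun K hK hKP => ?_⟩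
    · rw [← cj_inv_cj g N, e, cj_inv_cj]
    · have h1 : K = cj g (cj g⁻¹ K) := (cj_cj_inv g K).symm
      rw [h1]
      refine cj_mono g (hmax _ ?_ (lt_of_le_of_ne ?_ fun e => hKP.ne ?_))
      · have h2 := cj_mono g⁻¹ hK
        rwa [cj_inv_cj] at h2
      · have h2 := cj_mono g⁻¹ hKP.le
        rwa [cj_inv_cj] at h2
      · rw [h1, e]

namespace Bw

variable [Finite G] {B J ZJ : Subgroup G} {ι : Type} {L W : ι → Subgroup G} {z : ι → G} (h : Bw B J ZJ L W z)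
include h

/-- `R` over `B` in `C_T` has characteristic 2 -/
theorem char2_of {T : Set ι} (hT : T.Nonempty) {R : Subgroup G} (hB : B ≤ R) (hR : R ≤ CT z T) :
    R ⊓ centralizer (o2 R : Set G) ≤ o2 R := by
  have h1 : o2 (CT z T) ≤ o2 R :=
    le_o2 ((h.o2_CT_le_B T).trans hB) (o2_isPGroup _) (hR.trans (le_normalizer_o2 _))
  rintro x ⟨hx, hxc⟩
  exact h1 (h.char2_CT hT ⟨hR hx, centralizer_le (by exact_mod_cast h1) hxc⟩)

/-- the members of `𝒫(X, B)` which move `ZJ`, if `N_X(B) ≤ D` and `B` is Sylow in `X` -/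
theorem parX {T : Set ι} (hT : T.Nonempty) (hs : Syl B (CT z T))
    (hN : CT z T ⊓ normalizer (B : Set G) ≤ centralizer (ZJ : Set G)) {R : Subgroup G} (hR : IsMinPar B R)
    (hRX : R ≤ CT z T) (hD : ¬ R ≤ centralizer (ZJ : Set G)) :
    ∃ i, (∃ r ∈ R, r * z i * r⁻¹ ∈ W i ⊔ ZJ ∧ r * z i * r⁻¹ ∉ ZJ) ∧
      ∀ l, l ≠ i → R ≤ centralizer ({z l} : Set G) := by
  obtain ⟨l, hl⟩ := hT
  refine h.par R ⟨l, fun x hx => mem_centralizer_singleton_iff.2 (mem_CT.1 (hRX hx) l hl)⟩ hR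
    ⟨hR.le, h.two, fun Q hQ h2 hBQ => hs.2.2 Q (hQ.trans hRX) h2 hBQ⟩ (h.char2_of ⟨l, hl⟩ hR.le hRX) ?_ hD
  intro hJ
  apply hD
  have h1 : R ≤ normalizer (ZJ : Set G) := (le_normalizer_o2 R).trans (h.nJ _ (o2_isPGroup R) hJ)
  intro r hr
  obtain ⟨d, hd, n, hn, rfl⟩ := h.frattini (h1 hr)
  have h2 : n ∈ CT z T := by
    have := mul_mem (inv_mem (h.D_le_CT T hd)) (hRX hr)
    rwa [inv_mul_cancel_left] at this
  exact mul_mem hd (hN ⟨h2, hn⟩)

/-- `B` induces the transvection with centre `z j` on `W j` -/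
theorem swap {j : ι} {x : G} (hx : x ∈ W j) (hx1 : x ≠ 1) (hxz : x ≠ z j) : ∃ b ∈ B, b * x * b⁻¹ = z j * x := by
  by_contra hcon
  push Not at hcon
  have h1 : x ∈ ZJ := by
    refine h.WzB j x hx fun b hb => ?_
    rcases h.BW j b hb x hx with e | e
    · exact mul_inv_eq_iff_eq_mul.1 (mul_inv_eq_one.1 e)
    · exact absurd (mul_inv_eq_iff_eq_mul.1 e) (hcon b hb)
  rcases h.WJ j x hx h1 with e | e
  · exact hx1 e
  · exact hxz e

/-- a subgroup over `B` which normalises `W j` and moves `z j` is transitive on `W j - 1` -/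
theorem trans_of {j : ι} {R : Subgroup G} (hB : B ≤ R) (hN : R ≤ normalizer (W j : Set G))
    (hm : ¬ R ≤ centralizer ({z j} : Set G)) {x : G} (hx : x ∈ W j) (hx1 : x ≠ 1) :
    ∃ r ∈ R, r * z j * r⁻¹ = x := by
  by_cases hxz : x = z j
  · exact ⟨1, one_mem _, by rw [hxz]; group⟩
  obtain ⟨r, hr, hrz⟩ : ∃ r ∈ R, r * z j * r⁻¹ ≠ z j := by
    by_contra hcon
    push Not at hcon
    exact hm fun r hr => mem_centralizer_singleton_iff.2 (mul_inv_eq_iff_eq_mul.1 (hcon r hr))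
  have h1 : r * z j * r⁻¹ ∈ W j := (mem_normalizer_iff.1 (hN hr) _).1 (h.zW j)
  have h2 : r * z j * r⁻¹ ≠ 1 := fun e => h.ne j (conj_eq_one_iff.1 e)
  by_cases hrx : r * z j * r⁻¹ = x
  · exact ⟨r, hr, hrx⟩
  obtain ⟨b, hb, hbe⟩ := h.swap h1 h2 hrz
  refine ⟨b * r, mul_mem (hB hb) hr, ?_⟩
  have e : b * r * z j * (b * r)⁻¹ = b * (r * z j * r⁻¹) * b⁻¹ := by group
  rw [e, hbe]
  rcases eq_of_four (h.cardW j) (h.sqW j) (h.zW j) (h.ne j) h1 h2 (Ne.symm hrz) hx hx1 with h3 | h3 | h3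
  · exact absurd h3 hxz
  · exact absurd h3.symm hrx
  · exact h3.symm

/-- `ZJ = ⟨z_j⟩ C` with `C` central in `Y_j` -/
theorem decY (j : ι) : ∀ x ∈ ZJ, ∃ c ∈ ZJ, (∀ y ∈ Yc z j, y * c = c * y) ∧ (x = c ∨ x = z j * c) := by
  intro x hx
  have hx' := h.gen hx
  clear hx
  induction hx' using closure_induction with
  | mem x hx =>
    obtain ⟨l, rfl⟩ := hx
    by_cases hl : l = j
    · exact ⟨1, one_mem _, fun y _ => by rw [mul_one, one_mul], Or.inr (by rw [hl, mul_one])⟩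
    · exact ⟨z l, h.zJ l, fun y hy => mem_Yc.1 hy l hl, Or.inl rfl⟩
  | one => exact ⟨1, one_mem _, fun y _ => by rw [mul_one, one_mul], Or.inl rfl⟩
  | mul x y _ _ hx hy =>
    obtain ⟨c, hc, hcY, e⟩ := hx
    obtain ⟨d, hd, hdY, e'⟩ := hy
    have hcom : ∀ v ∈ Yc z j, v * (c * d) = c * d * v := fun v hv => by
      rw [← mul_assoc, hcY v hv, mul_assoc, hdY v hv, mul_assoc]
    refine ⟨c * d, mul_mem hc hd, hcom, ?_⟩
    have hz : z j * z j = 1 := by rw [← pow_two]; exact h.z_sq j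
    have hcz : c * z j = z j * c := h.JJ hc (h.zJ j)
    rcases e with e | e <;> rcases e' with e' | e'
    · left; rw [e, e']
    · right
      rw [e, e', ← mul_assoc, hcz, mul_assoc]
    · right
      rw [e, e', mul_assoc]
    · left
      calc x * y = z j * (c * z j) * d := by rw [e, e']; group
        _ = (z j * z j) * (c * d) := by rw [hcz]; group
        _ = c * d := by rw [hz, one_mul]
  | inv x _ hx =>
    obtain ⟨c, hc, hcY, e⟩ := hx
    have hcom : ∀ v ∈ Yc z j, v * c⁻¹ = c⁻¹ * v := fun v hv => by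
      rw [eq_inv_mul_iff_mul_eq, ← mul_assoc, ← hcY v hv, mul_inv_cancel_right]
    refine ⟨c⁻¹, inv_mem hc, hcom, ?_⟩
    rcases e with e | e
    · left; rw [e]
    · right
      have hz : (z j)⁻¹ = z j := inv_eq_of_mul_eq_one_left (by rw [← pow_two]; exact h.z_sq j)
      have hcz : c⁻¹ * z j = z j * c⁻¹ := h.JJ (inv_mem hc) (h.zJ j)
      rw [e, mul_inv_rev, hz, hcz]

theorem L_le_Y (j : ι) : L j ≤ Yc z j := fun x hx =>
  mem_Yc.2 fun l hl => mem_centralizer_singleton_iff.1 (h.LY j l hl hx)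

theorem B_norm_W (j : ι) : B ≤ normalizer (W j : Set G) := by
  have key : ∀ b ∈ B, ∀ x ∈ W j, b * x * b⁻¹ ∈ W j := by
    intro b hb x hx
    rcases h.BW j b hb x hx with e | e
    · rw [mul_inv_eq_one.1 e]; exact hx
    · rw [mul_inv_eq_iff_eq_mul.1 e]; exact mul_mem (h.zW j) hx
  intro b hb
  rw [mem_normalizer_iff]
  intro x
  refine ⟨key b hb x, fun hx => ?_⟩
  have h1 := key b⁻¹ (inv_mem hb) _ hx
  have e : b⁻¹ * (b * x * b⁻¹) * b⁻¹⁻¹ = x := by group
  rwa [e] at h1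

/-- `⟨L_j, B⟩` is transitive on `W_j - 1` -/
theorem trL (j : ι) : ∀ w ∈ W j, w ≠ 1 → ∃ l ∈ Yc z j, l * w * l⁻¹ = z j := by
  intro w hw hw1
  obtain ⟨r, hr, e⟩ := h.trans_of (R := L j ⊔ B) le_sup_right (sup_le (h.LW j) (h.B_norm_W j))
    (fun hc => h.Lmv j (le_sup_left.trans hc)) hw hw1
  refine ⟨r⁻¹, inv_mem ((sup_le (h.L_le_Y j) (h.B_le j) : L j ⊔ B ≤ Yc z j) hr), ?_⟩
  rw [← e]
  group

/-- **(a)** -/
theorem wsubY {j : ι} {R : Subgroup G} (hB : B ≤ R) (hRY : R ≤ Yc z j) {r : G} (hr : r ∈ R)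
    (h1 : r * z j * r⁻¹ ∈ W j ⊔ ZJ) (h2 : r * z j * r⁻¹ ∉ ZJ) : ∀ w ∈ W j, w ≠ 1 → ∃ s ∈ R, s * z j * s⁻¹ = w :=
  wsub (h.syl_Y j) (fun _ hx => (h.mem_J hx).2.2) (h.zJ j) (fun n hn => h.D_comm (h.norm_Y j hn) j) (h.decY j) (h.zW j) (h.WB j) (h.sqW j)
    (h.trL j) (h.cardW j) (h.WzB j) (h.BW j) hB hRY hr h1 h2

/-- **(a')** -/
theorem nYD {j : ι} {R : Subgroup G} (hB : B ≤ R) (hRY : R ≤ Yc z j) {r : G} (hr : r ∈ R)
    (h1 : r * z j * r⁻¹ ∈ W j ⊔ ZJ) (h2 : r * z j * r⁻¹ ∉ ZJ) {g : G} (hg : g ∈ Yc z j)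
    (hgW : g * z j * g⁻¹ ∈ W j ⊔ ZJ) : ∃ s ∈ R, ∃ d ∈ centralizer (ZJ : Set G), g = s * d := by
  obtain ⟨s, hs, d, hd, hdz, e⟩ := nY (h.syl_Y j) (fun _ hx => (h.mem_J hx).2.2) (h.zJ j) (fun n hn => h.D_comm (h.norm_Y j hn) j) (h.decY j)
    (h.zW j) (h.WB j) (h.sqW j) (h.trL j) (h.cardW j) (h.WzB j) (h.BW j) hB hRY hr h1 h2 hg hgW
  refine ⟨s, hs, d, ?_, e⟩
  rw [← h.stab j]
  exact mem_inf.2 ⟨hd, mem_centralizer_singleton_iff.2 hdz⟩

/-- **the minimal parabolics of `Y_j` over `B`** -/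
theorem parY {j : ι} {R : Subgroup G} (hR : IsMinPar B R) (hRY : R ≤ Yc z j) :
    R ≤ centralizer (ZJ : Set G) ∨ ((∃ r ∈ R, r * z j * r⁻¹ ∈ W j ⊔ ZJ ∧ r * z j * r⁻¹ ∉ ZJ) ∧
      ¬ R ≤ centralizer ({z j} : Set G) ∧ ∀ x ∈ W j, x ≠ 1 → ∃ r ∈ R, r * z j * r⁻¹ = x) := by
  by_cases hD : R ≤ centralizer (ZJ : Set G)
  · exact Or.inl hD
  right
  obtain ⟨i, hi, hl⟩ := h.parX (compl_one_ne h.three j) (h.syl_Y j) (h.norm_Y j) hR hRY hD
  have hij : i = j := by
    by_contra hne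
    apply hD
    intro x hx
    refine h.mem_D fun l => ?_
    by_cases hlj : l = j
    · exact mem_centralizer_singleton_iff.1 (hl l (by rw [hlj]; exact Ne.symm hne) hx)
    · exact mem_Yc.1 (hRY hx) l hlj
  subst hij
  have hm : ¬ R ≤ centralizer ({z i} : Set G) := fun hc => hD (by
    rw [← h.stab i]; exact le_inf hRY hc)
  refine ⟨hi, hm, ?_⟩
  obtain ⟨r, hr, h1, h2⟩ := hi
  exact h.wsubY hR.le hRY hr h1 h2

omit h [Finite G] in
theorem D_le_Yp (j : ι) : centralizer (ZJ : Set G) ≤ Yp ZJ W z j := le_sup_left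

theorem Yp_le (j : ι) : Yp ZJ W z j ≤ Yc z j := sup_le (h.D_le j) inf_le_left

/-- `L_j` normalises `W_j ZJ` -/
theorem L_norm (j : ι) : L j ≤ normalizer ((W j ⊔ ZJ : Subgroup G) : Set G) := by
  have key : ∀ x ∈ L j, cj x (W j ⊔ ZJ) ≤ W j ⊔ ZJ := by
    intro x hx
    rw [cj, Subgroup.map_sup]
    refine sup_le ((cj_eq_of_mem_normalizer (h.LW j hx)).le.trans le_sup_left) ?_
    refine (cj_mono x h.gen).trans ?_
    rw [cj, MonoidHom.map_closure, closure_le]
    rintro _ ⟨_, ⟨l, rfl⟩, rfl⟩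
    change x * z l * x⁻¹ ∈ (W j ⊔ ZJ : Subgroup G)
    by_cases hl : l = j
    · subst hl
      exact mem_sup_left ((mem_normalizer_iff.1 (h.LW l hx) _).1 (h.zW l))
    · rw [mem_Yc.1 (h.L_le_Y j hx) l hl, mul_inv_cancel_right]
      exact mem_sup_right (h.zJ l)
  intro x hx
  rw [mem_normalizer_iff_cj]
  apply le_antisymm (key x hx)
  have h1 := cj_mono x (key x⁻¹ (inv_mem hx))
  rwa [cj_cj_inv] at h1

theorem L_le_Yp (j : ι) : L j ≤ Yp ZJ W z j := (le_inf (h.L_le_Y j) (h.L_norm j)).trans le_sup_right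

/-- **(QP')** -/
theorem genW {j : ι} {K : Subgroup G} (hK : K ≤ Yc z j) (hn : Yc z j ≤ normalizer (K : Set G))
    (hc : ¬ K ≤ centralizer (Nc z j : Set G)) : Yp ZJ W z j ≤ K ⊔ centralizer (ZJ : Set G) := by
  have hKD : ¬ K ≤ centralizer (ZJ : Set G) := by
    intro hKD
    apply hc
    rw [le_centralizer_iff]
    refine N_le_of ?_ ?_
    · rw [mem_centralizer_iff]
      exact fun k hk => h.D_comm (hKD hk) j
    · intro y hy
      rw [mem_normalizer_iff_cj, cj_centralizer, cj_eq_of_mem_normalizer (hn hy)]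
  have hBK : B ≤ K ⊔ B := le_sup_right
  have hKY : K ⊔ B ≤ Yc z j := sup_le hK (h.B_le j)
  obtain ⟨R', hR', hR'K, hR'D⟩ : ∃ R', IsMinPar B R' ∧ R' ≤ K ⊔ B ∧ ¬ R' ≤ centralizer (ZJ : Set G) := by
    by_contra hcon
    push Not at hcon
    apply hKD
    have h1 : K ⊔ B ≤ centralizer (ZJ : Set G) :=
      le_of_forall hBK ((inf_le_inf_right _ hKY).trans (h.norm_Y j)) fun R hR hRK => hcon R hR hRK
    exact le_sup_left.trans h1
  rcases h.parY hR' (hR'K.trans hKY) with h1 | ⟨⟨r, hr, h1, h2⟩, -, -⟩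
  · exact absurd h1 hR'D
  refine sup_le le_sup_right ?_
  rintro g ⟨hg, hgW⟩
  have h3 : g * z j * g⁻¹ ∈ (W j ⊔ ZJ : Subgroup G) :=
    (mem_normalizer_iff.1 hgW _).1 (mem_sup_left (h.zW j))
  obtain ⟨s, hs, d, hd, e⟩ := h.nYD hR'.le (hR'K.trans hKY) hr h1 h2 hg h3
  rw [e]
  exact mul_mem ((sup_le_sup_left h.BD K) (hR'K hs)) ((le_sup_right : centralizer (ZJ : Set G) ≤ K ⊔ _) hd)

/-! ### `N_j` -/

/-- `N_j ≤ E_T` for `j ∉ T` -/
theorem N_le_ET {T : Set ι} {j : ι} (hj : j ∉ T) : Nc z j ≤ ET ZJ z T :=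
  V_le_ET (zpowers_le.2 (h.zJ j)) (CT_mono fun l hl => by
    rw [Set.mem_compl_iff, Set.mem_singleton_iff]
    exact fun e => hj (e ▸ hl))

theorem eab_N (j : ι) : IsElementaryAbelian 2 (Nc z j) :=
  eab_mono (h.eab_ET (compl_one_ne h.three j)) (h.N_le_ET (by simp))

theorem N_le_O (j : ι) : Nc z j ≤ o2 (centralizer (ZJ : Set G)) :=
  (h.N_le_ET (T := {j}ᶜ) (by simp)).trans (h.ET_le_O (compl_one_ne h.three j))

theorem N_comm (i j : ι) : Nc z i ≤ centralizer (Nc z j : Set G) := by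
  have he := (eab_iff.1 (h.eab_ET (compl_two_ne h.three i j))).1
  intro x hx
  rw [mem_centralizer_iff]
  intro y hy
  exact mem_centralizer_iff.1 (he (h.N_le_ET (by simp) hx)) y (h.N_le_ET (by simp) hy)

theorem o2Y_le_B (j : ι) : o2 (Yc z j) ≤ B := o2_le_syl (h.syl_Y j)

theorem O_le_B : o2 (centralizer (ZJ : Set G)) ≤ B := o2_le_syl h.syl

theorem O_le_Y (j : ι) : o2 (centralizer (ZJ : Set G)) ≤ Yc z j := h.O_le_B.trans (h.B_le j)

theorem o2_le_O (j : ι) : o2 (Yc z j) ≤ o2 (centralizer (ZJ : Set G)) :=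
  le_o2 ((h.o2Y_le_B j).trans h.BD) (o2_isPGroup _) ((h.D_le j).trans (le_normalizer_o2 _))

theorem N_le_zc (j : ι) : Nc z j ≤ zc (o2 (Yc z j)) :=
  (h.N_le_ET (T := {j}ᶜ) (by simp)).trans (h.ET_le_zc (compl_one_ne h.three j))

theorem o2_le_cent (j : ι) : o2 (Yc z j) ≤ centralizer (Nc z j : Set G) :=
  (le_centralizer_zc _).trans (centralizer_le (h.N_le_zc j))

/-- `C_{Y_j}(N_j) ≤ D` -/
theorem cent_le (j : ι) : Yc z j ⊓ centralizer (Nc z j : Set G) ≤ centralizer (ZJ : Set G) := by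
  rw [← h.stab j]
  exact le_inf inf_le_left (inf_le_right.trans (centralizer_le (Set.singleton_subset_iff.2 (h.mem_N j))))

omit h [Finite G] in
theorem Y_norm_cent (j : ι) :
    Yc z j ≤ normalizer ((Yc z j ⊓ centralizer (Nc z j : Set G) : Subgroup G) : Set G) := by
  intro g hg
  rw [mem_normalizer_iff_cj, cj_inf, cj_centralizer, cj_eq_of_mem_normalizer (Y_norm_N j hg),
    cj_eq_of_mem_normalizer (Subgroup.le_normalizer hg)]

/-- **`O₂(Y_j) = C_O(N_j)`** -/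
theorem Q_eq (j : ι) : o2 (Yc z j) = o2 (centralizer (ZJ : Set G)) ⊓ centralizer (Nc z j : Set G) := by
  apply le_antisymm
  · exact le_inf (h.o2_le_O j) (h.o2_le_cent j)
  · set X := Yc z j ⊓ centralizer (Nc z j : Set G) with hX
    have h1 : o2 (centralizer (ZJ : Set G)) ⊓ centralizer (Nc z j : Set G) ≤ o2 X := by
      refine le_o2 (le_inf (inf_le_left.trans (h.O_le_Y j)) inf_le_right) ((o2_isPGroup _).to_le inf_le_left) ?_
      intro x hx
      have hxD : x ∈ normalizer (o2 (centralizer (ZJ : Set G)) : Set G) := le_normalizer_o2 _ (h.cent_le j hx)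
      have hxN : x ∈ normalizer (Nc z j : Set G) := Y_norm_N j hx.1
      rw [mem_normalizer_iff_cj, cj_inf, cj_centralizer, cj_eq_of_mem_normalizer hxD,
        cj_eq_of_mem_normalizer hxN]
    refine h1.trans (le_o2 ((o2_le _).trans inf_le_left) (o2_isPGroup _) ?_)
    refine (Y_norm_cent j).trans ?_
    exact normalizer_le_of_cj (F := o2) (fun g T => Cfsg.Agent.ZN.ChoiceSit.o2_cj g T) X

/-- `W j ≤ N_j` -/
theorem W_le_N (j : ι) : W j ≤ Nc z j := by
  obtain ⟨ρ, hρ, hρW, hρz⟩ := h.rho j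
  have hρY : ρ ∈ Yc z j := mem_Yc.2 fun l hl => hρ l hl
  have h1 : ρ * z j * ρ⁻¹ ∈ Nc z j := (mem_normalizer_iff.1 (Y_norm_N j hρY) _).1 (h.mem_N j)
  have h2 : ρ * z j * ρ⁻¹ ≠ 1 := fun e => h.ne j (conj_eq_one_iff.1 e)
  intro x hx
  by_cases hx1 : x = 1
  · rw [hx1]; exact one_mem _
  rcases eq_of_four (h.cardW j) (h.sqW j) (h.zW j) (h.ne j) hρW h2 (Ne.symm hρz) hx hx1 with e | e | e
  · rw [e]; exact h.mem_N j
  · rw [e]; exact h1
  · rw [e]; exact mul_mem (h.mem_N j) h1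

/-- `ZJ^y ≤ N_i ZJ` for `y ∈ Y_i` -/
theorem ZN (i : ι) {y : G} (hy : y ∈ Yc z i) : cj y ZJ ≤ Nc z i ⊔ ZJ := by
  refine (cj_mono y h.gen).trans ?_
  rw [cj, MonoidHom.map_closure, closure_le]
  rintro _ ⟨_, ⟨l, rfl⟩, rfl⟩
  change y * z l * y⁻¹ ∈ (Nc z i ⊔ ZJ : Subgroup G)
  by_cases hl : l = i
  · subst hl
    exact mem_sup_left ((mem_normalizer_iff.1 (Y_norm_N l hy) _).1 (h.mem_N l))
  · rw [mem_Yc.1 hy l hl, mul_inv_cancel_right]
    exact mem_sup_right (h.zJ l)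

/-! ### (NO) -/

/-- the stabiliser of the coset `z j U`, `U` a submodule of `N_j` without `z j`, is in `D` -/
theorem stab_le {j : ι} {U : Subgroup G} (hY : Yc z j ≤ normalizer (U : Set G)) (hv : z j ∉ U) :
    ∀ g ∈ Yc z j, g * z j * g⁻¹ * (z j)⁻¹ ∈ U → g ∈ centralizer (ZJ : Set G) := by
  let K' : Subgroup G :=
    { carrier := {g | g ∈ Yc z j ∧ g * z j * g⁻¹ * (z j)⁻¹ ∈ U}
      one_mem' := ⟨one_mem _, by simp⟩
      mul_mem' := by
        rintro a b ⟨ha, ha'⟩ ⟨hb, hb'⟩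
        refine ⟨mul_mem ha hb, ?_⟩
        have e : a * b * z j * (a * b)⁻¹ * (z j)⁻¹ =
            (a * (b * z j * b⁻¹ * (z j)⁻¹) * a⁻¹) * (a * z j * a⁻¹ * (z j)⁻¹) := by group
        rw [e]
        exact mul_mem ((mem_normalizer_iff.1 (hY ha) _).1 hb') ha'
      inv_mem' := by
        rintro a ⟨ha, ha'⟩
        refine ⟨inv_mem ha, ?_⟩
        have e : a⁻¹ * z j * a⁻¹⁻¹ * (z j)⁻¹ = a⁻¹ * (a * z j * a⁻¹ * (z j)⁻¹)⁻¹ * a⁻¹⁻¹ := by group
        rw [e]
        exact (mem_normalizer_iff.1 (hY (inv_mem ha)) _).1 (inv_mem ha') }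
  have hBK : B ≤ K' := fun t ht => ⟨h.B_le j ht, by
    rw [h.D_comm (h.BD ht) j, mul_inv_cancel_right, mul_inv_cancel]
    exact one_mem _⟩
  have hKY : K' ≤ Yc z j := fun k hk => hk.1
  suffices hs : K' ≤ centralizer (ZJ : Set G) from fun g hg hgY => hs ⟨hg, hgY⟩
  refine le_of_forall hBK ((inf_le_inf_right _ hKY).trans (h.norm_Y j)) ?_
  intro R hR hRK
  rcases h.parY hR (hRK.trans hKY) with hm | ⟨-, -, ht⟩
  · exact hm
  exfalso
  have key : ∀ y ∈ W j, y ≠ 1 → y * (z j)⁻¹ ∈ U := by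
    intro y hy hy1
    obtain ⟨r, hr, hry⟩ := ht y hy hy1
    have h1 := (hRK hr).2
    rwa [hry] at h1
  obtain ⟨ρ, -, hx, hxz⟩ := h.rho j
  set x := ρ * z j * ρ⁻¹ with hxdef
  have hx1 : x ≠ 1 := fun e => h.ne j (conj_eq_one_iff.1 e)
  have h1 := key x hx hx1
  have hzz : z j * z j = 1 := by rw [← pow_two]; exact h.z_sq j
  have hxz1 : x * z j ≠ 1 := by
    intro e
    apply hxz
    have := eq_inv_of_mul_eq_one_left e
    rw [this, inv_eq_of_mul_eq_one_left hzz]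
  have h2 := key (x * z j) (mul_mem hx (h.zW j)) hxz1
  rw [mul_inv_cancel_right] at h2
  apply hv
  have h3 := mul_mem (inv_mem h1) h2
  have e : (x * (z j)⁻¹)⁻¹ * x = z j := by group
  rwa [e] at h3

/-- **(NO)** : `|A : C_A(N_j)| ≤ |N_j : C_{N_j}(A)|` for `A ≤ O₂(D)` elementary abelian -/
theorem no (hML : ML.Final.MLK.{u, u}) {j : ι} (kg : IsKGroup (Yc z j)) :
    NoOn (o2 (centralizer (ZJ : Set G))) (Nc z j) := by
  intro A hAe hA
  have hA2 : ∀ a ∈ A, a ^ 2 = 1 := (eab_iff.1 hAe).2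
  have hN1 : ∀ g : G, g ∈ normalizer ((⊥ : Subgroup G) : Set G) := fun g => by
    rw [mem_normalizer_iff]
    intro x
    rw [mem_bot, mem_bot, conj_eq_one_iff]
  have hb : ∀ x y : G, x * y * x⁻¹ * y⁻¹ ∈ (⊥ : Subgroup G) ↔ x * y = y * x := fun x y => by
    rw [mem_bot, mul_inv_eq_one, mul_inv_eq_iff_eq_mul]
  have hsqN := (eab_iff.1 (h.eab_N j)).2
  have hmain : (A ⊓ centralizer (Nc z j : Set G)).relIndex A ≤
      (Nc z j ⊓ centralizer (A : Set G)).relIndex (Nc z j) := by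
    refine hML.grp (C := Yc z j) (W := Nc z j) (Y := ⊥) (T := B) (Q := o2 (centralizer (ZJ : Set G))) (A := A)
      (w := z j) kg ?_ (KA := A ⊓ centralizer (Nc z j : Set G))
      (CW := Nc z j ⊓ centralizer (A : Set G)) ?_ ?_
    · refine ⟨Y_norm_N j, fun g _ => hN1 g, bot_le, fun g _ => hN1 g, ?_, h.mem_N j, ?_, h.B_le j,
        h.two, Cfsg.Agent.ZN.ChoiceSit.syl_not_dvd (h.syl_Y j), ?_, h.O_le_Y j, o2_isPGroup _, ?_, ?_, hA, ?_⟩
      · intro x hx
        rw [mem_bot, ← pow_two]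
        exact hsqN x hx
      · exact fun U hU _ hYU => N_le_of hU hYU
      · exact fun t ht => (hb _ _).2 (h.D_comm (h.BD ht) j)
      · exact fun t ht => (hb _ _).2 (h.D_comm (o2_le _ ht) j)
      · intro g hg hgz q hq
        have h1 : g ∈ centralizer (ZJ : Set G) := by
          rw [← h.stab j]
          exact ⟨hg, mem_centralizer_singleton_iff.2 ((hb _ _).1 hgz)⟩
        exact (mem_normalizer_iff.1 (le_normalizer_o2 _ h1) q).1 hq
      · intro a ha x _
        have h1 : a * a = 1 := by rw [← pow_two]; exact hA2 a ha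
        have e : a * (a * x * a⁻¹) * a⁻¹ * x⁻¹ = (a * a) * x * (a * a)⁻¹ * x⁻¹ := by group
        rw [e, h1, mem_bot]
        simp
    · intro a
      refine and_congr_right fun _ => ?_
      exact ⟨fun h1 x hx => (hb _ _).2 (mem_centralizer_iff.1 h1 x hx).symm,
        fun h1 => mem_centralizer_iff.2 fun x hx => ((hb _ _).1 (h1 x hx)).symm⟩
    · intro x
      refine and_congr_right fun _ => ?_
      exact ⟨fun h1 a ha => (hb _ _).2 (mem_centralizer_iff.1 h1 a ha),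
        fun h1 => mem_centralizer_iff.2 fun a ha => (hb _ _).1 (h1 a ha)⟩
  rwa [inf_relIndex_left, inf_relIndex_left] at hmain

/-! ### `N_G(B)` -/

omit h [Finite G] in
/-- an element which permutes the `z i` permutes the `Y i`, `N i` -/
theorem conj_of [Finite ι] (hinj : Function.Injective z) {g : G} (hp : ∀ i, ∃ j, g * z i * g⁻¹ = z j) :
    ∃ σ : Equiv.Perm ι, ∀ i, g * z i * g⁻¹ = z (σ i) ∧ cj g (Yc z i) = Yc z (σ i) ∧ cj g (Nc z i) = Nc z (σ i) := by
  choose f hf using hp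
  have hfi : Function.Injective f := by
    intro i j e
    apply hinj
    have h1 := hf i
    rw [e, ← hf j] at h1
    exact mul_left_cancel (mul_right_cancel h1)
  let σ : Equiv.Perm ι := Equiv.ofBijective f (Finite.injective_iff_bijective.1 hfi)
  have hσ : ∀ i, g * z i * g⁻¹ = z (σ i) := hf
  have hY : ∀ i, cj g (Yc z i) = Yc z (σ i) := by
    intro i
    ext x
    rw [mem_cj, mem_Yc, mem_Yc]
    constructor
    · intro h1 l hl
      obtain ⟨m, rfl⟩ := σ.surjective l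
      have h2 := h1 m fun e => hl (by rw [e])
      rw [← hσ m]
      calc x * (g * z m * g⁻¹) = g * ((g⁻¹ * x * g) * z m) * g⁻¹ := by group
        _ = g * (z m * (g⁻¹ * x * g)) * g⁻¹ := by rw [h2]
        _ = g * z m * g⁻¹ * x := by group
    · intro h1 l hl
      have h2 := h1 (σ l) fun e => hl (σ.injective e)
      rw [← hσ l] at h2
      calc g⁻¹ * x * g * z l = g⁻¹ * (x * (g * z l * g⁻¹)) * g := by group
        _ = g⁻¹ * (g * z l * g⁻¹ * x) * g := by rw [h2]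
        _ = z l * (g⁻¹ * x * g) := by group
  have hmem : ∀ j, z j ∈ Nc z j := fun j => by
    have := NoFF.Basic.Z_le_V (Z := zpowers (z j)) (one_mem (Yc z j))
    rw [map_one, one_smul] at this
    exact this (mem_zpowers _)
  refine ⟨σ, fun i => ⟨hσ i, hY i, ?_⟩⟩
  have key : ∀ {g : G} {i j : ι}, g * z i * g⁻¹ = z j → cj g (Yc z i) = Yc z j → Nc z j ≤ cj g (Nc z i) := by
    intro g i j h1 h2
    refine N_le_of (by rw [← h1]; exact ⟨z i, hmem i, rfl⟩) fun y hy => ?_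
    rw [← h2, mem_cj] at hy
    have h3 := mem_normalizer_iff_cj.1 (Y_norm_N i hy)
    rw [mem_normalizer_iff_cj]
    have h4 : cj y (cj g (Nc z i)) = cj g (cj (g⁻¹ * y * g) (Nc z i)) := by
      rw [cj_cj, cj_cj]
      congr 1
      group
    rw [h4, h3]
  apply le_antisymm
  · have h1 : g⁻¹ * z (σ i) * g⁻¹⁻¹ = z i := by rw [← hσ i]; group
    have h2 : cj g⁻¹ (Yc z (σ i)) = Yc z i := by rw [← hY i, cj_inv_cj]
    have h3 := cj_mono g (key h1 h2)
    rwa [cj_cj, mul_inv_cancel, cj_one] at h3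
  · exact key (hσ i) (hY i)

/-- `W_k ≤ (W_j ZJ)^g` for `g ∈ N(B)`, `z_j^g = z_k` -/
theorem conj_W_le {g : G} (hg : g ∈ normalizer (B : Set G)) {j k : ι} (hjk : g * z j * g⁻¹ = z k)
    (hY : cj g (Yc z j) = Yc z k) : W k ⊔ ZJ ≤ cj g (W j ⊔ ZJ) := by
  have hgJ : cj g ZJ = ZJ := cj_eq_of_mem_normalizer (h.norm_ZJ hg)
  have hgB : cj g B = B := cj_eq_of_mem_normalizer hg
  have hgD : cj g (centralizer (ZJ : Set G)) = centralizer (ZJ : Set G) := by rw [cj_centralizer, hgJ]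
  set X := Yc z j ⊓ normalizer ((W j ⊔ ZJ : Subgroup G) : Set G) with hX
  have hBX : B ≤ X := by
    refine le_inf (h.B_le j) fun b hb => ?_
    rw [mem_normalizer_iff_cj, cj, Subgroup.map_sup]
    have e1 : Subgroup.map (MulAut.conj b).toMonoidHom (W j) = W j := cj_eq_of_mem_normalizer (h.B_norm_W j hb)
    have e2 : Subgroup.map (MulAut.conj b).toMonoidHom ZJ = ZJ :=
      cj_eq_of_mem_normalizer (h.norm_ZJ (le_normalizer hb))
    rw [e1, e2]
  obtain ⟨R, hR, hRX, hRD⟩ : ∃ R, IsMinPar B R ∧ R ≤ X ∧ ¬ R ≤ centralizer (ZJ : Set G) := by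
    by_contra hcon
    push Not at hcon
    have h1 : X ≤ centralizer (ZJ : Set G) :=
      le_of_forall hBX ((inf_le_inf_right _ inf_le_left).trans (h.norm_Y j)) fun R hR hRK => hcon R hR hRK
    refine h.Lmv j (((le_inf (h.L_le_Y j) (h.L_norm j)).trans h1).trans ?_)
    exact centralizer_le (Set.singleton_subset_iff.2 (h.zJ j))
  have h1 : IsMinPar B (cj g R) := by
    have := isMinPar_cj g hR
    rwa [hgB] at this
  have h2 : cj g R ≤ Yc z k := by
    rw [← hY]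
    exact cj_mono g (hRX.trans inf_le_left)
  rcases h.parY h1 h2 with h3 | ⟨-, -, h3⟩
  · refine absurd ?_ hRD
    have h4 := cj_mono g⁻¹ h3
    rwa [cj_inv_cj, ← hgD, cj_inv_cj] at h4
  refine sup_le ?_ ?_
  · intro x hx
    by_cases hx1 : x = 1
    · rw [hx1]; exact one_mem _
    obtain ⟨r, hr, e⟩ := h3 x hx hx1
    rw [mem_cj] at hr ⊢
    have h5 := (mem_normalizer_iff.1 (hRX hr).2 (z j)).1 (mem_sup_left (h.zW j))
    have e2 : g⁻¹ * x * g = g⁻¹ * r * g * z j * (g⁻¹ * r * g)⁻¹ := by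
      rw [← e, ← hjk]
      group
    rw [e2]
    exact h5
  · have h5 := cj_mono g (le_sup_right : ZJ ≤ W j ⊔ ZJ)
    rwa [hgJ] at h5

/-- **`N_G(B)` permutes the `z_i`, `Y_i`, `N_i`, `Y'_i`** -/
theorem conjW [Finite ι] {g : G} (hg : g ∈ normalizer (B : Set G)) :
    ∃ σ : Equiv.Perm ι, ∀ i, g * z i * g⁻¹ = z (σ i) ∧ cj g (Yc z i) = Yc z (σ i) ∧ cj g (Nc z i) = Nc z (σ i) ∧
      cj g (Yp ZJ W z i) = Yp ZJ W z (σ i) := by
  obtain ⟨σ, hσ⟩ := conj_of h.inj (h.perm g hg)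
  refine ⟨σ, fun i => ⟨(hσ i).1, (hσ i).2.1, (hσ i).2.2, ?_⟩⟩
  have hgJ : cj g ZJ = ZJ := cj_eq_of_mem_normalizer (h.norm_ZJ hg)
  have h1 := h.conj_W_le hg (hσ i).1 (hσ i).2.1
  have h2 : g⁻¹ * z (σ i) * g⁻¹⁻¹ = z i := by rw [← (hσ i).1]; group
  have h3 : cj g⁻¹ (Yc z (σ i)) = Yc z i := by rw [← (hσ i).2.1, cj_inv_cj]
  have h4 := cj_mono g (h.conj_W_le (inv_mem hg) h2 h3)
  rw [cj_cj_inv] at h4
  have h5 : cj g (W i ⊔ ZJ) = W (σ i) ⊔ ZJ := le_antisymm h4 h1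
  rw [Yp, Yp, ← h5, ← (hσ i).2.1]
  change Subgroup.map (MulAut.conj g).toMonoidHom _ = _
  rw [Subgroup.map_sup]
  have e1 : Subgroup.map (MulAut.conj g).toMonoidHom (centralizer (ZJ : Set G)) = centralizer (ZJ : Set G) := by
    change cj g _ = _
    rw [cj_centralizer, hgJ]
  have e2 : Subgroup.map (MulAut.conj g).toMonoidHom (Yc z i ⊓ normalizer ((W i ⊔ ZJ : Subgroup G) : Set G)) =
      cj g (Yc z i) ⊓ normalizer ((cj g (W i ⊔ ZJ) : Subgroup G) : Set G) := by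
    change cj g _ = _
    rw [cj_inf, cj_normalizer]
  rw [e1, e2]

/-- nonlocality of the `Y'_j` from that of `D` and the `L_j` -/
theorem nlp [Nonempty ι] (nl : ∀ R : Subgroup G, R ≠ ⊥ → IsPGroup 2 R →
    ¬ (centralizer (ZJ : Set G) ≤ normalizer (R : Set G) ∧ ∀ j, L j ≤ normalizer (R : Set G))) :
    ∀ R : Subgroup G, R ≠ ⊥ → IsPGroup 2 R → ¬ ∀ j, Yp ZJ W z j ≤ normalizer (R : Set G) := by
  intro R hR h2 hj
  obtain ⟨i⟩ := ‹Nonempty ι›
  exact nl R hR h2 ⟨(D_le_Yp i).trans (hj i), fun j => (h.L_le_Yp j).trans (hj j)⟩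

end Bw

end Cfsg.Agent.Omega.EDel.BxW

end

end

-- merged: Cfsg.Agent.Mrg.Omega.EDel.BxW.Inst
section

/-!
# THEOREM U from weak UNI (helper165 #26684): the inputs over the frame `Bw`

* `Bw.closure_eq`, `Bw.D_eq`, `Bw.O_ne`, `Bw.QO`, `Bw.ch` : as for `Bx`;
* **`Bw.toFr`** : the structure `FrW` for `Y i = C_G(z_l : l ≠ i)`, `Y' i = Yp`, `N i = ⟨z_i^(Y_i)⟩`;
* **`Bw.NB`** : `N_G(B)` induces symmetries; **`Bw.par_pair`**.
-/

set_option autoImplicit false
set_option linter.unusedSectionVars false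

namespace Cfsg.Agent.Omega.EDel.BxW

open Subgroup Cfsg Cfsg.Agent.ZN.ChoiceBase
open Cfsg.Agent.ZN (zc zl o2)
open Cfsg.Agent.ZN.ChoiceSit (Syl o2_le_syl)
open Cfsg.Agent.Omega.NO3S.EThree.ExactA (eab_mono eab_sup eab_iff)
open Cfsg.Agent.Omega.EK3 (CT mem_CT CT_mono ET ZJ_le_ET CT_norm_ET V_le_ET CT_compl_le CT_compl_le' Yc mem_Yc Nc
  Y_norm_V Y_norm_N)
open Cfsg.Agent.Omega.EK3.Rank (NoOn)
open Cfsg.Agent.Omega.ESym.CoreS (EI EI_mono EI_norm Sy mem_norm_of_le)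
open Cfsg.Agent.Omega.EDel.BxF (X_eq Yc_eq)
open Cfsg.Agent.MinSimple.MinParabolic (IsMinPar le_of_forall)
open Cfsg.Agent.MinSimple.VModule (zc_le normalizer_le_normalizer_zc le_normalizer_o2 o2_isPGroup le_o2 o2_le
  le_centralizer_zc)
open scoped Pointwise

universe u

variable {G : Type u} [Group G]

namespace Bw

variable [Finite G] {B J ZJ : Subgroup G} {ι : Type} {L W : ι → Subgroup G} {z : ι → G} (h : Bw B J ZJ L W z)
include h

theorem closure_eq : ZJ = closure (Set.range z) :=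
  le_antisymm h.gen ((closure_le _).2 (by rintro _ ⟨i, rfl⟩; exact h.zJ i))

theorem D_eq : centralizer (ZJ : Set G) = centralizer (Set.range z) := by
  rw [h.closure_eq, centralizer_closure]

/-- `O ≠ 1` -/
theorem O_ne [Nonempty ι] : o2 (centralizer (ZJ : Set G)) ≠ ⊥ := by
  obtain ⟨i⟩ := ‹Nonempty ι›
  intro e
  have h1 := h.N_le_O i (h.mem_N i)
  rw [e, mem_bot] at h1
  exact h.ne i h1

/-- **the frame of THEOREM U (weak UNI)** -/
theorem toFr (hML : ML.Final.MLK.{u, u}) (kg : ∀ j, IsKGroup (Yc z j)) :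
    FrW (o2 (centralizer (ZJ : Set G))) (centralizer (ZJ : Set G)) ZJ (Yc z) (Yp ZJ W z) (Nc z) where
  two := o2_isPGroup _
  OY := h.O_le_Y
  OZ := o2_le _
  DY := fun i => D_le_Yp i
  YY := h.Yp_le
  three := h.three
  eab := by
    intro I hI
    have hne : (Iᶜ : Set ι).Nonempty := Set.nonempty_compl.2 hI
    exact ⟨eab_mono (h.eab_ET hne) (BxF.Bx.EI_le I), (BxF.Bx.EI_le I).trans (h.ET_le_O hne)⟩
  NE := by
    intro i
    refine N_le_of ?_ (EI_norm rfl)
    have h1 : cj (1 : G) ZJ ≤ EI ZJ (Yc z) {i} :=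
      le_iSup (fun y : (⨆ j : ({i} : Set ι), Yc z j : Subgroup G) => cj (y : G) ZJ) 1
    rw [cj_one] at h1
    exact h1 (h.zJ i)
  YN := Y_norm_N
  YQ := by
    intro i
    rw [← h.Q_eq i]
    exact le_normalizer_o2 _
  no := fun i => h.no hML (kg i)
  gen := by
    intro j K hK hn hc
    exact h.genW hK hn fun h' => hc (inf_le_left.trans h')

/-- `N_G(B)` permutes the `z i` and induces symmetries -/
theorem NB [Finite ι] {g : G} (hg : g ∈ normalizer (B : Set G)) :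
    ∃ σ : Equiv.Perm ι, SyW (o2 (centralizer (ZJ : Set G))) (Yc z) (Yp ZJ W z) (Nc z) g σ ∧
      ∀ i, g * z i * g⁻¹ = z (σ i) := by
  obtain ⟨σ, hσ⟩ := h.conjW hg
  have hO : cj g (o2 (centralizer (ZJ : Set G))) = o2 (centralizer (ZJ : Set G)) := by
    rw [← ZN.ChoiceSit.o2_cj, cj_centralizer, cj_eq_of_mem_normalizer (h.norm_ZJ hg)]
  exact ⟨σ, ⟨⟨hO, fun l => (hσ l).2.1, fun l => (hσ l).2.2.1⟩, ⟨hO, fun l => (hσ l).2.2.2, fun l => (hσ l).2.2.1⟩⟩,
    fun i => (hσ i).1⟩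

theorem QO (i : ι) : o2 (centralizer (ZJ : Set G)) ⊓ centralizer (Nc z i : Set G) ≤ o2 (Yc z i) := (h.Q_eq i).ge

/-- `X = C_G(z_n : n ≠ l, m)` has characteristic 2 -/
theorem ch (l m : ι) : centralizer {x | ∃ n, n ≠ l ∧ n ≠ m ∧ z n = x} ⊓
    centralizer (o2 (centralizer {x | ∃ n, n ≠ l ∧ n ≠ m ∧ z n = x}) : Set G) ≤
      o2 (centralizer {x | ∃ n, n ≠ l ∧ n ≠ m ∧ z n = x}) := by
  rw [X_eq]
  exact h.char2_CT (compl_two_ne h.three l m)

/-- the members of `𝒫(X, B)` centralise `z l` or `z m` -/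
theorem par_pair {l m : ι} (hlm : l ≠ m) (hs : Syl B (centralizer {x | ∃ n, n ≠ l ∧ n ≠ m ∧ z n = x}))
    (hN : centralizer {x | ∃ n, n ≠ l ∧ n ≠ m ∧ z n = x} ⊓ normalizer (B : Set G) ≤ centralizer (ZJ : Set G))
    {R : Subgroup G} (hR : IsMinPar B R) (hRX : R ≤ centralizer {x | ∃ n, n ≠ l ∧ n ≠ m ∧ z n = x}) :
    R ≤ centralizer ({z l} : Set G) ∨ R ≤ centralizer ({z m} : Set G) := by
  rw [X_eq] at hs hN hRX
  by_cases hD : R ≤ centralizer (ZJ : Set G)
  · exact Or.inl fun x hx => mem_centralizer_singleton_iff.2 (h.D_comm (hD hx) l)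
  obtain ⟨i, -, hi⟩ := h.parX (compl_two_ne h.three l m) hs hN hR hRX hD
  by_cases hil : l = i
  · exact Or.inr (hi m fun e => hlm (hil.trans e.symm))
  · exact Or.inl (hi l hil)

end Bw

end Cfsg.Agent.Omega.EDel.BxW

end

-- merged: Cfsg.Agent.Mrg.Omega.EDel.BxW.Final
section

/-!
# THEOREM U from weak UNI (helper165 #26684) over the frame `Bw`

* `Bw.fb` : helper165's frame `FBW`;
* **`Bw.false_of`** : THEOREM U over `Bw` (nonlocality of `D` and the `L j`).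
-/

set_option autoImplicit false
set_option linter.unusedSectionVars false

namespace Cfsg.Agent.Omega.EDel.BxW

open Subgroup Cfsg Cfsg.Agent.ZN.ChoiceBase
open Cfsg.Agent.ZN (zc zl o2)
open Cfsg.Agent.ZN.ChoiceSit (Syl o2_le_syl syl_not_dvd)
open Cfsg.Agent.Omega.EK3 (CT mem_CT Yc Nc)
open Cfsg.Agent.Omega.EDel.ThmU (XX)
open Cfsg.Agent.Omega.EDel.BxF (X_eq Yc_eq syl_of_not_dvd)

universe u

variable {G : Type u} [Group G]

namespace Bw

variable [Finite G] {B J ZJ : Subgroup G} {ι : Type} {L W : ι → Subgroup G} {z : ι → G} (h : Bw B J ZJ L W z)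
include h

/-- the frame `FBW` -/
theorem fb [Finite ι] (hML : ML.Final.MLK.{u, u}) (kg : ∀ T : Set ι, T.Nonempty → IsKGroup (CT z T)) :
    FBW B (centralizer (ZJ : Set G)) ZJ z (Yc z) (Yp ZJ W z) (Nc z) where
  fr := h.toFr hML fun j => kg _ (compl_one_ne h.three j)
  two := h.two
  BD := h.BD
  syl := syl_not_dvd h.syl
  inj := h.inj
  ZJ_eq := h.closure_eq
  ZB := h.ZJB
  D_eq := rfl
  Y_eq := fun i => Yc_eq z i
  NB := fun _ hg => h.NB hg
  ch := fun l m _ => h.ch l m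
  KX := fun l m _ => by
    unfold XX
    rw [X_eq]
    exact kg _ (compl_two_ne h.three l m)
  par := fun l m hlm hs hN P hP hPX => by
    have hBX : B ≤ XX z l m := by
      unfold XX
      rw [X_eq]
      exact h.B_le_CT _
    exact h.par_pair hlm (syl_of_not_dvd hBX h.two hs) hN hP hPX

/-- **THEOREM U** over `Bw` -/
theorem false_of [Finite ι] [Nonempty ι] (hML : ML.Final.MLK.{u, u}) (hE : ML.Ex.Two.Ext.{u, u})
    (kg : ∀ T : Set ι, T.Nonempty → IsKGroup (CT z T))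
    (nl : ∀ R : Subgroup G, R ≠ ⊥ → IsPGroup 2 R →
      ¬ (centralizer (ZJ : Set G) ≤ normalizer (R : Set G) ∧ ∀ j, L j ≤ normalizer (R : Set G))) : False :=
  (h.fb hML kg).false_of hML hE h.O_ne (h.nlp nl)

end Bw

end Cfsg.Agent.Omega.EDel.BxW

end

-- merged: Cfsg.Agent.Mrg.Omega.EDel.BxW.OfLevW
section

/-!
# Box R, at least three blocks over `B = BL S n` (stage `n ≥ 0`), `q = 2`: THEOREM U without `LL`

* `false_lnvW` : over `LnV`;
* `false_levW` : over `FrL`, `V = V*`, `L i ≤ MZ S` (helper947's `Bd.frL`): no hypothesis on the parabolics of lower stage.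
-/

set_option autoImplicit false
set_option linter.unusedSectionVars false

namespace Cfsg.Agent.Omega.EDel.BxW

open Subgroup Cfsg Cfsg.Agent.ZN.ChoiceBase
open Cfsg.Agent.ZN (zc zl o2)
open Cfsg.Agent.Omega.OM
open Cfsg.Agent.Omega.OM.SwapL (ZL BL)
open Cfsg.Agent.Omega.OM.SwapV.Lv (LnV)
open Cfsg.Agent.Omega.OM.Lev.Uni (FrL)
open Cfsg.Agent.Omega.NO3S.Level (lev)
open Cfsg.Agent.Omega.MinPar (IsParS)
open Cfsg.Agent.Omega.NOThreeL.RTree (RB)
open Cfsg.Agent.Omega.NOThreeL.Merge (MZ)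
open Cfsg.Agent.Omega.NOThreeL.RRed.BFr
open Cfsg.Agent.Omega.NOThreeL.RRed (Wd)
open Cfsg.Agent.Omega.EDel.BxF (kg_of)

universe u

variable {G : Type u} [Group G] [Finite G] {ι : Type} [Finite ι] {S : Sylow 2 G} {n : ℕ} {Q V : Subgroup G}
  {L W Z C A : ι → Subgroup G}

/-- the conclusion from `nl` -/
theorem false_of_nlW [Nonempty ι] (hML : ML.Final.MLK.{u, u}) (hE : ML.Ex.Two.Ext.{u, u}) (ctx : Frame.Ctx G)
    (h : LnV S V Q n L W Z C A) (h3 : ∀ i j : ι, ∃ l, l ≠ i ∧ l ≠ j)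
    (nl : ∀ R : Subgroup G, IsPGroup 2 R → centralizer (ZL (S : Subgroup G) n : Set G) ≤ normalizer (R : Set G) →
      (∀ i, L i ≤ normalizer (R : Set G)) → R = ⊥) : False := by
  obtain ⟨z, -, hb⟩ := exists_bw_lev h h3
  exact hb.false_of hML hE (kg_of ctx hb.ne) fun R hR hR2 hall => hR (nl R hR2 hall.1 hall.2)

/-- **THEOREM U at stage `n` in box R**, over `LnV`. -/
theorem false_lnvW [Nonempty ι] (hML : ML.Final.MLK.{u, u}) (hE : ML.Ex.Two.Ext.{u, u}) (B : RB S)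
    (h : LnV S V Q n L W Z C A)
    (hall : ∀ R : Subgroup G, IsParS (S : Subgroup G) R → lev (S : Subgroup G) n ≤ o2 R)
    (h3 : ∀ i j : ι, ∃ l, l ≠ i ∧ l ≠ j) : False :=
  false_of_nlW hML hE B.ctx h h3 fun _ hR hD hLR => NlLev.nl B hall h hR hD hLR

/-- **THEOREM U at stage `n` in box R**, over `FrL`, `V = V*`. -/
theorem false_levW [Nonempty ι] (hML : ML.Final.MLK.{u, u}) (hE : ML.Ex.Two.Ext.{u, u}) (B : RB S)
    (fr : FrL (BL (S : Subgroup G) n) Q (Wd (S : Subgroup G)) (zc (lev (S : Subgroup G) n)) (ZL (S : Subgroup G) n)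
      L W Z C A 2) (hL : ∀ i, L i ≤ MZ (S : Subgroup G)) (h3 : ∀ i j : ι, ∃ l, l ≠ i ∧ l ≠ j) : False :=
  false_lnvW hML hE B (VSup.lnV B fr hL) (VSup.hall fr.VX) h3

end Cfsg.Agent.Omega.EDel.BxW

end

-- merged: Cfsg.Agent.Mrg.Omega.NOThreeL.RRed.BFr.Plug
section

section


/-!
# NO-3L, box R, `FourJ`: the frame over `B` from the blocks

`B : RB S`, `hB : Bks S N E ⊥ Om phi`.

* `bd_of` : the data `Bd`; `mvb_of` : a group which centralises no block moves a letter of every block;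
* `card_le_idx` : the number of pairs; `three_of`;
* `exists_fr` : stage `-1`; `exists_frL` : stage `n`;
* **`false_neg`** : `J(S)` moves all blocks, at least three pairs: contradiction (THEOREM U).
-/

set_option autoImplicit false
set_option linter.unusedSectionVars false

namespace Cfsg.Agent.Omega.NOThreeL.RRed.BFr

open Subgroup Cfsg Cfsg.Agent.ZN.ChoiceBase Cfsg.Agent.Omega.MinPar Cfsg.Agent.Omega.Frame
open Cfsg.Agent.ZN (jj zj bau zc zl o2)
open Cfsg.Agent.Omega.NOThreeL.Merge (MZ le_MZ S_le_MZ isLoc_MZ zl_MZ_comm zl_MZ_isPGroup)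
open Cfsg.Agent.Omega.NOThreeL.RTree (RB)
open Cfsg.Agent.Omega.NO3S.Level (lev Lev lev_isLev nxt BO)
open Cfsg.Agent.Omega.NO3S.OneLine (bo)
open Cfsg.Agent.Omega.OM.SwapL (BL ZL)
open Cfsg.Agent.Omega.OM.Lev.Uni (FrL)
open Cfsg.Agent.Omega.NOThreeL.RRed (Wd zl_le_Wd)
open Cfsg.Agent.Omega.NOThreeL.RRed.FourTree (Bks)

universe u

variable {G : Type u} [Group G]

section count

variable {S : Sylow 2 G} {M V : Subgroup G} {Pt I : Type} [Fintype Pt] [DecidableEq Pt] [DecidableEq I] [Fintype I]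
variable {D : Pts M V Pt I} {X L J : Subgroup G} {AA : Set (Subgroup G)}

/-- the number of the pairs -/
theorem card_le_idx [Finite G] (h : Lv S D X L J AA) :
    Fintype.card Pt ≤ 2 * Nat.card (Idx D AA) + Fintype.card I := by
  classical
  have hc : ∀ x : Pt, x ≠ h.oo x → ∃ i : Idx D AA, Mem i x := fun x hx => (h.cover x).resolve_left hx
  let f : Pt → (Bool × Idx D AA) ⊕ I := fun x =>
    if hx : x = h.oo x then Sum.inr (D.blk x) else Sum.inl (decide (x = xx (hc x hx).choose), (hc x hx).choose)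
  have hf : Function.Injective f := by
    intro x y hxy
    by_cases hx : x = h.oo x
    · by_cases hy : y = h.oo y
      · simp only [f, dif_pos hx, dif_pos hy, Sum.inr.injEq] at hxy
        rw [hx, hy, h.oo_congr hxy]
      · simp only [f, dif_pos hx, dif_neg hy, reduceCtorEq] at hxy
    · by_cases hy : y = h.oo y
      · simp only [f, dif_neg hx, dif_pos hy, reduceCtorEq] at hxy
      · simp only [f, dif_neg hx, dif_neg hy, Sum.inl.injEq, Prod.mk.injEq] at hxy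
        obtain ⟨h1, h2⟩ := hxy
        have hmx := (hc x hx).choose_spec
        have hmy := (hc y hy).choose_spec
        rw [← h2] at hmy h1
        set i := (hc x hx).choose
        by_cases hxi : x = xx i
        · have h3 : y = xx i := by
            have : decide (y = xx i) = true := by rw [← h1]; exact decide_eq_true hxi
            exact of_decide_eq_true this
          rw [hxi, h3]
        · have h3 : y ≠ xx i := by
            have : decide (y = xx i) = false := by rw [← h1]; exact decide_eq_false hxi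
            exact of_decide_eq_false this
          rw [hmx.resolve_left hxi, hmy.resolve_left h3]
  have h1 := Nat.card_le_card_of_injective f hf
  rw [Nat.card_eq_fintype_card, Nat.card_sum, Nat.card_prod, Nat.card_eq_fintype_card (α := Bool), Fintype.card_bool,
    Nat.card_eq_fintype_card (α := I)] at h1
  exact h1

theorem three_of {ι : Type} [Finite ι] (h : 3 ≤ Nat.card ι) (i j : ι) : ∃ l, l ≠ i ∧ l ≠ j := by
  classical
  cases nonempty_fintype ι
  by_contra hcon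
  push Not at hcon
  have h1 : (Finset.univ : Finset ι) ⊆ {i, j} := fun l _ => by
    rw [Finset.mem_insert, Finset.mem_singleton]
    by_cases hl : l = i
    · exact Or.inl hl
    · exact Or.inr (hcon l hl)
  have h2 := Finset.card_le_card h1
  rw [Finset.card_univ, ← Nat.card_eq_fintype_card] at h2
  have h3 : ({i, j} : Finset ι).card ≤ 2 := Finset.card_le_two
  omega

end count

section box

variable [Finite G] {S : Sylow 2 G} {I : Type u} [Fintype I] [DecidableEq I] {N E : I → Subgroup G} {Om : I → Type u}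
  [∀ i, Fintype (Om i)] [∀ i, DecidableEq (Om i)] {phi : ∀ i, Finset (Om i) → G}

/-- `C_S(V*)` is normal in `M₀` -/
theorem MZ_norm_Q (B : RB S) : MZ (S : Subgroup G) ≤
    normalizer (((S : Subgroup G) ⊓ centralizer (Wd (S : Subgroup G) : Set G) : Subgroup G) : Set G) := by
  have hG := B.ctx.char2
  have hMW : MZ (S : Subgroup G) ≤ normalizer (Wd (S : Subgroup G) : Set G) :=
    MinSimple.VModule.le_normalizer_zl (S : Subgroup G) (MZ (S : Subgroup G))
  refine sSup_le fun P hP => ?_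
  have hP' : IsParS (S : Subgroup G) P := hP
  have key : ∀ g ∈ P, ∀ x ∈ (S : Subgroup G) ⊓ centralizer (Wd (S : Subgroup G) : Set G),
      g * x * g⁻¹ ∈ (S : Subgroup G) ⊓ centralizer (Wd (S : Subgroup G) : Set G) := by
    intro g hg x hx
    have h1 : x ∈ o2 P := by
      rw [← IsParS.inf_centralizer S hG hP']
      exact ⟨hx.1, centralizer_le (zl_le_Wd hP') hx.2⟩
    have h2 : g * x * g⁻¹ ∈ o2 P := (mem_normalizer_iff.1 (MinSimple.VModule.le_normalizer_o2 P hg) x).1 h1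
    refine ⟨hP'.isLoc.o2_le S h2, mem_centralizer_iff.2 fun v hv => ?_⟩
    have h3 := (mem_normalizer_iff.1 (inv_mem (hMW (le_MZ hP' hg))) v).1 hv
    rw [inv_inv] at h3
    have h4 := mem_centralizer_iff.1 hx.2 _ h3
    calc v * (g * x * g⁻¹) = g * ((g⁻¹ * v * g) * x) * g⁻¹ := by group
      _ = g * x * g⁻¹ * v := by rw [h4]; group
  intro g hg
  rw [mem_normalizer_iff]
  intro x
  refine ⟨fun hx => key g hg x hx, fun hx => ?_⟩
  have h1 := key _ (inv_mem hg) _ hx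
  have e : g⁻¹ * (g * x * g⁻¹) * g⁻¹⁻¹ = x := by group
  rwa [e] at h1

/-- **The data of the frame.** -/
theorem bd_of (B : RB S) (hB : Bks S N E ⊥ Om phi) : Bd S (ofFull hB.toFull) where
  SM := S_le_MZ B.ctx B.full
  VS := HypJOf.wd_le B
  ZV := MinSimple.VModule.zc_le_zl _ _
  MQ g hg x hx := ((mem_normalizer_iff.1 (MZ_norm_Q B hg) x).1 hx).1

omit [Finite G] in
/-- a subgroup which centralises no block moves a letter of every block -/
theorem mvb_of [Finite G] (hB : Bks S N E ⊥ Om phi) {K : Subgroup G} (hK : K ≤ MZ (S : Subgroup G))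
    (h : ∀ b, ¬ K ≤ centralizer (N b : Set G)) : Mvb (ofFull hB.toFull) K := by
  intro x
  obtain ⟨a, ha, hac⟩ := SetLike.not_le_iff_exists.1 (h (fP Om x).1)
  rw [cent_iff hB.toFull (hK ha)] at hac
  push Not at hac
  obtain ⟨y, hy, hay⟩ := hac
  exact ⟨y, hy, a, ha, hay⟩

/-- the level group `lev S n` is normal in `M₀` if `V* ≤ Ω₁Z(lev S n)` -/
theorem MZ_norm_lev (B : RB S) {n : ℕ} (hX : Wd (S : Subgroup G) ≤ zc (lev (S : Subgroup G) n)) :
    MZ (S : Subgroup G) ≤ normalizer (lev (S : Subgroup G) n : Set G) :=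
  sSup_le fun P hP => by
    have hP' : IsParS (S : Subgroup G) P := hP
    have h1 := VSup.hall hX P hP'
    exact (MinSimple.VModule.le_normalizer_o2 P).trans ((lev_isLev (S : Subgroup G) n).norm (o2 P) h1 (hP'.isLoc.o2_le S))

/-- **The frame over `bau S`.** -/
theorem exists_fr (B : RB S) (hB : Bks S N E ⊥ Om phi) (hj : ∀ b, ¬ jj (S : Subgroup G) ≤ centralizer (N b : Set G)) :
    ∃ (ι : Type) (_ : Finite ι) (L W Z C A : ι → Subgroup G), Nonempty ι ∧
      (∑ i, Fintype.card (Om i)) ≤ 2 * Nat.card ι + Fintype.card I ∧ (∀ i, L i ≤ MZ (S : Subgroup G)) ∧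
      OM.Uni.Fr (bau (S : Subgroup G)) ((S : Subgroup G) ⊓ centralizer (Wd (S : Subgroup G) : Set G))
        (Wd (S : Subgroup G)) (zj (S : Subgroup G)) L W Z C A 2 (mm (S : Subgroup G)) := by
  have hbd := bd_of B hB
  have hm := mvb_of hB ((jj_le _).trans (S_le_MZ B.ctx B.full)) hj
  have hl := hbd.lv_neg hm
  obtain ⟨b⟩ := hB.nonempty
  have : Nonempty (Fin (Fintype.card (Σ i, Om i))) := by
    have h3 := hB.toFull.three b
    obtain ⟨a⟩ : Nonempty (Om b) := Fintype.card_pos_iff.1 (by omega)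
    exact ⟨(fP Om).symm ⟨b, a⟩⟩
  obtain ⟨L, W, Z, C, A, h1, h2⟩ := hbd.fr hm
  refine ⟨_, inferInstance, L, W, Z, C, A, ?_, ?_, h1, h2⟩
  · obtain ⟨i, -⟩ := hl.exists_idx (Classical.arbitrary _)
    exact ⟨i⟩
  · have h3 := card_le_idx hl
    rw [Fintype.card_fin, Fintype.card_fin] at h3
    exact (Fintype.card_sigma).ge.trans h3

/-- **The frame over `BL S n`.** -/
theorem exists_frL (B : RB S) (hB : Bks S N E ⊥ Om phi) {n : ℕ}
    (hX : Wd (S : Subgroup G) ≤ zc (lev (S : Subgroup G) n))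
    (hj : ∀ b, ¬ lev (S : Subgroup G) (n + 1) ≤ centralizer (N b : Set G)) :
    ∃ (ι : Type) (_ : Finite ι) (L W Z C A : ι → Subgroup G), Nonempty ι ∧
      (∑ i, Fintype.card (Om i)) ≤ 2 * Nat.card ι + Fintype.card I ∧ (∀ i, L i ≤ MZ (S : Subgroup G)) ∧
      FrL (BL (S : Subgroup G) n) ((S : Subgroup G) ⊓ centralizer (Wd (S : Subgroup G) : Set G))
        (Wd (S : Subgroup G)) (zc (lev (S : Subgroup G) n)) (ZL (S : Subgroup G) n) L W Z C A 2 := by
  have hbd := bd_of B hB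
  have hm := mvb_of hB ((NO3S.Level.lev_le _ _).trans (S_le_MZ B.ctx B.full)) hj
  have hK := MZ_norm_lev B hX
  have hl := hbd.lv hX hK hm
  obtain ⟨b⟩ := hB.nonempty
  have : Nonempty (Fin (Fintype.card (Σ i, Om i))) := by
    have h3 := hB.toFull.three b
    obtain ⟨a⟩ : Nonempty (Om b) := Fintype.card_pos_iff.1 (by omega)
    exact ⟨(fP Om).symm ⟨b, a⟩⟩
  obtain ⟨L, W, Z, C, A, h1, h2⟩ := hbd.frL hX hK hm
  refine ⟨_, inferInstance, L, W, Z, C, A, ?_, ?_, h1, h2⟩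
  · obtain ⟨i, -⟩ := hl.exists_idx (Classical.arbitrary _)
    exact ⟨i⟩
  · have h3 := card_le_idx hl
    rw [Fintype.card_fin, Fintype.card_fin] at h3
    exact (Fintype.card_sigma).ge.trans h3

/-- **`FourJ`, stage `-1`, at least three pairs.** -/
theorem false_neg (hML : ML.Final.MLK.{u, u}) (hE : ML.Ex.Two.Ext.{u, u}) (B : RB S) (hB : Bks S N E ⊥ Om phi)
    (hj : ∀ b, ¬ jj (S : Subgroup G) ≤ centralizer (N b : Set G))
    (hc : Fintype.card I + 5 ≤ ∑ i, Fintype.card (Om i)) : False := by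
  obtain ⟨ι, i1, L, W, Z, C, A, i2, h1, h2, h3⟩ := exists_fr B hB hj
  have h4 := three_of (ι := ι) (by omega)
  exact EDel.BxF.false_line hML hE B (VSup.lineV B h3 h2 fun i => by
    obtain ⟨l, hl, -⟩ := h4 i i
    exact ⟨l, hl⟩) h4

end box

end Cfsg.Agent.Omega.NOThreeL.RRed.BFr

end

section


/-!
# NO-3L, box R, `R₀ = 1`, `q = 2`: `lev S (n + 1)` moves all blocks

* **`false_lev`** : `V* ≤ Ω₁Z(lev S n)`, `lev S (n + 1)` moves all blocks, at least three pairs: contradiction (THEOREM U with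
  weak UNI; no further input); the analogue of `false_neg` at stage `n`.
-/

set_option autoImplicit false
set_option linter.unusedSectionVars false

namespace Cfsg.Agent.Omega.NOThreeL.RRed.BFr

open Subgroup Cfsg
open Cfsg.Agent.ZN (zc)
open Cfsg.Agent.Omega.NOThreeL.RTree (RB)
open Cfsg.Agent.Omega.NO3S.Level (lev)
open Cfsg.Agent.Omega.NOThreeL.RRed (Wd)
open Cfsg.Agent.Omega.NOThreeL.RRed.FourTree (Bks)

universe u

variable {G : Type u} [Group G] [Finite G] {S : Sylow 2 G} {I : Type u} [Fintype I] [DecidableEq I]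
  {N E : I → Subgroup G} {Om : I → Type u} [∀ i, Fintype (Om i)] [∀ i, DecidableEq (Om i)]
  {phi : ∀ i, Finset (Om i) → G}

/-- **`lev S (n + 1)` moves all blocks: contradiction.** -/
theorem false_lev (hML : ML.Final.MLK.{u, u}) (hE : ML.Ex.Two.Ext.{u, u}) (B : RB S) (hB : Bks S N E ⊥ Om phi) {n : ℕ}
    (hX : Wd (S : Subgroup G) ≤ zc (lev (S : Subgroup G) n))
    (hj : ∀ b, ¬ lev (S : Subgroup G) (n + 1) ≤ centralizer (N b : Set G))
    (hc : Fintype.card I + 5 ≤ ∑ i, Fintype.card (Om i)) : False := by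
  obtain ⟨ι, i1, L, W, Z, C, A, i2, h1, h2, h3⟩ := exists_frL B hB hX hj
  exact EDel.BxW.false_levW hML hE B h3 h2 (three_of (by omega))

end Cfsg.Agent.Omega.NOThreeL.RRed.BFr

end

end
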