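import Cfsg.Agent.Mrg.Omega.EK3.Rank
import Cfsg.Agent.Mrg.Omega.NOThreeL.RRed.BFr.HM
import Cfsg.Agent.Mrg.Omega.Assembly
import Cfsg.Agent.Mrg.Omega.EDel.LX
import Cfsg.Agent.Mrg.Omega.NOThreeL.RRed.BFr.Frame
import Cfsg.Agent.Mrg.Omega.NOThreeL.RRed.BFr.Plug
import Cfsg.Agent.Mrg.Omega.NOThreeL.RLev.Chain
import Cfsg.Agent.Mrg.Omega.NOThreeL.RRed.BFr.VSup
import Cfsg.Agent.Mrg.Omega.Node.MulG
import Cfsg.Agent.Mrg.Omega.NOThreeL.RZ.LowR

-- merged: Cfsg.Agent.Mrg.Omega.ESym.Digraph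
section

section


/-!
# THEOREM S'' (helper497 #23971, after helper787 #23621): the digraph argument

Pure group theory.  `O` centralises `ZJ`, `O ≤ D ≤ Y i`, `N i ≤ O` elementary abelian, normal in `Y i`, `Q i = O ⊓ C(N i)`
normal in `Y i`, `(NO)` for `O` on `N i`, `(QP)`: `Y j = K D` for every normal subgroup `K` of `Y j` moving `N j`;
`EE ZJ ⟨Y i : i ∉ Λ⟩` is elementary abelian and in `O` for `Λ ≠ ∅`; no nontrivial subgroup of `O` is normalised by all `Y i`.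
`Sg O Y N g σ` : `g` normalises `O` and permutes the pairs `(Y i, N i)` as `σ`.

* `Fr` : this setting;
* `Rel Y N i j` : `Y j` normalises `N i N j`; `Fr.exists_rel` : **(*)** for all `∅ ≠ Λ ≠ I` there is `j ∉ Λ` with
  `Rel i j` for all `i ∉ Λ`, if the `Sg`-elements are transitive;
* `Fr.not_all` : not all `Rel i j`;
* `Fr.false_of_swap` : **contradiction, if moreover `|I| ≥ 3` and some `Sg`-element acts as a transposition `(a b)`**.
-/

set_option autoImplicit false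
set_option linter.unusedSectionVars false

namespace Cfsg.Agent.Omega.ESym

open Subgroup Cfsg Cfsg.Agent.ZN Cfsg.Agent.ZN.ChoiceBase
open Cfsg.Agent.Omega.NO3S.EThree
open Cfsg.Agent.Omega.NO3S.EThree.ExactA (eab_mono eab_sup eab_iff)
open Cfsg.Agent.Omega.EK3.Rank (NoOn)
open Cfsg.Agent.Omega.EK3.StarE (EE EE_mono norm_EE le_norm_of_cj_le cj_iSup_le)
open scoped commutatorElement

universe u

variable {G : Type u} [Group G]

theorem cj_sup (g : G) (H K : Subgroup G) : cj g (H ⊔ K) = cj g H ⊔ cj g K := Subgroup.map_sup H K _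

/-- **The frame.** -/
structure Fr {ι : Type*} (O D ZJ : Subgroup G) (Y N : ι → Subgroup G) : Prop where
  OD : O ≤ D
  OZ : O ≤ centralizer (ZJ : Set G)
  DY : ∀ i, D ≤ Y i
  eab : ∀ i, IsElementaryAbelian 2 (N i)
  N1 : ∀ i, N i ≠ ⊥
  NO : ∀ i, N i ≤ O
  YN : ∀ i, Y i ≤ normalizer (N i : Set G)
  YQ : ∀ i, Y i ≤ normalizer ((O ⊓ centralizer (N i : Set G) : Subgroup G) : Set G)
  no : ∀ i, NoOn O (N i)
  nl : ∀ U : Subgroup G, U ≤ O → (∀ i, Y i ≤ normalizer (U : Set G)) → U = ⊥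
  qp : ∀ j, ∀ K : Subgroup G, K ≤ Y j → Y j ≤ normalizer (K : Set G) → ¬ K ≤ centralizer (N j : Set G) → Y j ≤ K ⊔ D
  Eeab : ∀ Λ : Set ι, Λ.Nonempty → IsElementaryAbelian 2 (EE ZJ (⨆ i : {i // i ∉ Λ}, Y i))
  EO : ∀ Λ : Set ι, Λ.Nonempty → EE ZJ (⨆ i : {i // i ∉ Λ}, Y i) ≤ O
  NE : ∀ i, N i ≤ EE ZJ (Y i)

/-- `g` permutes the data as `σ`. -/
structure Sg {ι : Type*} (O : Subgroup G) (Y N : ι → Subgroup G) (g : G) (σ : Equiv.Perm ι) : Prop where
  eqO : cj g O = O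
  eqY : ∀ i, cj g (Y i) = Y (σ i)
  eqN : ∀ i, cj g (N i) = N (σ i)

/-- `Y j` normalises `N i N j`. -/
def Rel {ι : Type*} (Y N : ι → Subgroup G) (i j : ι) : Prop := Y j ≤ normalizer ((N i ⊔ N j : Subgroup G) : Set G)

variable {ι : Type*} {O D ZJ : Subgroup G} {Y N : ι → Subgroup G}

theorem Sg.rel {g : G} {σ : Equiv.Perm ι} (s : Sg O Y N g σ) {i j : ι} (h : Rel Y N i j) : Rel Y N (σ i) (σ j) := by
  unfold Rel at *
  rw [← s.eqY, ← s.eqN, ← s.eqN, ← cj_sup, ← cj_normalizer]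
  exact cj_mono g h

namespace Fr

variable (h : Fr O D ZJ Y N)
include h

theorem dt {Λ : Set ι} (hΛ : Λ.Nonempty) : EK3.Lever.Dt O (EE ZJ (⨆ i : {i // i ∉ Λ}, Y i)) ZJ
    (fun i : {i // i ∉ Λ} => Y i) (fun i : {i // i ∉ Λ} => N i) where
  ab := (eab_iff.1 (h.Eeab Λ hΛ)).1
  OY := fun i => h.OD.trans (h.DY i)
  YE := fun i => (le_iSup (fun i : {i // i ∉ Λ} => Y i) i).trans (norm_EE _ _)
  OZ := h.OZ
  gen := le_rfl
  NE := fun i => (h.NE i).trans (EE_mono (le_iSup (fun i : {i // i ∉ Λ} => Y i) i))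
  YN := fun i => h.YN i
  YQ := fun i => h.YQ i
  no := fun i => h.no i

/-- `K = {y ∈ Y j : [E, y] ≤ N j}` is a normal subgroup of `Y j`. -/
theorem rel_of {E : Subgroup G} {j : ι} (hYE : Y j ≤ normalizer (E : Set G)) {F : Subgroup G} (hFO : F ≤ O) (hmv : ¬ F ≤ centralizer (N j : Set G))
    (hc : ∀ e ∈ E, ∀ f ∈ F, ⁅e, f⁆ ∈ N j) {i : ι} (hi : N i ≤ E) : Rel Y N i j := by
  have hn : ∀ y ∈ Y j, ∀ n, n ∈ N j ↔ y * n * y⁻¹ ∈ N j := fun y hy n => mem_normalizer_iff.1 (h.YN j hy) n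
  have hEe : ∀ y ∈ Y j, ∀ n, n ∈ E ↔ y * n * y⁻¹ ∈ E := fun y hy n => mem_normalizer_iff.1 (hYE hy) n
  let K : Subgroup G :=
    { carrier := {y | y ∈ Y j ∧ ∀ e ∈ E, e * y * e⁻¹ * y⁻¹ ∈ N j}
      one_mem' := ⟨one_mem _, fun e _ => by
        have : e * 1 * e⁻¹ * 1⁻¹ = 1 := by group
        rw [this]
        exact one_mem _⟩
      mul_mem' := fun {a b} ha hb => ⟨mul_mem ha.1 hb.1, fun e he => by
        have e1 : e * (a * b) * e⁻¹ * (a * b)⁻¹ = (e * a * e⁻¹ * a⁻¹) * (a * (e * b * e⁻¹ * b⁻¹) * a⁻¹) := by group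
        rw [e1]
        exact mul_mem (ha.2 e he) ((hn a ha.1 _).1 (hb.2 e he))⟩
      inv_mem' := fun {a} ha => ⟨inv_mem ha.1, fun e he => by
        have e1 : e * a⁻¹ * e⁻¹ * (a⁻¹)⁻¹ = a⁻¹ * (a * e * a⁻¹ * e⁻¹) * (a⁻¹)⁻¹ := by group
        have e2 : a * e * a⁻¹ * e⁻¹ = (e * a * e⁻¹ * a⁻¹)⁻¹ := by group
        rw [e1, e2]
        exact (hn _ (inv_mem ha.1) _).1 (inv_mem (ha.2 e he))⟩ }
  have hKY : K ≤ Y j := fun y hy => hy.1
  have hYK : Y j ≤ normalizer (K : Set G) := by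
    refine le_norm_of_cj_le fun y hy => ?_
    rintro _ ⟨k, hk, rfl⟩
    refine ⟨mul_mem (mul_mem hy hk.1) (inv_mem hy), fun e he => ?_⟩
    have h1 : y⁻¹ * e * y ∈ E := by
      have := (hEe _ (inv_mem hy) e).1 he
      rwa [inv_inv] at this
    have e1 : e * (y * k * y⁻¹) * e⁻¹ * (y * k * y⁻¹)⁻¹ =
        y * ((y⁻¹ * e * y) * k * (y⁻¹ * e * y)⁻¹ * k⁻¹) * y⁻¹ := by group
    show e * (y * k * y⁻¹) * e⁻¹ * (y * k * y⁻¹)⁻¹ ∈ N j
    rw [e1]
    exact (hn y hy _).1 (hk.2 _ h1)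
  have hFK : F ≤ K := fun f hf => ⟨(hFO.trans (h.OD.trans (h.DY j))) hf, fun e he => hc e he f hf⟩
  have hY := h.qp j K hKY hYK fun h1 => hmv (hFK.trans h1)
  have hK : K ≤ normalizer ((N i ⊔ N j : Subgroup G) : Set G) := by
    refine le_norm_of_cj_le fun k hk => ?_
    rw [cj_sup]
    refine sup_le ?_ ?_
    · rintro _ ⟨n, hn', rfl⟩
      show k * n * k⁻¹ ∈ _
      have h1 := hk.2 n (hi hn')
      have e1 : k * n * k⁻¹ = (n * k * n⁻¹ * k⁻¹)⁻¹ * n := by group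
      rw [e1]
      exact mul_mem (mem_sup_right (inv_mem h1)) (mem_sup_left hn')
    · refine le_trans ?_ le_sup_right
      exact (cj_eq_of_mem_normalizer (h.YN j (hKY hk))).le
  refine hY.trans (sup_le hK ?_)
  refine le_norm_of_cj_le fun d hd => ?_
  rw [cj_sup, cj_eq_of_mem_normalizer (h.YN i (h.DY i hd)), cj_eq_of_mem_normalizer (h.YN j (h.DY j hd))]

/-- Not all `Rel i j`. -/
theorem not_all [Nonempty ι] : ¬ ∀ i j, Rel Y N i j := by
  intro hall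
  have h1 := h.nl (⨆ i, N i) (iSup_le h.NO) fun j => by
    refine le_norm_of_cj_le fun y hy => ?_
    refine cj_iSup_le fun i => ?_
    have h2 : cj y (N i ⊔ N j) = N i ⊔ N j := cj_eq_of_mem_normalizer (hall i j hy)
    have h3 : cj y (N i) ≤ N i ⊔ N j := by
      rw [← h2]
      exact cj_mono y le_sup_left
    exact h3.trans (sup_le (le_iSup N i) (le_iSup N j))
  obtain ⟨i⟩ := ‹Nonempty ι›
  exact h.N1 i (le_bot_iff.1 ((le_iSup N i).trans h1.le))

variable [Finite G]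

/-- If `J(O)` centralises `N i`, then `Y i` normalises `J(O)`. -/
theorem norm_jj {i : ι} (hi : jj O ≤ centralizer (N i : Set G)) : Y i ≤ normalizer (jj O : Set G) := by
  have e : jj O = jj (O ⊓ centralizer (N i : Set G)) := by
    apply le_antisymm
    · conv_lhs => rw [jj_eq]
      refine sSup_le fun A hA => le_jj ?_
      exact EK3.Rank.mem_inf_of_mem_AA (h.eab i) (h.NO i) (h.no i) hA ((le_jj hA).trans hi)
    · exact EK3.Rank.jj_inf_le (h.eab i) (h.NO i) (h.no i)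
  rw [e]
  refine le_norm_of_cj_le fun y hy => ?_
  rw [← jj_cj, cj_eq_of_mem_normalizer (h.YQ i hy)]

theorem jj_ne [Nonempty ι] : jj O ≠ ⊥ := by
  intro e
  obtain ⟨i⟩ := ‹Nonempty ι›
  obtain ⟨A, hA⟩ := AA_nonempty O
  have h1 : A = ⊥ := le_bot_iff.1 ((le_jj hA).trans e.le)
  have h2 := card_le_mm (h.eab i) (h.NO i)
  rw [mm_eq hA, h1, card_bot] at h2
  exact h.N1 i (Subgroup.card_eq_one.1 (le_antisymm h2 Nat.card_pos))

/-- **(1)** `J(O)` does not centralise `N i`. -/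
theorem jj_moves (ht : ∀ i j, ∃ g σ, Sg O Y N g σ ∧ σ i = j) (i : ι) : ¬ jj O ≤ centralizer (N i : Set G) := by
  intro hi
  have : Nonempty ι := ⟨i⟩
  refine h.jj_ne (h.nl _ (ChoiceBase.jj_le _) fun j => ?_)
  obtain ⟨g, σ, s, rfl⟩ := ht i j
  have h1 := cj_mono g (h.norm_jj hi)
  rwa [s.eqY, cj_normalizer, ← jj_cj, s.eqO] at h1

/-- **(*)** -/
theorem exists_rel (ht : ∀ i j, ∃ g σ, Sg O Y N g σ ∧ σ i = j) {Λ : Set ι} (hΛ : Λ.Nonempty) (hΛ' : Λᶜ.Nonempty) :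
    ∃ j, j ∉ Λ ∧ ∀ i, i ∉ Λ → Rel Y N i j := by
  set E := EE ZJ (⨆ i : {i // i ∉ Λ}, Y i) with hE
  obtain ⟨i₀, hi₀⟩ := hΛ'
  have d := h.dt hΛ
  rw [← hE] at d
  have hNE : ∀ i, i ∉ Λ → N i ≤ E := fun i hi => d.NE ⟨i, hi⟩
  -- a member of `AA(O)` moving `E`
  obtain ⟨A, hA, hmv⟩ : ∃ A ∈ AA O, ¬ A ≤ centralizer (N i₀ : Set G) := by
    by_contra hcon
    push Not at hcon
    refine h.jj_moves ht i₀ ?_
    rw [jj_eq]
    exact sSup_le hcon
  have hYE : O ≤ normalizer (E : Set G) := (d.OY ⟨i₀, hi₀⟩).trans (d.YE ⟨i₀, hi₀⟩)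
  have hoff := EK3.Lever.offd_of_AA (h.Eeab Λ hΛ) (h.EO Λ hΛ) hA (hA.2.1.trans hYE)
    fun hc => hmv (hc.trans (centralizer_le (hNE i₀ hi₀)))
  obtain ⟨j, F, hFO, -, hFm, hFc⟩ := d.lever hA.2.1 hA.1 hoff
  exact ⟨j, j.2, fun i hi => h.rel_of (d.YE j) hFO hFm hFc (hNE i hi)⟩

/-- **THEOREM S''.** -/
theorem false_of_swap [Finite ι] (ht : ∀ i j, ∃ g σ, Sg O Y N g σ ∧ σ i = j) (h3 : ∀ i j : ι, ∃ l, l ≠ i ∧ l ≠ j)
    {a b : ι} (hab : a ≠ b) {g : G} {σ : Equiv.Perm ι} (s : Sg O Y N g σ) (sa : σ a = b) (sb : σ b = a)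
    (so : ∀ i, i ≠ a → i ≠ b → σ i = i) : False := by
  classical
  have : Nonempty ι := ⟨a⟩
  -- every `j` has some `l` with not `Rel l j`
  obtain ⟨i₀, j₀, hij⟩ : ∃ i j, ¬ Rel Y N i j := by
    by_contra hcon
    push Not at hcon
    exact h.not_all hcon
  have hD : ∀ j, ∃ l, ¬ Rel Y N l j := by
    intro j
    obtain ⟨g', τ, s', rfl⟩ := ht j j₀
    refine ⟨τ.symm i₀, fun hr => hij ?_⟩
    have := s'.rel hr
    rwa [Equiv.apply_symm_apply] at this
  -- `(*)` for `{l}`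
  have h1 : ∀ l, ∃ j, j ≠ l ∧ (∀ i, i ≠ l → Rel Y N i j) ∧ ¬ Rel Y N l j := by
    intro l
    obtain ⟨m, hm, -⟩ := h3 l l
    obtain ⟨j, hj, hr⟩ := h.exists_rel ht (Λ := {l}) ⟨l, rfl⟩ ⟨m, hm⟩
    refine ⟨j, hj, hr, ?_⟩
    obtain ⟨l', hl'⟩ := hD j
    by_cases e : l' = l
    · rwa [e] at hl'
    · exact absurd (hr l' e) hl'
  choose f hf1 hf2 hf3 using h1
  -- `f` is injective, so surjective
  have hinj : Function.Injective f := by
    intro l l' e
    by_contra hne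
    have := hf2 l' l hne
    rw [← e] at this
    exact hf3 l this
  have hsur := Finite.surjective_of_injective hinj
  -- uniqueness
  have huniq : ∀ l j, ¬ Rel Y N l j → j = f l := by
    intro l j hr
    obtain ⟨l', rfl⟩ := hsur j
    by_contra hne
    have hll : l ≠ l' := fun e => hne (by rw [e])
    exact hr (hf2 l' l hll)
  -- `f` commutes with `σ`
  have hcomm : ∀ l, f (σ l) = σ (f l) := by
    intro l
    symm
    apply huniq
    intro hr
    apply hf3 l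
    -- apply `σ⁻¹`: use that `σ` is an involution
    have hσσ : ∀ i, σ (σ i) = i := by
      intro i
      by_cases ha : i = a
      · rw [ha, sa, sb]
      · by_cases hb : i = b
        · rw [hb, sb, sa]
        · rw [so i ha hb, so i ha hb]
    have := s.rel hr
    rwa [hσσ, hσσ] at this
  -- `f a = b` and `f b = a`
  have key : ∀ x y : ι, ((x = a ∧ y = b) ∨ (x = b ∧ y = a)) → f x = y := by
    intro x y hxy
    by_contra hne
    have hx : f x ≠ x := hf1 x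
    have hfa : f x ≠ a := by
      rcases hxy with ⟨rfl, rfl⟩ | ⟨rfl, rfl⟩
      · exact hx
      · exact hne
    have hfb : f x ≠ b := by
      rcases hxy with ⟨rfl, rfl⟩ | ⟨rfl, rfl⟩
      · exact hne
      · exact hx
    have h4 := hcomm x
    rw [so _ hfa hfb] at h4
    have h5 := hinj h4
    rcases hxy with ⟨rfl, rfl⟩ | ⟨rfl, rfl⟩
    · rw [sa] at h5; exact hab h5.symm
    · rw [sb] at h5; exact hab h5
  have hfa := key a b (Or.inl ⟨rfl, rfl⟩)
  have hfb := key b a (Or.inr ⟨rfl, rfl⟩)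
  -- `(*)` for the complement of `{a, b}`
  obtain ⟨c, hca, hcb⟩ := h3 a b
  obtain ⟨j, hj, hr⟩ := h.exists_rel ht (Λ := {i | i ≠ a ∧ i ≠ b}) ⟨c, hca, hcb⟩ ⟨a, fun h => h.1 rfl⟩
  have hj' : j = a ∨ j = b := by
    by_contra hcon
    push Not at hcon
    exact hj hcon
  rcases hj' with rfl | rfl
  · have := hf3 b
    rw [hfb] at this
    exact this (hr b fun h => h.2 rfl)
  · have := hf3 a
    rw [hfa] at this
    exact this (hr a fun h => h.1 rfl)

end Fr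

end Cfsg.Agent.Omega.ESym

end

section


/-!
# THEOREM U (helper23 #24127), parts (1) and (2)

Frame `ESym.Fr` of THEOREM S'' (`Omega/ESym/Digraph.lean`), with `D` normalising `O`, `N i ≤ C(N j)`, at least three
indices, and `[ZJ, Y i] ≤ N i`.  NO transitivity.

* `Sg.inv`, `Sg.mul`;
* `exists_aa` : **(1)** some `A ∈ AA(O)` centralises all `N i` and moves `E_{lm} = ⟨ZJ^⟨Y l, Y m⟩⟩`, `l ≠ m`;
* `no_swap` : **(2)** for such `l, m` no `Sg`-element acts as the transposition `(l m)`;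
* `main` : both;
* `le_of_syl` : (2) in group-theoretic form: `B ∈ Syl₂(X)` for every `X ≤ C(z n)`, `n ≠ l, m`.
-/

set_option autoImplicit false
set_option linter.unusedSectionVars false

namespace Cfsg.Agent.Omega.ESym.ThU

open Subgroup Cfsg Cfsg.Agent.ZN Cfsg.Agent.ZN.ChoiceBase
open Cfsg.Agent.Omega.ESym
open Cfsg.Agent.Omega.NO3S.EThree
open Cfsg.Agent.Omega.NO3S.EThree.ExactA (eab_mono eab_sup eab_iff)
open Cfsg.Agent.Omega.EK3.Rank (NoOn)
open Cfsg.Agent.Omega.EK3.StarE (EE EE_mono EE_le cj_le_EE le_EE norm_EE le_norm_of_cj_le cj_iSup_le)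
open scoped commutatorElement

universe u

variable {G : Type u} [Group G] {ι : Type*} {O D ZJ : Subgroup G} {Y N : ι → Subgroup G}

theorem sg_inv {g : G} {σ : Equiv.Perm ι} (s : Sg O Y N g σ) : Sg O Y N g⁻¹ σ⁻¹ where
  eqO := by
    conv_lhs => rw [← s.eqO]
    exact cj_inv_cj g O
  eqY := fun l => by
    have := s.eqY (σ⁻¹ l)
    rw [CoreS.inv_r σ l] at this
    rw [← this, cj_inv_cj]
  eqN := fun l => by
    have := s.eqN (σ⁻¹ l)
    rw [CoreS.inv_r σ l] at this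
    rw [← this, cj_inv_cj]

theorem sg_mul {g g' : G} {σ τ : Equiv.Perm ι} (s : Sg O Y N g σ) (t : Sg O Y N g' τ) :
    Sg O Y N (g * g') (σ * τ) where
  eqO := by rw [← cj_cj, t.eqO, s.eqO]
  eqY := fun l => by rw [← cj_cj, t.eqY, s.eqY]; rfl
  eqN := fun l => by rw [← cj_cj, t.eqN, s.eqN]; rfl

/-- the `Sg`-orbit of `l` -/
def Orb (O : Subgroup G) (Y N : ι → Subgroup G) (l : ι) : Set ι := {i | ∃ g σ, Sg O Y N g σ ∧ σ l = i}

theorem self_orb (l : ι) : l ∈ Orb O Y N l :=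
  ⟨1, 1, ⟨cj_one _, fun i => by rw [cj_one]; rfl, fun i => by rw [cj_one]; rfl⟩, rfl⟩

theorem orb_orb {l i j : ι} (hi : i ∈ Orb O Y N l) (hj : j ∈ Orb O Y N l) :
    ∃ g σ, Sg O Y N g σ ∧ σ i = j := by
  obtain ⟨g, σ, s, rfl⟩ := hi
  obtain ⟨g', τ, t, rfl⟩ := hj
  exact ⟨_, _, sg_mul t (sg_inv s), by simp⟩

theorem mem_orb {l i : ι} (hi : i ∈ Orb O Y N l) {g : G} {σ : Equiv.Perm ι} (s : Sg O Y N g σ) :
    σ i ∈ Orb O Y N l := by
  obtain ⟨g', τ, t, rfl⟩ := hi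
  exact ⟨_, _, sg_mul s t, rfl⟩

theorem iSup_pair {l m : ι} (hlm : l ≠ m) :
    (⨆ i : {i // i ∉ ({i | i ≠ l ∧ i ≠ m} : Set ι)}, Y i) = Y l ⊔ Y m := by
  apply le_antisymm
  · refine iSup_le fun i => ?_
    have : (i : ι) = l ∨ (i : ι) = m := by
      by_contra hcon
      push Not at hcon
      exact i.2 hcon
    rcases this with e | e
    · rw [e]; exact le_sup_left
    · rw [e]; exact le_sup_right
  · refine sup_le ?_ ?_
    · exact le_iSup (fun i : {i // i ∉ ({i | i ≠ l ∧ i ≠ m} : Set ι)} => Y i) ⟨l, fun h => h.1 rfl⟩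
    · exact le_iSup (fun i : {i // i ∉ ({i | i ≠ l ∧ i ≠ m} : Set ι)} => Y i) ⟨m, fun h => h.2 rfl⟩

section main

variable (h : ESym.Fr O D ZJ Y N) (DO : D ≤ normalizer (O : Set G)) (NN : ∀ i j, N i ≤ centralizer (N j : Set G))
  (h3 : ∀ i j : ι, ∃ l, l ≠ i ∧ l ≠ j)
include h

include h3 in
theorem eab_pair {l m : ι} (hlm : l ≠ m) : IsElementaryAbelian 2 (EE ZJ (Y l ⊔ Y m)) := by
  obtain ⟨n, hn1, hn2⟩ := h3 l m
  have := h.Eeab {i | i ≠ l ∧ i ≠ m} ⟨n, hn1, hn2⟩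
  rwa [iSup_pair hlm] at this

include h3 in
theorem le_pair {l m : ι} (hlm : l ≠ m) : EE ZJ (Y l ⊔ Y m) ≤ O := by
  obtain ⟨n, hn1, hn2⟩ := h3 l m
  have := h.EO {i | i ≠ l ∧ i ≠ m} ⟨n, hn1, hn2⟩
  rwa [iSup_pair hlm] at this

include DO NN h3 in
/-- The frame of STAR (with `L = Y`). -/
theorem star : EK3.StarE.Fr O D ZJ Y N Y where
  OD := h.OD
  DO := DO
  OZ := h.OZ
  DY := h.DY
  LY := fun _ => le_rfl
  YDL := fun _ => le_sup_right
  eab := h.eab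
  NQ := fun i j => le_inf (h.NO i) (NN i j)
  YN := h.YN
  YQ := h.YQ
  no := h.no
  nl := fun U hU _ hY => h.nl U hU hY
  Eeab := fun _ _ => eab_pair h h3
  EO := fun _ _ => le_pair h h3
  NE := h.NE

variable [Finite G]

include DO NN h3 in
/-- **(1)** -/
theorem exists_aa [Finite ι] (hO : O ≠ ⊥) : ∃ A ∈ AA O, (∀ i, A ≤ centralizer (N i : Set G)) ∧
    ∃ l m, l ≠ m ∧ ¬ A ≤ centralizer (EE ZJ (Y l ⊔ Y m) : Set G) := by
  obtain ⟨A, hA, hl, i, j, hij, x, hx, hmv⟩ := (star h DO NN h3).aa_star hO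
  refine ⟨A, hA, hl, i, j, hij, fun hc => hmv ?_⟩
  have h1 : cj x A ≤ cj x (centralizer (EE ZJ (Y i ⊔ Y j) : Set G)) := cj_mono x hc
  rw [cj_centralizer, cj_eq_of_mem_normalizer (norm_EE ZJ (Y i ⊔ Y j) (le_sup_left (a := Y i) (b := Y j) hx))] at h1
  exact h1.trans (centralizer_le ((h.NE j).trans (EE_mono le_sup_right)))

/-- (b), (c) for a proper set of indices: -/
theorem rel_of_mover {Λ : Set ι} (hΛ : Λ.Nonempty) (hΛ' : Λᶜ.Nonempty) {A : Subgroup G} (hA : A ∈ AA O)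
    (hmv : ¬ A ≤ centralizer (EE ZJ (⨆ i : {i // i ∉ Λ}, Y i) : Set G)) :
    ∃ j, j ∉ Λ ∧ ∀ i, i ∉ Λ → Rel Y N i j := by
  set E := EE ZJ (⨆ i : {i // i ∉ Λ}, Y i) with hE
  obtain ⟨i₀, hi₀⟩ := hΛ'
  have d := h.dt hΛ
  rw [← hE] at d
  have hNE : ∀ i, i ∉ Λ → N i ≤ E := fun i hi => d.NE ⟨i, hi⟩
  have hYE : O ≤ normalizer (E : Set G) := (d.OY ⟨i₀, hi₀⟩).trans (d.YE ⟨i₀, hi₀⟩)
  have hoff := EK3.Lever.offd_of_AA (h.Eeab Λ hΛ) (h.EO Λ hΛ) hA (hA.2.1.trans hYE) hmv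
  obtain ⟨j, F, hFO, -, hFm, hFc⟩ := d.lever hA.2.1 hA.1 hoff
  exact ⟨j, j.2, fun i hi => h.rel_of (d.YE j) hFO hFm hFc (hNE i hi)⟩

omit [Finite G] in
/-- If `Y l` and `Y m` normalise `N l N m`, then `E_{lm} = N l N m ZJ`. -/
theorem EE_le_of_rel (ZY : ∀ i, ∀ y ∈ Y i, ∀ z ∈ ZJ, y * z * y⁻¹ ∈ N i ⊔ ZJ) {l m : ι} (h1 : Rel Y N l m)
    (h2 : Rel Y N m l) : EE ZJ (Y l ⊔ Y m) ≤ N l ⊔ N m ⊔ ZJ := by
  have hl : Y l ≤ normalizer ((N l ⊔ N m ⊔ ZJ : Subgroup G) : Set G) := le_norm_of_cj_le fun y hy => by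
    rw [cj_sup]
    refine sup_le ?_ ?_
    · have h2' : Y l ≤ normalizer ((N l ⊔ N m : Subgroup G) : Set G) := by
        unfold Rel at h2
        rwa [sup_comm (N m) (N l)] at h2
      rw [cj_eq_of_mem_normalizer (h2' hy)]
      exact le_sup_left
    · rintro _ ⟨z, hz, rfl⟩
      exact (sup_le_sup_right le_sup_left ZJ : N l ⊔ ZJ ≤ N l ⊔ N m ⊔ ZJ) (ZY l y hy z hz)
  have hm : Y m ≤ normalizer ((N l ⊔ N m ⊔ ZJ : Subgroup G) : Set G) := le_norm_of_cj_le fun y hy => by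
    rw [cj_sup]
    refine sup_le ?_ ?_
    · rw [cj_eq_of_mem_normalizer (h1 hy)]
      exact le_sup_left
    · rintro _ ⟨z, hz, rfl⟩
      exact (sup_le_sup_right le_sup_right ZJ : N m ⊔ ZJ ≤ N l ⊔ N m ⊔ ZJ) (ZY m y hy z hz)
  refine EE_le fun y hy => ?_
  have h4 := cj_mono y (le_sup_right (a := N l ⊔ N m) (b := ZJ))
  rwa [cj_eq_of_mem_normalizer (sup_le hl hm hy)] at h4

include h3 in
/-- **(2)** no element acts as the transposition `(l m)`. -/
theorem no_swap [Finite ι] (ZY : ∀ i, ∀ y ∈ Y i, ∀ z ∈ ZJ, y * z * y⁻¹ ∈ N i ⊔ ZJ) {A : Subgroup G} (hA : A ∈ AA O)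
    (hAN : ∀ i, A ≤ centralizer (N i : Set G)) {l m : ι} (hlm : l ≠ m)
    (hmv : ¬ A ≤ centralizer (EE ZJ (Y l ⊔ Y m) : Set G)) {g : G} {σ : Equiv.Perm ι} (s : Sg O Y N g σ)
    (sl : σ l = m) (sm : σ m = l) (so : ∀ i, i ≠ l → i ≠ m → σ i = i) : False := by
  by_cases hc : ∀ i, i ∈ Orb O Y N l
  · exact h.false_of_swap (fun i j => orb_orb (hc i) (hc j)) h3 hlm s sl sm so
  push Not at hc
  obtain ⟨n, hn⟩ := hc
  have hl : l ∈ Orb O Y N l := self_orb l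
  have hm : m ∈ Orb O Y N l := ⟨g, σ, s, sl⟩
  have hle : Y l ⊔ Y m ≤ ⨆ i : {i // i ∉ (Orb O Y N l)ᶜ}, Y i := by
    refine sup_le ?_ ?_
    · exact le_iSup (fun i : {i // i ∉ (Orb O Y N l)ᶜ} => Y i) ⟨l, fun h => h hl⟩
    · exact le_iSup (fun i : {i // i ∉ (Orb O Y N l)ᶜ} => Y i) ⟨m, fun h => h hm⟩
  obtain ⟨j, hj, hr⟩ := rel_of_mover h (Λ := (Orb O Y N l)ᶜ) ⟨n, hn⟩ ⟨l, fun h => h hl⟩ hA
    fun hc => hmv (hc.trans (centralizer_le (EE_mono hle)))
  rw [Set.notMem_compl_iff] at hj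
  have hall : ∀ i ∈ Orb O Y N l, ∀ k ∈ Orb O Y N l, Rel Y N i k := by
    intro i hi k hk
    obtain ⟨g', τ, t, rfl⟩ := orb_orb hj hk
    have h5 : τ⁻¹ i ∈ Orb O Y N l := mem_orb hi (sg_inv t)
    have h6 := t.rel (hr (τ⁻¹ i) fun h => h h5)
    rwa [CoreS.inv_r τ i] at h6
  refine hmv ?_
  have h7 := EE_le_of_rel h ZY (hall l hl m hm) (hall m hm l hl)
  have h8 : A ≤ centralizer (((N l ⊔ N m ⊔ ZJ : Subgroup G)) : Set G) := by
    rw [Subgroup.le_centralizer_iff]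
    refine sup_le (sup_le ?_ ?_) ?_
    · exact Subgroup.le_centralizer_iff.1 (hAN l)
    · exact Subgroup.le_centralizer_iff.1 (hAN m)
    · exact Subgroup.le_centralizer_iff.1 (hA.2.1.trans h.OZ)
  exact h8.trans (centralizer_le h7)

include DO NN h3 in
/-- **THEOREM U, (1) and (2).** -/
theorem main [Finite ι] (hO : O ≠ ⊥) (ZY : ∀ i, ∀ y ∈ Y i, ∀ z ∈ ZJ, y * z * y⁻¹ ∈ N i ⊔ ZJ) :
    ∃ A ∈ AA O, (∀ i, A ≤ centralizer (N i : Set G)) ∧
      ∃ l m, l ≠ m ∧ ¬ A ≤ centralizer (EE ZJ (Y l ⊔ Y m) : Set G) ∧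
        ∀ (g : G) (σ : Equiv.Perm ι), Sg O Y N g σ → σ l = m → σ m = l → (∀ i, i ≠ l → i ≠ m → σ i = i) → False := by
  obtain ⟨A, hA, hAN, l, m, hlm, hmv⟩ := exists_aa h DO NN h3 hO
  exact ⟨A, hA, hAN, l, m, hlm, hmv, fun _ _ s sl sm so => no_swap h h3 ZY hA hAN hlm hmv s sl sm so⟩

end main

/-- (2), group form: `B` is a maximal 2-subgroup of `X`, if `B` is one of `D`, `N_G(B)` permutes the `z n` by `Sg`-elements and
an element fixing all `z n` is in `D`. -/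
theorem le_of_syl [Finite G] [Finite ι] {B X : Subgroup G} {z : ι → Subgroup G} {l m : ι} (hlm : l ≠ m)
    (hperm : ∀ g ∈ normalizer (B : Set G), ∃ σ : Equiv.Perm ι, Sg O Y N g σ ∧ ∀ n, cj g (z n) = z (σ n))
    (hinj : Function.Injective z)
    (hfix : ∀ g ∈ X, ∀ n, n ≠ l → n ≠ m → cj g (z n) = z n)
    (hD : ∀ g ∈ X, g ∈ normalizer (B : Set G) → (∀ n, cj g (z n) = z n) → g ∈ D)
    (syl : ∀ R : Subgroup G, R ≤ D → IsPGroup 2 R → B ≤ R → R ≤ B)
    (hns : ∀ (g : G) (σ : Equiv.Perm ι), Sg O Y N g σ → σ l = m → σ m = l → (∀ i, i ≠ l → i ≠ m → σ i = i) → False)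
    {R : Subgroup G} (hRX : R ≤ X) (hR : IsPGroup 2 R) (hBR : B ≤ R) : R ≤ B := by
  have : Fact (Nat.Prime 2) := ⟨Nat.prime_two⟩
  have key : R ⊓ normalizer (B : Set G) ≤ D := by
    intro g hg
    obtain ⟨σ, s, hz⟩ := hperm g hg.2
    have hf : ∀ n, n ≠ l → n ≠ m → σ n = n := fun n h1 h2 => hinj (by rw [← hz, hfix g (hRX hg.1) n h1 h2])
    have hlm' : σ l = l ∨ σ l = m := by
      by_contra hcon
      push Not at hcon
      have := hf (σ l) hcon.1 hcon.2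
      exact hcon.1 (σ.injective this)
    rcases hlm' with e | e
    · have em : σ m = m := by
        by_contra hne
        have h1 : σ m ≠ l := fun h2 => hlm (σ.injective (e.trans h2.symm))
        have := hf (σ m) h1 hne
        exact hne (σ.injective this)
      refine hD g (hRX hg.1) hg.2 fun n => ?_
      rw [hz]
      by_cases h1 : n = l
      · rw [h1, e]
      by_cases h2 : n = m
      · rw [h2, em]
      rw [hf n h1 h2]
    · have em : σ m = l := by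
        by_contra hne
        have h1 : σ m ≠ m := fun h2 => hlm (σ.injective (e.trans h2.symm))
        have := hf (σ m) hne h1
        exact h1 (σ.injective this)
      exact (hns g σ s e em hf).elim
  have h1 : R ⊓ normalizer (B : Set G) ≤ B :=
    syl _ key (hR.to_le inf_le_left) (le_inf hBR Subgroup.le_normalizer)
  -- normalisers grow in `R`
  by_contra hne
  have hlt : B < R := lt_of_le_of_ne hBR fun e => hne (by rw [← e])
  have hlt' : B.subgroupOf R < ⊤ := by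
    rw [lt_top_iff_ne_top]
    intro e
    exact hne (Subgroup.subgroupOf_eq_top.1 e)
  have hnil : Group.IsNilpotent R := hR.isNilpotent
  have hnc := Group.normalizerCondition_of_isNilpotent (G := R) (B.subgroupOf R) hlt'
  obtain ⟨x, hx, hxn⟩ := Set.exists_of_ssubset hnc
  refine hxn ?_
  have hxn' : (x : G) ∈ normalizer (B : Set G) := by
    rw [SetLike.mem_coe, mem_normalizer_iff] at hx
    rw [mem_normalizer_iff]
    intro y
    constructor
    · intro hy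
      have := (hx ⟨y, hBR hy⟩).1 hy
      exact this
    · intro hy
      have hyR : y ∈ R := by
        have := hBR hy
        have h2 := mul_mem (mul_mem (inv_mem x.2) this) x.2
        have e : (x : G)⁻¹ * ((x : G) * y * (x : G)⁻¹) * x = y := by group
        rwa [e] at h2
      exact (hx ⟨y, hyR⟩).2 hy
  exact h1 ⟨x.2, hxn'⟩

end Cfsg.Agent.Omega.ESym.ThU

end

section


/-!
# THEOREM S''T: THEOREM S'' without the hypothesis `sw`

* `Cr` : the hypotheses of `Core` without `sw`;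
* **`Cr.local_or`** : some nontrivial 2-group is normalised by all the `Y j`, or some permutation `τ` of the indices, one
  cycle, commutes with all symmetries;
* `eq_of_fix`, `comm_of` : then a symmetry with a fixed point is trivial, and all symmetries commute.
-/

set_option autoImplicit false
set_option linter.unusedSectionVars false

namespace Cfsg.Agent.Omega.ESym.CoreT

open Subgroup Cfsg Cfsg.Agent.ZN Cfsg.Agent.ZN.ChoiceBase
open Cfsg.Agent.Omega.NO3S.EThree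
open Cfsg.Agent.Omega.NO3S.EThree.ExactA (eab_mono eab_sup eab_iff)
open Cfsg.Agent.Omega.EK3.Rank (NoOn mem_inf_of_mem_AA jj_inf_le offd_of_mem)
open Cfsg.Agent.Omega.EK3.Lever (Dt)
open Cfsg.Agent.Omega.ESym.CoreS
open scoped commutatorElement

universe u

variable {G : Type u} [Group G]

/-- **The hypotheses of THEOREM S''T.** -/
structure Cr {ι : Type*} (O D ZJ : Subgroup G) (Y N : ι → Subgroup G) : Prop where
  two : IsPGroup 2 O
  OY : ∀ i, O ≤ Y i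
  OZ : O ≤ centralizer (ZJ : Set G)
  DY : ∀ i, D ≤ Y i
  /-- at least three light pairs -/
  three : ∀ i j : ι, ∃ l, l ≠ i ∧ l ≠ j
  ne : Nonempty ι
  eab : ∀ I : Set ι, I ≠ Set.univ → IsElementaryAbelian 2 (EI ZJ Y I : Subgroup G) ∧ EI ZJ Y I ≤ O
  NE : ∀ i, N i ≤ EI ZJ Y {i}
  YN : ∀ i, Y i ≤ normalizer (N i : Set G)
  YQ : ∀ i, Y i ≤ normalizer ((O ⊓ centralizer (N i : Set G) : Subgroup G) : Set G)
  no : ∀ i, NoOn O (N i)
  gen : ∀ j, ∀ K : Subgroup G, K ≤ Y j → Y j ≤ normalizer (K : Set G) → ¬ K ⊓ O ≤ centralizer (N j : Set G) →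
    Y j ≤ K ⊔ D
  tr : ∀ i j, ∃ g, ∃ σ : Equiv.Perm ι, Sy O Y N g σ ∧ σ i = j

section core

variable [Finite G] {ι : Type*} {O D ZJ : Subgroup G} {Y N : ι → Subgroup G} (h : Cr O D ZJ Y N)
include h

theorem Cr.N_le_EI {I : Set ι} {i : ι} (hi : i ∈ I) : N i ≤ EI ZJ Y I :=
  (h.NE i).trans (EI_mono (Set.singleton_subset_iff.2 hi))

theorem Cr.ne_univ (i : ι) : ({i} : Set ι) ≠ Set.univ := by
  obtain ⟨l, hl, -⟩ := h.three i i
  intro e
  have : l ∈ ({i} : Set ι) := e ▸ Set.mem_univ l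
  exact hl this

theorem Cr.N_eab (i : ι) : IsElementaryAbelian 2 (N i : Subgroup G) :=
  eab_mono (h.eab _ (h.ne_univ i)).1 (h.NE i)

theorem Cr.N_le_O (i : ι) : N i ≤ O := (h.NE i).trans (h.eab _ (h.ne_univ i)).2

/-- (1) either the conclusion, or `J(O)` moves every `N j` -/
theorem Cr.moves (hO : O ≠ ⊥) :
    (∃ R : Subgroup G, R ≠ ⊥ ∧ IsPGroup 2 R ∧ ∀ j, Y j ≤ normalizer (R : Set G)) ∨
      ∀ j, ∃ A ∈ AA O, ¬ A ≤ centralizer (N j : Set G) := by
  by_cases hc : ∀ j, ∃ A ∈ AA O, ¬ A ≤ centralizer (N j : Set G)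
  · exact Or.inr hc
  left
  push Not at hc
  obtain ⟨j, hj⟩ := hc
  have e : jj O = jj (O ⊓ centralizer (N j : Set G)) := by
    refine le_antisymm ?_ (jj_inf_le (h.N_eab j) (h.N_le_O j) (h.no j))
    rw [ChoiceBase.jj_eq O]
    exact sSup_le fun A hA => ChoiceBase.le_jj (mem_inf_of_mem_AA (h.N_eab j) (h.N_le_O j) (h.no j) hA (hj A hA))
  have h1 : Y j ≤ normalizer (jj O : Set G) := by
    rw [e]
    exact (h.YQ j).trans (jj_norm _)
  refine ⟨jj O, jj_ne_bot h.two hO, h.two.to_le (ChoiceBase.jj_le O), fun i => ?_⟩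
  obtain ⟨g, σ, hg, hσ⟩ := h.tr j i
  have h2 := cj_mono g h1
  rwa [hg.Y_eq, hσ, cj_normalizer, ← jj_cj, hg.O_eq] at h2

/-- (2), (3): for every proper nonempty `I` some `j ∈ I` has `Y j ≤ N(N i N j)` for all `i ∈ I`. -/
theorem Cr.step (hm : ∀ j, ∃ A ∈ AA O, ¬ A ≤ centralizer (N j : Set G)) {I : Set ι} (hI : I ≠ Set.univ)
    (hne : I.Nonempty) : ∃ j ∈ I, ∀ i ∈ I, Y j ≤ normalizer ((N i ⊔ N j : Subgroup G) : Set G) := by
  obtain ⟨j0, hj0⟩ := hne
  obtain ⟨A, hA, hAm⟩ := hm j0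
  obtain ⟨hE, hEO⟩ := h.eab I hI
  have hOE : O ≤ normalizer (EI ZJ Y I : Set G) := (h.OY j0).trans (EI_norm hj0)
  have hoff : Offd (EI ZJ Y I) A :=
    offd_of_mem hE hEO hA (hA.2.1.trans hOE) (h.N_le_EI hj0) hAm
  have hdt : Dt O (EI ZJ Y I) ZJ (fun i : I => Y i) (fun i : I => N i) := by
    refine ⟨(eab_iff.1 hE).1, fun i => h.OY i, fun i => EI_norm i.2, h.OZ, le_rfl, fun i => h.N_le_EI i.2,
      fun i => h.YN i, fun i => h.YQ i, fun i F hF hFO => h.no i F hF hFO⟩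
  obtain ⟨j, F, hFO, hFe, hFm, hF⟩ := hdt.lever hA.2.1 hA.1 hoff
  refine ⟨j, j.2, fun i hi => ?_⟩
  -- the normal closure of `F` in `Y j`
  let K : Subgroup G := ⨆ y : Y j, cj (y : G) F
  have hFY : F ≤ Y j := hFO.trans (h.OY j)
  have hFK : F ≤ K := by
    have := le_iSup (fun y : Y j => cj (y : G) F) 1
    simpa only [OneMemClass.coe_one, cj_one] using this
  have hKY : K ≤ Y j := iSup_le fun y => by
    have := cj_mono (y : G) hFY
    rwa [cj_eq_of_mem_normalizer (Subgroup.le_normalizer y.2)] at this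
  have hYK : Y j ≤ normalizer (K : Set G) := by
    intro y hy
    refine mem_norm_of_le ?_
    change cj y (⨆ x : Y j, cj (x : G) F) ≤ _
    rw [cj, Subgroup.map_iSup]
    refine iSup_le fun x => ?_
    have e : Subgroup.map (MulAut.conj y).toMonoidHom (cj (x : G) F) = cj (y * x : G) F := cj_cj y x F
    rw [e]
    exact le_iSup (fun x : Y j => cj (x : G) F) ⟨y * x, mul_mem hy x.2⟩
  have hKm : ¬ K ⊓ O ≤ centralizer (N j : Set G) := fun hc => hFm ((le_inf hFK hFO).trans hc)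
  have hKN : K ≤ normalizer ((N i ⊔ N j : Subgroup G) : Set G) := by
    refine iSup_le fun y => ?_
    intro x hx
    refine mem_norm_of_le ?_
    rw [cj, Subgroup.map_sup]
    have hxY : x ∈ Y j := hKY (le_iSup (fun y : Y j => cj (y : G) F) y hx)
    refine sup_le ?_ ?_
    · rintro _ ⟨n, hn, rfl⟩
      change x * n * x⁻¹ ∈ _
      -- `x = y f y⁻¹`
      obtain ⟨f, hf, e⟩ := hx
      have e' : x = (y : G) * f * (y : G)⁻¹ := by rw [← e]; rfl
      have hnE : n ∈ EI ZJ Y I := h.N_le_EI hi hn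
      have hn' : (y : G)⁻¹ * n * y ∈ EI ZJ Y I := by
        have := (mem_normalizer_iff.1 (EI_norm j.2 (inv_mem y.2)) n).1 hnE
        rwa [inv_inv] at this
      have h1 := hF _ hn' f hf
      have h2 : (y : G) * ⁅(y : G)⁻¹ * n * y, f⁆ * (y : G)⁻¹ ∈ N j :=
        (mem_normalizer_iff.1 (h.YN j y.2) _).1 h1
      have h3 : ⁅n, x⁆ = (y : G) * ⁅(y : G)⁻¹ * n * y, f⁆ * (y : G)⁻¹ := by
        rw [e']
        simp only [commutatorElement_def]
        group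
      have h4 : x * n * x⁻¹ = ⁅n, x⁆⁻¹ * n := by
        simp only [commutatorElement_def]
        group
      rw [h4]
      exact mul_mem (inv_mem (mem_sup_right (by rw [h3]; exact h2))) (mem_sup_left hn)
    · have h1 := cj_eq_of_mem_normalizer (h.YN j hxY)
      exact (le_of_eq h1).trans le_sup_right
  have hDN : D ≤ normalizer ((N i ⊔ N j : Subgroup G) : Set G) := by
    intro x hx
    refine mem_norm_of_le ?_
    rw [cj, Subgroup.map_sup]
    exact sup_le_sup (cj_eq_of_mem_normalizer (h.YN i (h.DY i hx))).le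
      (cj_eq_of_mem_normalizer (h.YN j (h.DY j hx))).le
  exact (h.gen j K hKY hYK hKm).trans (sup_le hKN hDN)


/-- a subgroup normalised by all `Y j` if all pairs are related -/
theorem Cr.all (hm : ∀ j, ∃ A ∈ AA O, ¬ A ≤ centralizer (N j : Set G))
    (hall : ∀ i k, Y k ≤ normalizer ((N i ⊔ N k : Subgroup G) : Set G)) :
    ∃ R : Subgroup G, R ≠ ⊥ ∧ IsPGroup 2 R ∧ ∀ j, Y j ≤ normalizer (R : Set G) := by
  obtain ⟨l⟩ := h.ne
  refine ⟨⨆ i, N i, ?_, h.two.to_le (iSup_le h.N_le_O), fun k => ?_⟩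
  · obtain ⟨A, -, hA⟩ := hm l
    intro e
    apply hA
    have h1 : N l = ⊥ := eq_bot_iff.2 ((le_iSup N l).trans e.le)
    rw [h1]
    intro x _
    rw [mem_centralizer_iff]
    intro y hy
    rw [SetLike.mem_coe, mem_bot] at hy
    rw [hy, one_mul, mul_one]
  · intro x hx
    refine mem_norm_of_le ?_
    rw [cj, Subgroup.map_iSup]
    refine iSup_le fun i => ?_
    have h1 : cj x (N i) ≤ N i ⊔ N k := by
      refine (cj_mono x (le_sup_left (b := N k))).trans ?_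
      exact (cj_eq_of_mem_normalizer (hall i k hx)).le
    exact h1.trans (sup_le (le_iSup N i) (le_iSup N k))

/-- **THEOREM S''T.** -/
theorem Cr.local_or [Finite ι] (hO : O ≠ ⊥) :
    (∃ R : Subgroup G, R ≠ ⊥ ∧ IsPGroup 2 R ∧ ∀ j, Y j ≤ normalizer (R : Set G)) ∨
      ∃ τ : Equiv.Perm ι, (∀ i j, ∃ n : ℕ, (τ ^ n) i = j) ∧
        ∀ g, ∀ σ : Equiv.Perm ι, Sy O Y N g σ → ∀ i, σ (τ i) = τ (σ i) := by
  rcases h.moves hO with h1 | hm
  · exact Or.inl h1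
  set R : ι → ι → Prop := fun j i => Y j ≤ normalizer ((N i ⊔ N j : Subgroup G) : Set G) with hRdef
  have hcj : ∀ {g : G} {σ : Equiv.Perm ι}, Sy O Y N g σ → ∀ {j i}, R j i → R (σ j) (σ i) := by
    intro g σ hg j i hr
    exact hg.conj_rel hr
  have hcj' : ∀ {g : G} {σ : Equiv.Perm ι}, Sy O Y N g σ → ∀ {j i}, R (σ j) (σ i) → R j i := by
    intro g σ hg j i hr
    have h1 := hcj hg.inv hr
    rwa [inv_l, inv_l] at h1
  have hstep : ∀ {I : Set ι}, I ≠ Set.univ → I.Nonempty → ∃ j ∈ I, ∀ i ∈ I, R j i := fun hI hne => h.step hm hI hne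
  by_cases hall : ∀ j i, R j i
  · exact Or.inl (h.all hm fun i k => hall k i)
  right
  push Not at hall
  obtain ⟨j₀, i₀, h0⟩ := hall
  -- every point misses some point
  have f1 : ∀ j, ∃ i, ¬ R j i := by
    intro j
    obtain ⟨g, σ, hg, hσ⟩ := h.tr j₀ j
    refine ⟨σ i₀, fun hr => h0 ?_⟩
    rw [← hσ] at hr
    exact hcj' hg hr
  -- every point is missed by some point which misses nothing else
  have f2 : ∀ l, ∃ j, ∀ i, i ≠ l → R j i := by
    intro l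
    obtain ⟨l', hl', -⟩ := h.three l l
    obtain ⟨j, -, hj⟩ := hstep (I := {l}ᶜ) (fun e => by
      have : l ∈ ({l}ᶜ : Set ι) := e ▸ Set.mem_univ l
      exact this rfl) ⟨l', hl'⟩
    exact ⟨j, fun i hi => hj i hi⟩
  -- uniqueness
  have f3 : ∀ j i i', ¬ R j i → ¬ R j i' → i = i' := by
    intro j i i' hi hi'
    obtain ⟨l⟩ := h.ne
    obtain ⟨j', hj'⟩ := f2 l
    obtain ⟨g, σ, hg, hσ⟩ := h.tr j' j
    have key : ∀ i, ¬ R j i → σ⁻¹ i = l := by
      intro i hi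
      by_contra hne
      apply hi
      have h1 := hcj hg (hj' _ hne)
      rwa [hσ, inv_r σ i] at h1
    have h2 := (key i hi).trans (key i' hi').symm
    exact (σ⁻¹).injective h2
  choose t ht using f1
  have hsurj : Function.Surjective t := by
    intro l
    obtain ⟨j, hj⟩ := f2 l
    refine ⟨j, ?_⟩
    by_contra hne
    exact ht j (hj _ hne)
  have hbij : Function.Bijective t := Finite.injective_iff_bijective.1 (Finite.injective_iff_surjective.2 hsurj)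
  refine ⟨Equiv.ofBijective t hbij, fun i j => ?_, fun g σ hg i => ?_⟩
  · set τ : Equiv.Perm ι := Equiv.ofBijective t hbij with hτ
    have hτt : ∀ i, τ i = t i := fun i => rfl
    by_contra hcon
    push Not at hcon
    obtain ⟨k, hk, hkr⟩ := hstep (I := {x | ∃ n : ℕ, (τ ^ n) i = x}) (fun e => by
      have : j ∈ {x | ∃ n : ℕ, (τ ^ n) i = x} := e ▸ Set.mem_univ j
      obtain ⟨n, hn⟩ := this
      exact hcon n hn) ⟨i, 0, rfl⟩
    obtain ⟨n, hn⟩ := hk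
    refine ht k (hkr (t k) ⟨n + 1, ?_⟩)
    rw [pow_succ', Equiv.Perm.mul_apply, hn, hτt]
  · change σ (t i) = t (σ i)
    exact f3 (σ i) _ _ (fun hr => ht i (hcj' hg hr)) (ht (σ i))

end core

section reg

variable {ι : Type*} {P : Equiv.Perm ι → Prop} {τ : Equiv.Perm ι}

/-- a permutation commuting with a transitive `τ` which has a fixed point is trivial -/
theorem eq_of_fix (hτ : ∀ i j, ∃ n : ℕ, (τ ^ n) i = j) {σ : Equiv.Perm ι} (hσ : ∀ i, σ (τ i) = τ (σ i)) {i : ι}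
    (hi : σ i = i) (j : ι) : σ j = j := by
  obtain ⟨n, rfl⟩ := hτ i j
  induction n with
  | zero => exact hi
  | succ n ih => rw [pow_succ', Equiv.Perm.mul_apply, hσ, ih]

theorem comm_pow {σ : Equiv.Perm ι} (hσ : ∀ i, σ (τ i) = τ (σ i)) (n : ℕ) (i : ι) :
    σ ((τ ^ n) i) = (τ ^ n) (σ i) := by
  induction n with
  | zero => rfl
  | succ n ih => rw [pow_succ', Equiv.Perm.mul_apply, hσ, ih, Equiv.Perm.mul_apply]

/-- the permutations commuting with a transitive `τ` commute -/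
theorem comm_of (hτ : ∀ i j, ∃ n : ℕ, (τ ^ n) i = j) {σ σ' : Equiv.Perm ι} (hσ : ∀ i, σ (τ i) = τ (σ i))
    (hσ' : ∀ i, σ' (τ i) = τ (σ' i)) (i : ι) : σ (σ' i) = σ' (σ i) := by
  obtain ⟨a, ha⟩ := hτ i (σ i)
  obtain ⟨b, hb⟩ := hτ i (σ' i)
  rw [← hb, comm_pow hσ, ← ha, comm_pow hσ', ← hb, ← Equiv.Perm.mul_apply, ← Equiv.Perm.mul_apply, ← pow_add,
    ← pow_add, add_comm]

end reg

end Cfsg.Agent.Omega.ESym.CoreT

end

section


/-!
# THEOREM S''T (helper164 #27334): the abstract core of THEOREM S'' without the hypothesis `sw`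

* `CoreR` : the hypotheses of `CoreS.Core` without `sw`;
* `CoreR.step` : for every proper nonempty `I` some `j ∈ I` has `Y j ≤ N(N i N j)` for all `i ∈ I`;
* `CoreR.local_of_fix` : if some symmetry fixes one pair and moves another one, the `Y j` normalise a common nontrivial
  2-group;
* `CoreR.local_or_cyc` : or there is a permutation `τ` of the pairs, transitive, which commutes with all symmetries;
  `CoreR.local_or_comm` : or the symmetries commute and act semiregularly.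
-/

set_option autoImplicit false
set_option linter.unusedSectionVars false
set_option linter.dupNamespace false

namespace Cfsg.Agent.Omega.ESym.CoreR

open Subgroup Cfsg Cfsg.Agent.ZN Cfsg.Agent.ZN.ChoiceBase
open Cfsg.Agent.Omega.NO3S.EThree
open Cfsg.Agent.Omega.NO3S.EThree.ExactA (eab_mono eab_sup eab_iff)
open Cfsg.Agent.Omega.EK3.Rank (NoOn mem_inf_of_mem_AA jj_inf_le offd_of_mem)
open Cfsg.Agent.Omega.EK3.Lever (Dt)
open Cfsg.Agent.Omega.ESym.CoreS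
open scoped commutatorElement

universe u

variable {G : Type u} [Group G]

/-- **The hypotheses of THEOREM S'' without `sw`.** -/
structure CoreR {ι : Type*} (O D ZJ : Subgroup G) (Y N : ι → Subgroup G) : Prop where
  two : IsPGroup 2 O
  OY : ∀ i, O ≤ Y i
  OZ : O ≤ centralizer (ZJ : Set G)
  DY : ∀ i, D ≤ Y i
  /-- at least three light pairs -/
  three : ∀ i j : ι, ∃ l, l ≠ i ∧ l ≠ j
  ne : Nonempty ι
  /-- `E_I` is elementary abelian and `≤ O` for proper `I` -/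
  eab : ∀ I : Set ι, I ≠ Set.univ → IsElementaryAbelian 2 (EI ZJ Y I : Subgroup G) ∧ EI ZJ Y I ≤ O
  NE : ∀ i, N i ≤ EI ZJ Y {i}
  YN : ∀ i, Y i ≤ normalizer (N i : Set G)
  YQ : ∀ i, Y i ≤ normalizer ((O ⊓ centralizer (N i : Set G) : Subgroup G) : Set G)
  no : ∀ i, NoOn O (N i)
  /-- QP (LEMMA G'': some subgroup of `K ⊓ O` moves `N j`) -/
  gen : ∀ j, ∀ K : Subgroup G, K ≤ Y j → Y j ≤ normalizer (K : Set G) → ¬ K ⊓ O ≤ centralizer (N j : Set G) →
    Y j ≤ K ⊔ D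
  tr : ∀ i j, ∃ g, ∃ σ : Equiv.Perm ι, Sy O Y N g σ ∧ σ i = j

section core

variable [Finite G] {ι : Type*} {O D ZJ : Subgroup G} {Y N : ι → Subgroup G} (h : CoreR O D ZJ Y N)
include h

theorem CoreR.N_le_EI {I : Set ι} {i : ι} (hi : i ∈ I) : N i ≤ EI ZJ Y I :=
  (h.NE i).trans (EI_mono (Set.singleton_subset_iff.2 hi))

theorem CoreR.ne_univ (i : ι) : ({i} : Set ι) ≠ Set.univ := by
  obtain ⟨l, hl, -⟩ := h.three i i
  intro e
  have : l ∈ ({i} : Set ι) := e ▸ Set.mem_univ l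
  exact hl this

theorem CoreR.N_eab (i : ι) : IsElementaryAbelian 2 (N i : Subgroup G) :=
  eab_mono (h.eab _ (h.ne_univ i)).1 (h.NE i)

theorem CoreR.N_le_O (i : ι) : N i ≤ O := (h.NE i).trans (h.eab _ (h.ne_univ i)).2

/-- (1) either the conclusion, or `J(O)` moves every `N j` -/
theorem CoreR.moves (hO : O ≠ ⊥) :
    (∃ R : Subgroup G, R ≠ ⊥ ∧ IsPGroup 2 R ∧ ∀ j, Y j ≤ normalizer (R : Set G)) ∨
      ∀ j, ∃ A ∈ AA O, ¬ A ≤ centralizer (N j : Set G) := by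
  by_cases hc : ∀ j, ∃ A ∈ AA O, ¬ A ≤ centralizer (N j : Set G)
  · exact Or.inr hc
  left
  push Not at hc
  obtain ⟨j, hj⟩ := hc
  have e : jj O = jj (O ⊓ centralizer (N j : Set G)) := by
    refine le_antisymm ?_ (jj_inf_le (h.N_eab j) (h.N_le_O j) (h.no j))
    rw [ChoiceBase.jj_eq O]
    exact sSup_le fun A hA => ChoiceBase.le_jj (mem_inf_of_mem_AA (h.N_eab j) (h.N_le_O j) (h.no j) hA (hj A hA))
  have h1 : Y j ≤ normalizer (jj O : Set G) := by
    rw [e]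
    exact (h.YQ j).trans (jj_norm _)
  refine ⟨jj O, jj_ne_bot h.two hO, h.two.to_le (ChoiceBase.jj_le O), fun i => ?_⟩
  obtain ⟨g, σ, hg, hσ⟩ := h.tr j i
  have h2 := cj_mono g h1
  rwa [hg.Y_eq, hσ, cj_normalizer, ← jj_cj, hg.O_eq] at h2

/-- (2), (3): for every proper nonempty `I` some `j ∈ I` has `Y j ≤ N(N i N j)` for all `i ∈ I`. -/
theorem CoreR.step (hm : ∀ j, ∃ A ∈ AA O, ¬ A ≤ centralizer (N j : Set G)) {I : Set ι} (hI : I ≠ Set.univ)
    (hne : I.Nonempty) : ∃ j ∈ I, ∀ i ∈ I, Y j ≤ normalizer ((N i ⊔ N j : Subgroup G) : Set G) := by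
  obtain ⟨j0, hj0⟩ := hne
  obtain ⟨A, hA, hAm⟩ := hm j0
  obtain ⟨hE, hEO⟩ := h.eab I hI
  have hOE : O ≤ normalizer (EI ZJ Y I : Set G) := (h.OY j0).trans (EI_norm hj0)
  have hoff : Offd (EI ZJ Y I) A :=
    offd_of_mem hE hEO hA (hA.2.1.trans hOE) (h.N_le_EI hj0) hAm
  have hdt : Dt O (EI ZJ Y I) ZJ (fun i : I => Y i) (fun i : I => N i) := by
    refine ⟨(eab_iff.1 hE).1, fun i => h.OY i, fun i => EI_norm i.2, h.OZ, le_rfl, fun i => h.N_le_EI i.2,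
      fun i => h.YN i, fun i => h.YQ i, fun i F hF hFO => h.no i F hF hFO⟩
  obtain ⟨j, F, hFO, hFe, hFm, hF⟩ := hdt.lever hA.2.1 hA.1 hoff
  refine ⟨j, j.2, fun i hi => ?_⟩
  let K : Subgroup G := ⨆ y : Y j, cj (y : G) F
  have hFY : F ≤ Y j := hFO.trans (h.OY j)
  have hFK : F ≤ K := by
    have := le_iSup (fun y : Y j => cj (y : G) F) 1
    simpa only [OneMemClass.coe_one, cj_one] using this
  have hKY : K ≤ Y j := iSup_le fun y => by
    have := cj_mono (y : G) hFY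
    rwa [cj_eq_of_mem_normalizer (Subgroup.le_normalizer y.2)] at this
  have hYK : Y j ≤ normalizer (K : Set G) := by
    intro y hy
    refine mem_norm_of_le ?_
    change cj y (⨆ x : Y j, cj (x : G) F) ≤ _
    rw [cj, Subgroup.map_iSup]
    refine iSup_le fun x => ?_
    have e : Subgroup.map (MulAut.conj y).toMonoidHom (cj (x : G) F) = cj (y * x : G) F := cj_cj y x F
    rw [e]
    exact le_iSup (fun x : Y j => cj (x : G) F) ⟨y * x, mul_mem hy x.2⟩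
  have hKm : ¬ K ⊓ O ≤ centralizer (N j : Set G) := fun hc => hFm ((le_inf hFK hFO).trans hc)
  have hKN : K ≤ normalizer ((N i ⊔ N j : Subgroup G) : Set G) := by
    refine iSup_le fun y => ?_
    intro x hx
    refine mem_norm_of_le ?_
    rw [cj, Subgroup.map_sup]
    have hxY : x ∈ Y j := hKY (le_iSup (fun y : Y j => cj (y : G) F) y hx)
    refine sup_le ?_ ?_
    · rintro _ ⟨n, hn, rfl⟩
      change x * n * x⁻¹ ∈ _
      obtain ⟨f, hf, e⟩ := hx
      have e' : x = (y : G) * f * (y : G)⁻¹ := by rw [← e]; rfl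
      have hnE : n ∈ EI ZJ Y I := h.N_le_EI hi hn
      have hn' : (y : G)⁻¹ * n * y ∈ EI ZJ Y I := by
        have := (mem_normalizer_iff.1 (EI_norm j.2 (inv_mem y.2)) n).1 hnE
        rwa [inv_inv] at this
      have h1 := hF _ hn' f hf
      have h2 : (y : G) * ⁅(y : G)⁻¹ * n * y, f⁆ * (y : G)⁻¹ ∈ N j :=
        (mem_normalizer_iff.1 (h.YN j y.2) _).1 h1
      have h3 : ⁅n, x⁆ = (y : G) * ⁅(y : G)⁻¹ * n * y, f⁆ * (y : G)⁻¹ := by
        rw [e']
        simp only [commutatorElement_def]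
        group
      have h4 : x * n * x⁻¹ = ⁅n, x⁆⁻¹ * n := by
        simp only [commutatorElement_def]
        group
      rw [h4]
      exact mul_mem (inv_mem (mem_sup_right (by rw [h3]; exact h2))) (mem_sup_left hn)
    · have h1 := cj_eq_of_mem_normalizer (h.YN j hxY)
      exact (le_of_eq h1).trans le_sup_right
  have hDN : D ≤ normalizer ((N i ⊔ N j : Subgroup G) : Set G) := by
    intro x hx
    refine mem_norm_of_le ?_
    rw [cj, Subgroup.map_sup]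
    exact sup_le_sup (cj_eq_of_mem_normalizer (h.YN i (h.DY i hx))).le
      (cj_eq_of_mem_normalizer (h.YN j (h.DY j hx))).le
  exact (h.gen j K hKY hYK hKm).trans (sup_le hKN hDN)

/-- `j → i` : `Y j ≤ N(N i N j)` -/
def Rl (Y N : ι → Subgroup G) (j i : ι) : Prop := Y j ≤ normalizer ((N i ⊔ N j : Subgroup G) : Set G)

omit h [Finite G] in
theorem rl_iff {g : G} {σ : Equiv.Perm ι} (hg : Sy O Y N g σ) {j i : ι} :
    Rl Y N (σ j) (σ i) ↔ Rl Y N j i := by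
  constructor
  · intro hr
    have h1 := hg.inv.conj_rel (i := σ i) (j := σ j) hr
    rwa [CoreS.inv_l σ i, CoreS.inv_l σ j] at h1
  · intro hr
    exact hg.conj_rel hr

/-- every `j` misses at most one point -/
theorem CoreR.miss (hm : ∀ j, ∃ A ∈ AA O, ¬ A ≤ centralizer (N j : Set G)) :
    ∀ j a b, ¬ Rl Y N j a → ¬ Rl Y N j b → a = b := by
  obtain ⟨l⟩ := h.ne
  obtain ⟨l', hl', -⟩ := h.three l l
  obtain ⟨j₀, -, hj⟩ := h.step hm (I := {l}ᶜ) (fun e => by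
    have : l ∈ ({l}ᶜ : Set ι) := e ▸ Set.mem_univ l
    exact this rfl) ⟨l', hl'⟩
  have h0 : ∀ a, ¬ Rl Y N j₀ a → a = l := fun a ha => by
    by_contra hal
    exact ha (hj a hal)
  intro j a b ha hb
  obtain ⟨g, σ, hg, hσ⟩ := h.tr j j₀
  have h1 : ∀ c, ¬ Rl Y N j c → σ c = l := fun c hc => h0 _ fun hr => hc (by
    rw [← hσ] at hr
    exact (rl_iff hg).1 hr)
  exact σ.injective ((h1 a ha).trans (h1 b hb).symm)

/-- the end: one `j → i` for all `i` -/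
theorem CoreR.local_of_all (hm : ∀ j, ∃ A ∈ AA O, ¬ A ≤ centralizer (N j : Set G)) {j : ι}
    (hall : ∀ i, Rl Y N j i) :
    ∃ R : Subgroup G, R ≠ ⊥ ∧ IsPGroup 2 R ∧ ∀ j, Y j ≤ normalizer (R : Set G) := by
  have hall' : ∀ i k, Y k ≤ normalizer ((N i ⊔ N k : Subgroup G) : Set G) := by
    intro i k
    obtain ⟨g, σ, hg, hσ⟩ := h.tr j k
    have h1 := hg.conj_rel (hall (σ⁻¹ i))
    rwa [inv_r σ i, hσ] at h1
  refine ⟨⨆ i, N i, ?_, h.two.to_le (iSup_le h.N_le_O), fun k => ?_⟩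
  · obtain ⟨A, -, hA⟩ := hm j
    intro e
    apply hA
    have h1 : N j = ⊥ := eq_bot_iff.2 ((le_iSup N j).trans e.le)
    rw [h1]
    intro x _
    rw [mem_centralizer_iff]
    intro y hy
    rw [SetLike.mem_coe, mem_bot] at hy
    rw [hy, one_mul, mul_one]
  · intro x hx
    refine mem_norm_of_le ?_
    rw [cj, Subgroup.map_iSup]
    refine iSup_le fun i => ?_
    have h1 : cj x (N i) ≤ N i ⊔ N k := by
      refine (cj_mono x (le_sup_left (b := N k))).trans ?_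
      exact (cj_eq_of_mem_normalizer (hall' i k hx)).le
    exact h1.trans (sup_le (le_iSup N i) (le_iSup N k))

/-- **one symmetry which fixes a pair and moves another one is enough.** -/
theorem CoreR.local_of_fix (hO : O ≠ ⊥)
    (sw : ∃ g, ∃ σ : Equiv.Perm ι, Sy O Y N g σ ∧ ∃ i₀ j₀, σ i₀ = i₀ ∧ σ j₀ ≠ j₀) :
    ∃ R : Subgroup G, R ≠ ⊥ ∧ IsPGroup 2 R ∧ ∀ j, Y j ≤ normalizer (R : Set G) := by
  rcases h.moves hO with h1 | hm
  · exact h1
  obtain ⟨g, σ, hg, i₀, j₀, hi, hj⟩ := sw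
  obtain ⟨j, hjI, hj'⟩ := h.step hm (I := {l | σ l = l}) (fun e => by
    have : j₀ ∈ {l | σ l = l} := e ▸ Set.mem_univ j₀
    exact hj this) ⟨i₀, hi⟩
  refine h.local_of_all hm (j := j) fun i => ?_
  by_contra hc
  have h2 : ¬ Rl Y N j (σ i) := fun hr => hc (by
    have e : σ j = j := hjI
    rw [← e] at hr
    exact (rl_iff hg).1 hr)
  have h3 : σ i = i := h.miss hm j _ _ h2 hc
  exact hc (hj' i h3)

/-- **or the permutation `τ`.** -/
theorem CoreR.local_or_cyc [Finite ι] (hO : O ≠ ⊥) :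
    (∃ R : Subgroup G, R ≠ ⊥ ∧ IsPGroup 2 R ∧ ∀ j, Y j ≤ normalizer (R : Set G)) ∨
      ∃ τ : Equiv.Perm ι, (∀ (g : G) (σ : Equiv.Perm ι), Sy O Y N g σ → ∀ j, σ (τ j) = τ (σ j)) ∧
        ∀ I : Set ι, I.Nonempty → (∀ j ∈ I, τ j ∈ I) → I = Set.univ := by
  rcases h.moves hO with h1 | hm
  · exact Or.inl h1
  by_cases hc : ∃ j, ∀ i, Rl Y N j i
  · obtain ⟨j, hj⟩ := hc
    exact Or.inl (h.local_of_all hm hj)
  right
  push Not at hc
  choose τ hτ using hc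
  have huni : ∀ j a, ¬ Rl Y N j a → a = τ j := fun j a ha => h.miss hm j _ _ ha (hτ j)
  have hcl : ∀ I : Set ι, I.Nonempty → (∀ j ∈ I, τ j ∈ I) → I = Set.univ := by
    intro I hne hI
    by_contra hu
    obtain ⟨j, hj, hj'⟩ := h.step hm hu hne
    exact hτ j (hj' _ (hI j hj))
  have hsur : Function.Surjective τ := by
    obtain ⟨l⟩ := h.ne
    have h1 := hcl (Set.range τ) ⟨τ l, l, rfl⟩ (fun j _ => ⟨j, rfl⟩)
    exact Set.range_eq_univ.1 h1
  have hbij : Function.Bijective τ := (Finite.surjective_iff_bijective).1 hsur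
  refine ⟨Equiv.ofBijective τ hbij, fun g σ hg j => ?_, hcl⟩
  exact huni _ _ fun hr => hτ j ((rl_iff hg).1 hr)

omit h [Finite G] in
/-- permutations which commute with a transitive permutation: they are its powers -/
theorem eq_pow {τ σ : Equiv.Perm ι} (hc : ∀ j, σ (τ j) = τ (σ j))
    (ht : ∀ I : Set ι, I.Nonempty → (∀ j ∈ I, τ j ∈ I) → I = Set.univ) (i : ι) :
    ∃ k : ℕ, ∀ j, σ j = (τ ^ k) j := by
  have hall : ∀ j, ∃ m : ℕ, (τ ^ m) i = j := by
    intro j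
    have h1 := ht {j | ∃ m : ℕ, (τ ^ m) i = j} ⟨i, 0, rfl⟩ (fun j ⟨m, hm⟩ => ⟨m + 1, by
      rw [pow_succ', Equiv.Perm.mul_apply, hm]⟩)
    have h2 : j ∈ {j | ∃ m : ℕ, (τ ^ m) i = j} := by rw [h1]; trivial
    exact h2
  have hcp : ∀ (m : ℕ) j, σ ((τ ^ m) j) = (τ ^ m) (σ j) := by
    intro m
    induction m with
    | zero => intro j; rfl
    | succ m ih =>
      intro j
      rw [pow_succ', Equiv.Perm.mul_apply, hc, ih, Equiv.Perm.mul_apply]
  obtain ⟨k, hk⟩ := hall (σ i)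
  refine ⟨k, fun j => ?_⟩
  obtain ⟨m, rfl⟩ := hall j
  rw [hcp, ← hk, ← Equiv.Perm.mul_apply, ← Equiv.Perm.mul_apply, ← pow_add, ← pow_add, add_comm]

/-- **or the symmetries commute and act semiregularly.** -/
theorem CoreR.local_or_comm [Finite ι] (hO : O ≠ ⊥) :
    (∃ R : Subgroup G, R ≠ ⊥ ∧ IsPGroup 2 R ∧ ∀ j, Y j ≤ normalizer (R : Set G)) ∨
      (∀ (g g' : G) (σ σ' : Equiv.Perm ι), Sy O Y N g σ → Sy O Y N g' σ' → σ * σ' = σ' * σ) ∧
        ∀ (g : G) (σ : Equiv.Perm ι), Sy O Y N g σ → ∀ i, σ i = i → σ = 1 := by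
  rcases h.local_or_cyc hO with h1 | ⟨τ, hτ, ht⟩
  · exact Or.inl h1
  right
  obtain ⟨i₀⟩ := h.ne
  refine ⟨fun g g' σ σ' hg hg' => ?_, fun g σ hg i hi => ?_⟩
  · obtain ⟨k, hk⟩ := eq_pow (hτ g σ hg) ht i₀
    obtain ⟨k', hk'⟩ := eq_pow (hτ g' σ' hg') ht i₀
    have e : σ = τ ^ k := Equiv.ext hk
    have e' : σ' = τ ^ k' := Equiv.ext hk'
    rw [e, e', ← pow_add, ← pow_add, add_comm]
  · have h1 := ht {j | σ j = j} ⟨i, hi⟩ (fun j (hj : σ j = j) => by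
      show σ (τ j) = τ j
      rw [hτ g σ hg, hj])
    refine Equiv.ext fun j => ?_
    have h2 : j ∈ {j | σ j = j} := by rw [h1]; trivial
    exact h2

end core

end Cfsg.Agent.Omega.ESym.CoreR

end

end

-- merged: Cfsg.Agent.Mrg.Omega.NOThreeL.RRed.BFr.RegT
section

/-!
# NO-3L, box R: `M ∩ N(B)` on the pairs; the regular cyclic case

`h : Lv S D X L J AA`, `B = C_S(Z_J)`, `M` transitive on the blocks.

* `W_inj`, `act`, `exists_perm` : `M ∩ N(B)` acts on the index set of the pairs;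
* `swap3` : two pairs in one block are interchanged by an element which fixes a third pair;
* `Cyc h` : the permutations commute with one cycle `τ`;
* `tr_S` : `Cyc`, at least three pairs, `M = ⟨P*(S)⟩`: then `S` is transitive on the pairs; `tr_S_two` : at most two pairs;
* `card_zc` : `S` transitive on the pairs: `|Ω₁Z(S)| ≤ 2`;
* **`not_cyc`**, **`three`** : if `|Ω₁Z(S)| ≥ 4`, then there are at least three pairs, and not `Cyc`.
-/

set_option autoImplicit false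
set_option linter.unusedSectionVars false

namespace Cfsg.Agent.Omega.NOThreeL.RRed.BFr

open Subgroup Cfsg Cfsg.Agent.ZN Cfsg.Agent.ZN.ChoiceBase
open Cfsg.Agent.Omega.NO3S.OneLine (BFam)
open Cfsg.Agent.MinSimple.MinParabolic (IsMinPar)

universe u

variable {G : Type u} [Group G]

/-- the kernel of `M` on the blocks -/
def Kb {M V : Subgroup G} {Pt I : Type} [Fintype Pt] [DecidableEq Pt] [DecidableEq I] (D : Pts M V Pt I) :
    Subgroup G where
  carrier := {k | k ∈ M ∧ ∀ z, D.blk (D.r k z) = D.blk z}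
  mul_mem' := by
    rintro a b ⟨ha, ha'⟩ ⟨hb, hb'⟩
    exact ⟨mul_mem ha hb, fun z => by rw [D.r_mul ha hb, Equiv.Perm.mul_apply, ha', hb']⟩
  one_mem' := ⟨one_mem _, fun z => by rw [D.r_one]; rfl⟩
  inv_mem' := by
    rintro a ⟨ha, ha'⟩
    refine ⟨inv_mem ha, fun z => ?_⟩
    have h1 := ha' (D.r a⁻¹ z)
    rw [D.r_inv ha] at h1 ⊢
    rw [apply_inv_self'] at h1
    exact h1.symm

namespace Lv

variable {S : Sylow 2 G} {M V : Subgroup G} {Pt I : Type} [Fintype Pt] [DecidableEq Pt] [DecidableEq I]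
variable {D : Pts M V Pt I} {X L J : Subgroup G} {AA : Set (Subgroup G)}

theorem Kb_le : Kb D ≤ M := fun _ hk => hk.1

theorem Kb_conj {g k : G} (hg : g ∈ M) (hk : k ∈ Kb D) : g * k * g⁻¹ ∈ Kb D := by
  obtain ⟨hk, hk'⟩ := hk
  refine ⟨mul_mem (mul_mem hg hk) (inv_mem hg), fun z => ?_⟩
  rw [D.r_mul (mul_mem hg hk) (inv_mem hg), D.r_mul hg hk, D.r_inv hg, Equiv.Perm.mul_apply, Equiv.Perm.mul_apply]
  have h1 := D.r_blk hg (hk' ((D.r g)⁻¹ z))
  rwa [apply_inv_self'] at h1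

variable [Finite G] (h : Lv S D X L J AA)
include h

theorem W_ne (i : Idx D AA) : h.W i ≠ ⊥ := by
  intro e
  obtain ⟨v, hv, h1, -⟩ := h.exists_W i 1 0
  rw [e, mem_bot] at hv
  rw [hv, D.map_one, Pi.zero_apply] at h1
  exact absurd h1 (by decide)

theorem W_inj {i j : Idx D AA} (e : h.W i = h.W j) : i = j := by
  by_contra hne
  have h1 : h.W i ≤ C D i := e.le.trans (h.W_le_C hne)
  apply h.W_ne i
  rw [← h.dir i]
  exact le_antisymm (le_inf le_rfl h1) inf_le_left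

/-- `M ∩ N(B)` on the pairs -/
theorem act {g : G} (hg : g ∈ M) (hn : g ∈ normalizer (BB (S : Subgroup G) V J : Set G)) (i : Idx D AA) :
    ∃ j, cj g (h.W i) = h.W j ∧ Mem j (D.r g (xx i)) ∧ D.blk (xx j) = D.blk (D.r g (xx i)) := by
  have hp := h.PP_of_norm hg hn
  obtain ⟨j, hj, -⟩ := h.mem_of_pr ((hp _ _).2 (pr_i i))
  exact ⟨j, h.cj_W hg hp (Or.inl rfl) hj, hj, hj.blk.symm⟩

theorem exists_perm {g : G} (hg : g ∈ M) (hn : g ∈ normalizer (BB (S : Subgroup G) V J : Set G)) :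
    ∃ π : Equiv.Perm (Idx D AA), (∀ l, cj g (h.W l) = h.W (π l)) ∧ (∀ l, Mem (π l) (D.r g (xx l))) ∧
      ∀ l, D.blk (xx (π l)) = D.blk (D.r g (xx l)) := by
  choose f hf using fun i => h.act hg hn i
  have hinj : Function.Injective f := by
    intro i j e
    have h1 := (hf i).1
    rw [e, ← (hf j).1] at h1
    have h2 := congrArg (cj g⁻¹) h1
    rw [cj_inv_cj, cj_inv_cj] at h2
    exact h.W_inj h2
  exact ⟨Equiv.ofBijective f (Finite.injective_iff_bijective.1 hinj), fun l => (hf l).1, fun l => (hf l).2.1,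
    fun l => (hf l).2.2⟩

theorem S_norm : (S : Subgroup G) ≤ normalizer (BB (S : Subgroup G) V J : Set G) := by
  intro s hs
  have h1 : cj s (sSup AA) = sSup AA := by
    refine h.cj_J0 (h.SM hs) ((cj_mono s h.J0S).trans ?_)
    rw [cj_eq_of_mem_normalizer (Subgroup.le_normalizer hs)]
  rw [mem_normalizer_iff_cj, BB, cj_inf, cj_centralizer, h.norm_ZJ (h.SM hs) h1,
    cj_eq_of_mem_normalizer (Subgroup.le_normalizer hs)]

/-- **two pairs in the same block, a third pair** -/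
theorem swap3 {i j l : Idx D AA} (hij : i ≠ j) (hli : l ≠ i) (hlj : l ≠ j) (hb : D.blk (xx i) = D.blk (xx j)) :
    ∃ g ∈ M, g ∈ normalizer (BB (S : Subgroup G) V J : Set G) ∧ cj g (h.W i) = h.W j ∧ cj g (h.W l) = h.W l := by
  have n1 := ne_i i
  have n2 := ne_i j
  have d : ∀ a b, Mem i a → Mem j b → a ≠ b := fun a b ha hb' e => hij (h.mem_inj ha (e ▸ hb'))
  have d1 := d (xx i) (xx j) (Or.inl rfl) (Or.inl rfl)
  have d2 := d (xx i) (yy j) (Or.inl rfl) (Or.inr rfl)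
  have d3 := d (yy i) (xx j) (Or.inr rfl) (Or.inl rfl)
  have d4 := d (yy i) (yy j) (Or.inr rfl) (Or.inr rfl)
  obtain ⟨t, ht, et⟩ := D.full (xx i) (xx j) d1 hb
  obtain ⟨s, hs, es⟩ := D.full (yy i) (yy j) d4 ((blk_i i).symm.trans (hb.trans (blk_i j)))
  have e1 : D.r t = Equiv.swap (xx i) (xx j) := D.r_eq ht et
  have e2 : D.r s = Equiv.swap (yy i) (yy j) := D.r_eq hs es
  have hm := mul_mem hs ht
  have er : D.r (s * t) = Equiv.swap (yy i) (yy j) * Equiv.swap (xx i) (xx j) := by rw [D.r_mul hs ht, e1, e2]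
  have a1 : D.r (s * t) (xx i) = xx j := by
    rw [er, Equiv.Perm.mul_apply, Equiv.swap_apply_left, Equiv.swap_apply_of_ne_of_ne d3.symm n2]
  have a2 : D.r (s * t) (yy i) = yy j := by
    rw [er, Equiv.Perm.mul_apply, Equiv.swap_apply_of_ne_of_ne n1.symm d3, Equiv.swap_apply_left]
  have a3 : D.r (s * t) (xx j) = xx i := by
    rw [er, Equiv.Perm.mul_apply, Equiv.swap_apply_right, Equiv.swap_apply_of_ne_of_ne n1 d2]
  have a4 : D.r (s * t) (yy j) = yy i := by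
    rw [er, Equiv.Perm.mul_apply, Equiv.swap_apply_of_ne_of_ne d2.symm n2.symm, Equiv.swap_apply_right]
  have a5 : ∀ z, ¬ Mem i z → ¬ Mem j z → D.r (s * t) z = z := by
    intro z h1 h2
    rw [er, Equiv.Perm.mul_apply, Equiv.swap_apply_of_ne_of_ne (fun e => h1 (Or.inl e)) (fun e => h2 (Or.inl e)),
      Equiv.swap_apply_of_ne_of_ne (fun e => h1 (Or.inr e)) (fun e => h2 (Or.inr e))]
  have hfwd : ∀ x y, Pr D AA x y → Pr D AA (D.r (s * t) x) (D.r (s * t) y) := by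
    intro x y hp
    obtain ⟨k, hx, hy⟩ := h.mem_of_pr hp
    by_cases hki : k = i
    · subst hki
      rcases hx with e3 | e3 <;> rcases hy with e4 | e4
      · exact absurd (e3.trans e4.symm) hp.1
      · rw [e3, e4, a1, a2]; exact pr_i j
      · rw [e3, e4, a1, a2]; exact (pr_i j).symm
      · exact absurd (e3.trans e4.symm) hp.1
    by_cases hkj : k = j
    · subst hkj
      rcases hx with e3 | e3 <;> rcases hy with e4 | e4
      · exact absurd (e3.trans e4.symm) hp.1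
      · rw [e3, e4, a3, a4]; exact pr_i i
      · rw [e3, e4, a3, a4]; exact (pr_i i).symm
      · exact absurd (e3.trans e4.symm) hp.1
    rw [a5 x (fun e => hki (h.mem_inj hx e)) (fun e => hkj (h.mem_inj hx e)),
      a5 y (fun e => hki (h.mem_inj hy e)) (fun e => hkj (h.mem_inj hy e))]
    exact hp
  have hinv : ∀ z, D.r (s * t) (D.r (s * t) z) = z := by
    intro z
    by_cases h1 : Mem i z
    · rcases h1 with e3 | e3
      · rw [e3, a1, a3]
      · rw [e3, a2, a4]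
    · by_cases h2 : Mem j z
      · rcases h2 with e3 | e3
        · rw [e3, a3, a1]
        · rw [e3, a4, a2]
      · rw [a5 z h1 h2, a5 z h1 h2]
  have hPP : PP D AA (s * t) := by
    intro x y
    refine ⟨fun hp => ?_, hfwd x y⟩
    have := hfwd _ _ hp
    rwa [hinv, hinv] at this
  obtain ⟨g, hg, hgn, hgm⟩ := h.correct hm hPP
  have hp := h.PP_of_norm hg hgn
  have m1 : Mem j (D.r g (xx i)) := hgm j (xx i) (by rw [a1]; exact Or.inl rfl)
  have m2 : Mem l (D.r g (xx l)) := hgm l (xx l) (by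
    rw [a5 (xx l) (fun e => hli (h.mem_inj (Or.inl rfl) e)) (fun e => hlj (h.mem_inj (Or.inl rfl) e))]
    exact Or.inl rfl)
  exact ⟨g, hg, hgn, h.cj_W hg hp (Or.inl rfl) m1, h.cj_W hg hp (Or.inl rfl) m2⟩

/-- every element of `M` can be corrected by an element of `Kb` to normalise `B` -/
theorem exists_corr {m : G} (hm : m ∈ M) : ∃ k ∈ Kb D, k * m ∈ normalizer (BB (S : Subgroup G) V J : Set G) := by
  set K := Kb D with hKdef
  have hKM : K ≤ M := fun _ hk => hk.1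
  have hcjK : ∀ g ∈ M, cj g K ≤ K := by
    rintro g hg _ ⟨k, hk, rfl⟩
    exact Kb_conj hg hk
  set SK : Subgroup G := (S : Subgroup G) ⊓ K with hSK
  have hSKp : IsPGroup 2 SK := S.isPGroup'.to_le inf_le_left
  have hsyl : ∀ R : Subgroup G, R ≤ K → IsPGroup 2 R → SK ≤ R → R = SK := by
    intro R hR hRp hle
    obtain ⟨m', hm', hm'S⟩ := exists_into S h.SM hRp (hR.trans hKM)
    have h1 : cj m' R ≤ SK := le_inf hm'S ((cj_mono m' hR).trans (hcjK m' hm'))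
    refine (Subgroup.eq_of_le_of_card_ge hle ?_).symm
    rw [← card_cj m' R]
    exact Subgroup.card_le_of_le h1
  have hcm : cj m SK ≤ K := (cj_mono m inf_le_right).trans (hcjK m hm)
  have hcmp : IsPGroup 2 (cj m SK : Subgroup G) := hSKp.map _
  obtain ⟨k, hk, R, hRK, hRp, hSR, hkR⟩ := exists_common hSKp hcmp inf_le_right hcm
  have hR := hsyl R hRK hRp hSR
  have hkM : k ∈ M := hKM hk
  have hgM : k * m ∈ M := mul_mem hkM hm
  have h1 : cj (k * m) SK = SK := by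
    rw [← cj_cj]
    refine Subgroup.eq_of_le_of_card_ge (hkR.trans hR.le) ?_
    rw [card_cj, card_cj]
  have hBK : BB (S : Subgroup G) V J ≤ K := fun b hb => ⟨h.B_le_M hb, h.Pp_blk (h.B_le_M hb) (h.B_Pp hb)⟩
  have hBeq : BB (S : Subgroup G) V J = SK ⊓ centralizer (ZJ V J : Set G) := by
    apply le_antisymm
    · exact le_inf (le_inf inf_le_left hBK) inf_le_right
    · exact inf_le_inf_right _ inf_le_left
  have hJ0 : cj (k * m) (sSup AA) = sSup AA := by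
    refine h.cj_J0 hgM ?_
    have h2 : sSup AA ≤ SK := le_inf h.J0S (h.J0_le_B.trans hBK)
    refine (cj_mono _ h2).trans ?_
    rw [h1]
    exact inf_le_left
  refine ⟨k, hk, mem_normalizer_iff_cj.2 ?_⟩
  rw [hBeq, cj_inf, cj_centralizer, h1, h.norm_ZJ hgM hJ0]

/-- the permutations commute with one cycle -/
def Cyc : Prop := ∃ τ : Equiv.Perm (Idx D AA), (∀ i j, ∃ n : ℕ, (τ ^ n) i = j) ∧
  ∀ g ∈ M, g ∈ normalizer (BB (S : Subgroup G) V J : Set G) → ∀ π : Equiv.Perm (Idx D AA),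
    (∀ l, cj g (h.W l) = h.W (π l)) → ∀ i, π (τ i) = τ (π i)

/-- `Cyc`: different pairs are in different blocks -/
theorem inj_of (hc : h.Cyc) (three : ∀ i j : Idx D AA, ∃ l, l ≠ i ∧ l ≠ j) {i j : Idx D AA}
    (hb : D.blk (xx i) = D.blk (xx j)) : i = j := by
  by_contra hij
  obtain ⟨τ, h1, h2⟩ := hc
  obtain ⟨l, hli, hlj⟩ := three i j
  obtain ⟨g, hg, hn, e1, e2⟩ := h.swap3 hij hli hlj hb
  obtain ⟨π, hπ, -⟩ := h.exists_perm hg hn
  have e3 : π l = l := h.W_inj ((hπ l).symm.trans e2)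
  have e4 : π i = j := h.W_inj ((hπ i).symm.trans e1)
  exact hij ((ESym.CoreT.eq_of_fix h1 (h2 g hg hn π hπ) e3 i).symm.trans e4)

/-- `Cyc`: `M / Kb` is abelian -/
theorem comm_mem (hc : h.Cyc) {x y : G} (hx : x ∈ M) (hy : y ∈ M) : x * y * x⁻¹ * y⁻¹ ∈ Kb D := by
  obtain ⟨τ, h1, h2⟩ := hc
  have key : ∀ m ∈ M, ∃ π : Equiv.Perm (Idx D AA), (∀ i, π (τ i) = τ (π i)) ∧
      ∀ l, D.blk (xx (π l)) = D.blk (D.r m (xx l)) := by
    intro m hm
    obtain ⟨k, hk, hkn⟩ := h.exists_corr hm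
    have hkM : k ∈ M := hk.1
    obtain ⟨π, hπ, -, hb⟩ := h.exists_perm (mul_mem hkM hm) hkn
    refine ⟨π, h2 _ (mul_mem hkM hm) hkn π hπ, fun l => ?_⟩
    rw [hb l, D.r_mul hkM hm, Equiv.Perm.mul_apply, hk.2]
  obtain ⟨p, hp, hp'⟩ := key x hx
  obtain ⟨q, hq, hq'⟩ := key y hy
  have hxy : ∀ z, D.blk (D.r (x * y) z) = D.blk (D.r (y * x) z) := by
    intro z
    obtain ⟨i, hi⟩ := h.exists_idx z
    rw [D.r_mul hx hy, D.r_mul hy hx, Equiv.Perm.mul_apply, Equiv.Perm.mul_apply]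
    have a1 : D.blk (D.r x (D.r y z)) = D.blk (xx (p (q i))) := by
      rw [hp' (q i)]
      refine D.r_blk hx ?_
      rw [hq' i]
      exact D.r_blk hy hi.symm
    have a2 : D.blk (D.r y (D.r x z)) = D.blk (xx (q (p i))) := by
      rw [hq' (p i)]
      refine D.r_blk hy ?_
      rw [hp' i]
      exact D.r_blk hx hi.symm
    rw [a1, a2, ESym.CoreT.comm_of h1 hp hq i]
  have hm1 : x⁻¹ * y⁻¹ ∈ M := mul_mem (inv_mem hx) (inv_mem hy)
  have hM : x * y * x⁻¹ * y⁻¹ ∈ M := mul_mem (mul_mem (mul_mem hx hy) (inv_mem hx)) (inv_mem hy)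
  refine ⟨hM, fun z => ?_⟩
  have e : x * y * x⁻¹ * y⁻¹ = (x * y) * (x⁻¹ * y⁻¹) := by group
  rw [e, D.r_mul (mul_mem hx hy) hm1, Equiv.Perm.mul_apply, hxy, ← Equiv.Perm.mul_apply,
    ← D.r_mul (mul_mem hy hx) hm1]
  have e' : (y * x) * (x⁻¹ * y⁻¹) = 1 := by group
  rw [e', D.r_one]
  rfl

/-- `Cyc`: the minimal parabolics are in `S Kb` -/
theorem par_le (hc : h.Cyc) {P : Subgroup G} (hP : IsMinPar (S : Subgroup G) P) (hPM : P ≤ M) :
    P ≤ (S : Subgroup G) ⊔ Kb D := by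
  have hN : P ≤ normalizer ((P ⊓ ((S : Subgroup G) ⊔ Kb D) : Subgroup G) : Set G) := by
    intro g hg
    rw [mem_normalizer_iff_cj]
    refine Subgroup.eq_of_le_of_card_ge ?_ (by rw [card_cj])
    rintro _ ⟨n, ⟨hn1, hn2⟩, rfl⟩
    refine mem_inf.2 ⟨mul_mem (mul_mem hg hn1) (inv_mem hg), ?_⟩
    have h1 := h.comm_mem hc (hPM hg) (hPM hn1)
    have e : g * n * g⁻¹ = (g * n * g⁻¹ * n⁻¹) * n := by group
    change g * n * g⁻¹ ∈ _
    rw [e]
    exact mul_mem (mem_sup_right h1) hn2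
  have hS2 : ¬ 2 ∣ (S : Subgroup G).relIndex P := by
    intro hd
    have h1 : (S : Subgroup G).relIndex P ∣ (S : Subgroup G).index := relIndex_dvd_index_of_le hP.le
    exact S.not_dvd_index (hd.trans h1)
  rcases hP.sup_eq_or_inf_le S.isPGroup' hS2 inf_le_left hN with h1 | h1
  · rw [← h1]
    exact sup_le inf_le_right le_sup_left
  · exfalso
    have h2 : (S : Subgroup G) ≤ o2 P := le_trans (le_inf le_rfl (le_inf hP.le le_sup_left)) h1
    have h3 : o2 P = (S : Subgroup G) :=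
      (Subgroup.eq_of_le_of_card_ge h2 (by
        have := S.is_maximal' (ChoiceSit.isPGroup_o2 P) h2
        rw [this])).symm
    apply hP.not_le
    have h4 := MinSimple.VModule.le_normalizer_o2 P
    rwa [h3] at h4

/-- **`Cyc`: `S` is transitive on the pairs** -/
theorem tr_S (hc : h.Cyc) (three : ∀ i j : Idx D AA, ∃ l, l ≠ i ∧ l ≠ j)
    (tr : ∀ x y : Pt, ∃ m ∈ M, D.blk (D.r m x) = D.blk y)
    (hM : M ≤ sSup {P : Subgroup G | IsMinPar (S : Subgroup G) P ∧ P ≤ M}) (i j : Idx D AA) :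
    ∃ s ∈ (S : Subgroup G), cj s (h.W i) = h.W j := by
  obtain ⟨m, hm, hmb⟩ := tr (xx i) (xx j)
  have h1 : M ≤ (S : Subgroup G) ⊔ Kb D := hM.trans (sSup_le fun P hP => h.par_le hc hP.1 hP.2)
  have hnK : (S : Subgroup G) ≤ normalizer (Kb D : Set G) := by
    intro s hs
    rw [mem_normalizer_iff_cj]
    refine Subgroup.eq_of_le_of_card_ge ?_ (by rw [card_cj])
    rintro _ ⟨k, hk, rfl⟩
    exact Kb_conj (h.SM hs) hk
  have h2 := h1 hm
  rw [← SetLike.mem_coe, coe_mul_of_left_le_normalizer_right _ _ hnK] at h2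
  obtain ⟨s, hs, k, hk, rfl⟩ := Set.mem_mul.1 h2
  have hkM : k ∈ M := Kb_le hk
  refine ⟨s, hs, ?_⟩
  obtain ⟨j', e1, -, e2⟩ := h.act (h.SM hs) (h.S_norm hs) i
  rw [e1]
  congr 1
  apply h.inj_of hc three
  rw [e2, ← hmb, D.r_mul (h.SM hs) hkM, Equiv.Perm.mul_apply]
  exact D.r_blk (h.SM hs) (hk.2 (xx i)).symm

/-- at most two pairs: `S` is transitive on the pairs -/
theorem tr_S_two (tr : ∀ x y : Pt, ∃ m ∈ M, D.blk (D.r m x) = D.blk y)
    {a b : Idx D AA} (hab : ∀ l, l = a ∨ l = b) (i j : Idx D AA) :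
    ∃ s ∈ (S : Subgroup G), cj s (h.W i) = h.W j := by
  by_cases hij : i = j
  · exact ⟨1, one_mem _, by rw [cj_one, hij]⟩
  have hl : ∀ l, l = i ∨ l = j := by
    intro l
    rcases hab i with h1 | h1 <;> rcases hab j with h2 | h2 <;> rcases hab l with h3 | h3
    · exact absurd (h1.trans h2.symm) hij
    · exact absurd (h1.trans h2.symm) hij
    · exact Or.inl (h3.trans h1.symm)
    · exact Or.inr (h3.trans h2.symm)
    · exact Or.inr (h3.trans h2.symm)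
    · exact Or.inl (h3.trans h1.symm)
    · exact absurd (h1.trans h2.symm) hij
    · exact absurd (h1.trans h2.symm) hij
  by_contra hcon
  push Not at hcon
  -- `S` fixes `i`
  have hSi : ∀ s ∈ (S : Subgroup G), cj s (h.W i) = h.W i := by
    intro s hs
    obtain ⟨j', e1, -, -⟩ := h.act (h.SM hs) (h.S_norm hs) i
    rcases hl j' with rfl | rfl
    · exact e1
    · exact absurd e1 (hcon s hs)
  set T : Subgroup G := M ⊓ normalizer (BB (S : Subgroup G) V J : Set G) with hT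
  set T0 : Subgroup G := T ⊓ normalizer (h.W i : Set G) with hT0
  have hST : (S : Subgroup G) ≤ T := le_inf h.SM h.S_norm
  have hST0 : (S : Subgroup G) ≤ T0 := le_inf hST fun s hs => mem_normalizer_iff_cj.2 (hSi s hs)
  have hT0T : T0 ≤ T := inf_le_left
  have hmem : ∀ t ∈ T, t ∈ T0 ∨ cj t (h.W i) = h.W j := by
    intro t ht
    obtain ⟨j', e1, -, -⟩ := h.act ht.1 ht.2 i
    rcases hl j' with rfl | rfl
    · exact Or.inl ⟨ht, mem_normalizer_iff_cj.2 e1⟩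
    · exact Or.inr e1
  obtain ⟨g, hg, hgn, hgW⟩ := h.hM tr i j
  have hgT : g ∈ T := ⟨hg, hgn⟩
  -- index two
  have h2 : T0.relIndex T = 2 := by
    have : (T0.subgroupOf T).index = 2 := by
      rw [Subgroup.index_eq_two_iff]
      refine ⟨⟨g⁻¹, inv_mem hgT⟩, fun t => ?_⟩
      have key : ∀ t ∈ T, (t * g⁻¹ ∈ T0 ↔ cj t⁻¹ (h.W i) = h.W j) := by
        intro t ht
        constructor
        · intro h3
          have h4 := cj_eq_of_mem_normalizer (inv_mem h3.2)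
          rw [mul_inv_rev, inv_inv, ← cj_cj] at h4
          rcases hmem t⁻¹ (inv_mem ht) with h5 | h5
          · exfalso
            rw [cj_eq_of_mem_normalizer h5.2, hgW] at h4
            exact hij (h.W_inj h4.symm)
          · exact h5
        · intro h3
          refine mem_inf.2 ⟨mul_mem ht (inv_mem hgT), ?_⟩
          rw [← inv_mem_iff, mul_inv_rev, inv_inv, mem_normalizer_iff_cj, ← cj_cj, h3]
          -- `g` maps `W j` to `W i`
          obtain ⟨π, hπ, -, -⟩ := h.exists_perm hg hgn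
          have e1 : π i = j := h.W_inj ((hπ i).symm.trans hgW)
          have e2 : π j = i := by
            rcases hl (π j) with e3 | e3
            · exact e3
            · exact absurd (π.injective (e3.trans e1.symm)) (Ne.symm hij)
          rw [hπ j, e2]
      rw [mem_subgroupOf, mem_subgroupOf]
      change Xor ((t : G) * g⁻¹ ∈ T0) ((t : G) ∈ T0)
      rw [key t t.2]
      rcases hmem (t : G)⁻¹ (inv_mem t.2) with h5 | h5
      · refine Or.inr ⟨by simpa using inv_mem h5, fun h6 => ?_⟩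
        rw [cj_eq_of_mem_normalizer h5.2] at h6
        exact hij (h.W_inj h6)
      · refine Or.inl ⟨h5, fun h6 => ?_⟩
        rw [cj_eq_of_mem_normalizer (inv_mem h6.2)] at h5
        exact hij (h.W_inj h5)
    exact this
  have h3 : 2 ∣ (S : Subgroup G).relIndex T := by
    have h4 := relIndex_mul_relIndex (S : Subgroup G) T0 T hST0 hT0T
    rw [← h4, h2]
    exact dvd_mul_left _ _
  exact S.not_dvd_index (h3.trans (relIndex_dvd_index_of_le hST))

/-- **`S` transitive on the pairs: `|Ω₁Z(S)| ≤ 2`** -/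
theorem card_zc [Nonempty (Idx D AA)] (hS : ∀ i j : Idx D AA, ∃ s ∈ (S : Subgroup G), cj s (h.W i) = h.W j)
    (hz : zc (S : Subgroup G) ≤ ZJ V J) : Nat.card (zc (S : Subgroup G)) ≤ 2 := by
  obtain ⟨i₀⟩ := ‹Nonempty (Idx D AA)›
  have hinv : ∀ z ∈ zc (S : Subgroup G), ∀ i j : Idx D AA, D.e z (xx i) = D.e z (xx j) := by
    intro z hzS i j
    have hzJ := hz hzS
    have hzV : z ∈ V := hzJ.1
    have hpair := (h.mem_ZJ_iff hzV).1 hzJ
    obtain ⟨s, hs, e⟩ := hS i j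
    obtain ⟨j', e1, hm, -⟩ := h.act (h.SM hs) (h.S_norm hs) i
    have e2 : j' = j := h.W_inj (e1.symm.trans e)
    subst e2
    have h1 := (D.comm_iff (h.SM hs) hzV).1 ((ChoiceBase.mem_zc.1 hzS).2.2 s hs) (xx i)
    rw [← h1]
    rcases hm with e3 | e3
    · rw [e3]
    · rw [e3]; exact (hpair j').symm
  have hinj : Function.Injective (fun z : zc (S : Subgroup G) => D.e (z : G) (xx i₀)) := by
    intro z z' e
    have e' : D.e (z : G) (xx i₀) = D.e (z' : G) (xx i₀) := e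
    have hzV : (z : G) ∈ V := (hz z.2).1
    have hzV' : (z' : G) ∈ V := (hz z'.2).1
    have p1 := (h.mem_ZJ_iff hzV).1 (hz z.2)
    have p2 := (h.mem_ZJ_iff hzV').1 (hz z'.2)
    apply Subtype.ext
    have h1 : (z : G) * (z' : G)⁻¹ = 1 := by
      refine h.eq_one_of (mul_mem hzV (inv_mem hzV')) fun i => ?_
      have a1 : D.e (z : G) (xx i) = D.e (z' : G) (xx i) := by
        rw [hinv z z.2 i i₀, hinv z' z'.2 i i₀, e']
      have a2 : ∀ x, D.e (z : G) x = D.e (z' : G) x → D.e ((z : G) * (z' : G)⁻¹) x = 0 := by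
        intro x hx
        rw [D.mul _ hzV _ (inv_mem hzV'), D.map_inv hzV', Pi.add_apply, hx]
        exact add_self _
      exact ⟨a2 _ a1, a2 _ (by rw [← p1 i, ← p2 i, a1])⟩
    exact mul_inv_eq_one.1 h1
  have h1 := Nat.card_le_card_of_injective _ hinj
  have h2 : Nat.card (ZMod 2) = 2 := Nat.card_zmod 2
  omega

/-- at least three pairs -/
theorem three [Nonempty (Idx D AA)] (tr : ∀ x y : Pt, ∃ m ∈ M, D.blk (D.r m x) = D.blk y)
    (hz : zc (S : Subgroup G) ≤ ZJ V J) (h4 : 4 ≤ Nat.card (zc (S : Subgroup G))) (i j : Idx D AA) :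
    ∃ l, l ≠ i ∧ l ≠ j := by
  by_contra hcon
  push Not at hcon
  have h1 : ∀ l, l = i ∨ l = j := fun l => by
    by_cases hl : l = i
    · exact Or.inl hl
    · exact Or.inr (hcon l hl)
  have := h.card_zc (h.tr_S_two tr h1) hz
  omega

/-- **not the regular cyclic case** -/
theorem not_cyc [Nonempty (Idx D AA)] (tr : ∀ x y : Pt, ∃ m ∈ M, D.blk (D.r m x) = D.blk y)
    (hM : M ≤ sSup {P : Subgroup G | IsMinPar (S : Subgroup G) P ∧ P ≤ M})
    (hz : zc (S : Subgroup G) ≤ ZJ V J) (h4 : 4 ≤ Nat.card (zc (S : Subgroup G))) : ¬ h.Cyc := by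
  intro hc
  have := h.card_zc (h.tr_S hc (h.three tr hz h4) tr hM) hz
  omega

end Lv

end Cfsg.Agent.Omega.NOThreeL.RRed.BFr

end

-- merged: Cfsg.Agent.Mrg.Omega.EDel.FinT
section

section


/-!
# THEOREM S''T over `Zf`

* **`Zf.cyc_of`** : no nontrivial 2-subgroup is normalised by all `Y i = ⟨C_G(ZJ), L i⟩`, at least three indices, the
  symmetries of the `z i` transitive: then they all commute with one cycle;
* **`Zf.false_ofT`** : the end, if some symmetry fixes a point and moves another one.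
-/

set_option autoImplicit false
set_option linter.unusedSectionVars false

namespace Cfsg.Agent.Omega.EDel

open Subgroup Cfsg Cfsg.Agent.ZN.ChoiceBase
open Cfsg.Agent.ZN (zc zl o2 jj)
open Cfsg.Agent.Omega.EK3 (CT mem_CT CT_mono)
open Cfsg.Agent.Omega.EK3.StarE (EE EE_le EE_mono le_EE norm_EE cj_le_EE cj_iSup_le)
open Cfsg.Agent.Omega.ESym.CoreS (EI Sy)
open Cfsg.Agent.Omega.ESym.CoreT (Cr eq_of_fix)

universe u

variable {G : Type u} [Group G] {ι : Type} {B Q V X ZJ : Subgroup G} {L W Z C A : ι → Subgroup G} {z : ι → G}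

namespace Zf

variable (h : Zf B Q V X ZJ L W Z C A z)
include h

section norm

variable [Finite G] [Finite ι]

/-- **`CoreT.Cr` over `Zf`** -/
theorem coreT [Nonempty ι] (hML : ML.Final.MLK.{u, u}) (hK : ∀ i, IsKGroup (YL ZJ L i))
    (three : ∀ i j : ι, ∃ l, l ≠ i ∧ l ≠ j)
    (tr : ∀ i j, ∃ g, ∃ σ : Equiv.Perm ι,
      Sy (o2 (centralizer (ZJ : Set G))) (YL ZJ L) (NL ZJ L z) g σ ∧ σ i = j) :
    Cr (o2 (centralizer (ZJ : Set G))) (centralizer (ZJ : Set G)) ZJ (YL ZJ L) (NL ZJ L z) where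
  two := MinSimple.VModule.o2_isPGroup _
  OY i := (Cfsg.Agent.ZN.o2_le _).trans (D_le_YL i)
  OZ := Cfsg.Agent.ZN.o2_le _
  DY := D_le_YL
  three := three
  ne := inferInstance
  eab I hI := h.EI_el h.YL_le_CT hI
  NE i := (h.N_le_EE i _).trans (EE_mono (le_iSup (fun i : ({i} : Set ι) => YL ZJ L i) ⟨i, rfl⟩))
  YN i := norm_EE _ _
  YQ i := h.YQ (D_le_YL i) (h.YL_le_CT i)
  no i := by
    obtain ⟨l, hl, -⟩ := three i i
    exact h.no hML (hK i) (D_le_YL i) (h.YL_le_CT i) ⟨l, hl⟩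
  gen i K hKY hYK hm := by
    obtain ⟨l, hl, -⟩ := three i i
    exact h.gen ⟨l, hl⟩ hKY hYK hm
  tr := tr

/-- **THEOREM S''T over `Zf`**, first form. -/
theorem cyc_of [Nonempty ι] (hML : ML.Final.MLK.{u, u}) (hK : IsKProper G)
    (cjY : ∀ g ∈ normalizer (B : Set G), ∀ i j, g * z i * g⁻¹ = z j → cj g (L i) ≤ YL ZJ L j)
    (nl : ∀ U : Subgroup G, U ≠ ⊥ → IsPGroup 2 U → ¬ ∀ i, YL ZJ L i ≤ normalizer (U : Set G))
    (three : ∀ i j : ι, ∃ l, l ≠ i ∧ l ≠ j)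
    (tr : ∀ i j, ∃ g, ∃ π : Equiv.Perm ι, (∀ l, g * z l * g⁻¹ = z (π l)) ∧ π i = j) :
    ∃ τ : Equiv.Perm ι, (∀ i j, ∃ n : ℕ, (τ ^ n) i = j) ∧
      ∀ g, ∀ π : Equiv.Perm ι, (∀ l, g * z l * g⁻¹ = z (π l)) → ∀ i, π (τ i) = τ (π i) := by
  obtain ⟨i₀⟩ := ‹Nonempty ι›
  have : Nonempty ι := ⟨i₀⟩
  have hKi : ∀ i, IsKGroup (YL ZJ L i) := by
    intro i
    refine hK _ fun e => ?_
    obtain ⟨l, hl, -⟩ := three i i
    -- `z l` is central in `G`
    have h1 : ∀ g : G, g * z l = z l * g := fun g =>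
      mem_CT.1 (h.YL_le_CT i (by rw [e]; exact mem_top g)) l hl
    refine nl (zpowers (z l)) (fun e1 => h.z_ne l (zpowers_eq_bot.1 e1)) ?_ fun j g _ => ?_
    · refine h.Bp.to_le (zpowers_le.2 ?_)
      have h2 : z l ∈ zc B := by
        rw [h.fr.zcB]
        exact h.z_mem l
      exact (mem_zc.1 h2).1
    · rw [mem_normalizer_iff_cj]
      refine cj_eq_of_mem_normalizer (centralizer_le_normalizer _ (mem_centralizer_iff.2 fun x hx => ?_))
      obtain ⟨n, rfl⟩ := hx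
      exact ((show Commute g (z l) from h1 g).zpow_right n).eq.symm
  have hO : o2 (centralizer (ZJ : Set G)) ≠ ⊥ := by
    intro e
    obtain ⟨l, hl, -⟩ := three i₀ i₀
    have h1 : z i₀ ∈ EE ZJ (YL ZJ L i₀) := h.N_le_EE i₀ _ (z_mem_EE i₀ _)
    have h2 := h.E_le_O (T := ({i₀} : Set ι)ᶜ) ⟨l, hl⟩ (h.YL_le_CT i₀) h1
    rw [e, mem_bot] at h2
    exact h.z_ne i₀ h2
  rcases (h.coreT hML hKi three
    (fun i j => by
      obtain ⟨g, π, hπ, h1⟩ := tr i j
      obtain ⟨g', hs⟩ := h.exists_sy cjY hπ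
      exact ⟨g', π, hs, h1⟩)).local_or hO with ⟨R, hR, hR2, hn⟩ | ⟨τ, h1, h2⟩
  · exact absurd hn (nl R hR hR2)
  · refine ⟨τ, h1, fun g π hπ => ?_⟩
    obtain ⟨g', hs⟩ := h.exists_sy cjY hπ
    exact h2 g' π hs

/-- **THEOREM S''T over `Zf`.** -/
theorem false_ofT [Nonempty ι] (hML : ML.Final.MLK.{u, u}) (hK : IsKProper G)
    (cjY : ∀ g ∈ normalizer (B : Set G), ∀ i j, g * z i * g⁻¹ = z j → cj g (L i) ≤ YL ZJ L j)
    (nl : ∀ U : Subgroup G, U ≠ ⊥ → IsPGroup 2 U → ¬ ∀ i, YL ZJ L i ≤ normalizer (U : Set G))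
    (three : ∀ i j : ι, ∃ l, l ≠ i ∧ l ≠ j)
    (tr : ∀ i j, ∃ g, ∃ π : Equiv.Perm ι, (∀ l, g * z l * g⁻¹ = z (π l)) ∧ π i = j)
    (nr : ∃ g, ∃ π : Equiv.Perm ι, (∀ l, g * z l * g⁻¹ = z (π l)) ∧ ∃ i j, π i = i ∧ π j ≠ j) : False := by
  obtain ⟨τ, h1, h2⟩ := h.cyc_of hML hK cjY nl three tr
  obtain ⟨g, π, hπ, i, j, hi, hj⟩ := nr
  exact hj (eq_of_fix h1 (h2 g π hπ) hi j)

end norm

end Zf

end Cfsg.Agent.Omega.EDel

end

section


/-!
# NO-3L, box R, `q = 2`, one class: THEOREM S''T over `Lv`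

* **`Lv.false_T`** : the frame `FrL` over `B = C_S(Z_J)` of any level, UNI+ for `N_G(B)`, no 2-group `≠ 1` is normalised by
  `C_G(Z_J)` and all `L i`, `M = ⟨P*(S)⟩` transitive on the blocks, `|Ω₁Z(S)| ≥ 4`: contradiction.
-/

set_option autoImplicit false
set_option linter.unusedSectionVars false

namespace Cfsg.Agent.Omega.NOThreeL.RRed.BFr

open Subgroup Cfsg Cfsg.Agent.ZN.ChoiceBase
open Cfsg.Agent.ZN (jj zj bau zc zl o2)
open Cfsg.Agent.Omega.OM.Lev.Uni (FrL)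
open Cfsg.Agent.Omega.EDel (Zf YL)
open Cfsg.Agent.MinSimple.MinParabolic (IsMinPar)

universe u

variable {G : Type u} [Group G] {S : Sylow 2 G} {M V : Subgroup G} {Pt I : Type} [Fintype Pt] [DecidableEq Pt]
  [DecidableEq I] {D : Pts M V Pt I} {X L J : Subgroup G} {AA : Set (Subgroup G)}

namespace Lv

variable [Finite G] (h : Lv S D X L J AA) {Lb A : Idx D AA → Subgroup G}
  (fr : FrL (BB (S : Subgroup G) V J) ((S : Subgroup G) ⊓ centralizer (V : Set G)) V X (ZJ V J) Lb h.W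
      (fun i => zpowers (D.pe (xx i) (yy i))) (fun i => C D i) A 2)
include fr

theorem mem_Z_iff (i : Idx D AA) (x : G) :
    x ∈ zpowers (D.pe (xx i) (yy i)) ↔ x = 1 ∨ x = D.pe (xx i) (yy i) := by
  have hx : D.pe (xx i) (yy i) ^ 2 = 1 := by
    rw [pow_two]
    exact D.sq (D.pe_mem _ _)
  constructor
  · rintro ⟨n, rfl⟩
    have h2 : D.pe (xx i) (yy i) ^ (2 : ℤ) = 1 := by exact_mod_cast hx
    rcases Int.even_or_odd' n with ⟨c, rfl | rfl⟩
    · left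
      show D.pe (xx i) (yy i) ^ (2 * c) = 1
      rw [zpow_mul, h2, one_zpow]
    · right
      show D.pe (xx i) (yy i) ^ (2 * c + 1) = _
      rw [zpow_add, zpow_mul, h2, one_zpow, one_mul, zpow_one]
  · rintro (rfl | rfl)
    · exact one_mem _
    · exact mem_zpowers _

theorem pe_ne (i : Idx D AA) : D.pe (xx i) (yy i) ≠ 1 := by
  intro e
  have h1 := fr.cardZ i
  change Nat.card ↥(zpowers (D.pe (xx i) (yy i))) = 2 at h1
  rw [e, zpowers_one_eq_bot, Subgroup.card_bot] at h1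
  omega

theorem pe_inj {i j : Idx D AA} (e : D.pe (xx i) (yy i) = D.pe (xx j) (yy j)) : i = j := by
  by_contra hne
  have h1 : D.pe (xx i) (yy i) ∈ h.W i := (fr.blk i).ZV (mem_zpowers _)
  have h2 : D.pe (xx i) (yy i) ∈ C D i := by
    rw [e]
    exact fr.WjC i j hne ((fr.blk j).ZV (mem_zpowers _))
  have h3 : D.pe (xx i) (yy i) ∈ h.W i ⊓ C D i := ⟨h1, h2⟩
  rw [h.dir i, mem_bot] at h3
  exact pe_ne h fr i h3

theorem conj_pe {g : G} (hg : g ∈ normalizer (BB (S : Subgroup G) V J : Set G)) {i j : Idx D AA}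
    (e : cj g (h.W i) = h.W j) : g * D.pe (xx i) (yy i) * g⁻¹ = D.pe (xx j) (yy j) := by
  have e1 : cj g ⁅h.W i, BB (S : Subgroup G) V J⁆ = ⁅cj g (h.W i), cj g (BB (S : Subgroup G) V J)⁆ :=
    Subgroup.map_commutator _ _ _
  have e2 : ⁅h.W i, BB (S : Subgroup G) V J⁆ = zpowers (D.pe (xx i) (yy i)) := fr.comm_W i
  have e3 : ⁅h.W j, BB (S : Subgroup G) V J⁆ = zpowers (D.pe (xx j) (yy j)) := fr.comm_W j
  rw [e, cj_eq_of_mem_normalizer hg, e2, e3] at e1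
  have h1 : g * D.pe (xx i) (yy i) * g⁻¹ ∈ zpowers (D.pe (xx j) (yy j)) := by
    rw [← e1]
    exact ⟨_, mem_zpowers _, rfl⟩
  rcases (mem_Z_iff h fr j _).1 h1 with h2 | h2
  · exfalso
    apply pe_ne h fr i
    have h3 := congrArg (fun t => g⁻¹ * t * g) h2
    simpa [mul_assoc] using h3
  · exact h2

/-- **THEOREM S''T over `Lv`.** -/
theorem false_T [Nonempty Pt] (hML : ML.Final.MLK.{u, u}) (hG : IsCharacteristicTwoType G) (hK : IsKProper G)
    (syl : ∀ R : Subgroup G, R ≤ centralizer (ZJ V J : Set G) → IsPGroup 2 R → BB (S : Subgroup G) V J ≤ R →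
      R ≤ BB (S : Subgroup G) V J)
    (uni : ∀ g ∈ normalizer (BB (S : Subgroup G) V J : Set G), ∀ i, ∃ j, cj g (h.W i) = h.W j ∧
      cj g (Lb i) ≤ YL (ZJ V J) Lb j)
    (nl : ∀ U : Subgroup G, IsPGroup 2 U → centralizer (ZJ V J : Set G) ≤ normalizer (U : Set G) →
      (∀ i, Lb i ≤ normalizer (U : Set G)) → U = ⊥)
    (tr : ∀ x y : Pt, ∃ m ∈ M, D.blk (D.r m x) = D.blk y)
    (hM : M ≤ sSup {P : Subgroup G | IsMinPar (S : Subgroup G) P ∧ P ≤ M})
    (hz : zc (S : Subgroup G) ≤ ZJ V J) (h4 : 4 ≤ Nat.card (zc (S : Subgroup G))) : False := by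
  obtain ⟨i₀, -⟩ := h.exists_idx (Classical.arbitrary Pt)
  have hne : Nonempty (Idx D AA) := ⟨i₀⟩
  have three := h.three tr hz h4
  have zf : Zf (BB (S : Subgroup G) V J) ((S : Subgroup G) ⊓ centralizer (V : Set G)) V X (ZJ V J) Lb h.W
      (fun i => zpowers (D.pe (xx i) (yy i))) (fun i => C D i) A (fun i => D.pe (xx i) (yy i)) :=
    { hG := hG
      fr := fr
      hz := mem_Z_iff h fr
      Bp := S.isPGroup'.to_le inf_le_left
      syl := syl
      uni := fun g hg i => by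
        obtain ⟨j, hj, -⟩ := uni g hg i
        refine ⟨j, ?_, hj.le.trans le_sup_left⟩
        have h1 := conj_pe h fr hg hj
        show cj g (zpowers (D.pe (xx i) (yy i))) = zpowers (D.pe (xx j) (yy j))
        rw [← h1]
        exact MonoidHom.map_zpowers _ _ }
  obtain ⟨τ, h1, h2⟩ := zf.cyc_of hML hK
    (fun g hg i j hij => by
      obtain ⟨j', e1, e2⟩ := uni g hg i
      have e3 := (conj_pe h fr hg e1).symm.trans hij
      rwa [pe_inj h fr e3] at e2)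
    (fun U hU hU2 hn => hU (nl U hU2 (le_sup_left.trans (hn i₀)) fun i => le_sup_right.trans (hn i)))
    three
    (fun i j => by
      obtain ⟨g, hg, hgn, e⟩ := h.hM tr i j
      obtain ⟨π, hπ, -, -⟩ := h.exists_perm hg hgn
      exact ⟨g, π, fun l => conj_pe h fr hgn (hπ l), h.W_inj ((hπ i).symm.trans e)⟩)
  refine h.not_cyc tr hM hz h4 ⟨τ, h1, fun g hg hgn π hπ => h2 g π fun l => conj_pe h fr hgn (hπ l)⟩

end Lv

end Cfsg.Agent.Omega.NOThreeL.RRed.BFr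

end

section


/-!
# NO-3L, box R: the frame over `B` at stage `n` with `hM`

* **`Bd.frLM`** : 947's `Bd.frL` and: `M ∩ N(BL S n)` is transitive on the four-groups `W i`;
* `Bd.frM` : the same for the stage `-1`.
-/

set_option autoImplicit false
set_option linter.unusedSectionVars false

namespace Cfsg.Agent.Omega.NOThreeL.RRed.BFr

open Subgroup Cfsg Cfsg.Agent.ZN.ChoiceBase
open Cfsg.Agent.ZN (jj zj bau zc)
open Cfsg.Agent.Omega.NO3S.OneLine (BFam bo bo_fam)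
open Cfsg.Agent.Omega.NO3S.Level (lev Lev lev_isLev nxt BO)
open Cfsg.Agent.Omega.OM.SwapL (BL ZL)
open Cfsg.Agent.Omega.OM.Lev.Uni (FrL)

universe u

variable {G : Type u} [Group G] {S : Sylow 2 G} {M V : Subgroup G} {Pt I : Type} [Fintype Pt] [DecidableEq Pt]
  [DecidableEq I] {D : Pts M V Pt I}

namespace Bd

variable (h : Bd S D) [Finite G]
include h

/-- **THE FRAME OVER `B`, stage `n`, with `hM`.** -/
theorem frLM {n : ℕ} (VX : V ≤ zc (lev (S : Subgroup G) n))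
    (MK : M ≤ normalizer (lev (S : Subgroup G) n : Set G)) (mv : Mvb D (lev (S : Subgroup G) (n + 1)))
    (tr : ∀ x y : Pt, ∃ m ∈ M, D.blk (D.r m x) = D.blk y) :
    ∃ L W Z C A : Idx D (bo (S : Subgroup G) (zc (lev (S : Subgroup G) n))) → Subgroup G,
    (∀ i, L i ≤ M) ∧ FrL (BL (S : Subgroup G) n) ((S : Subgroup G) ⊓ centralizer (V : Set G)) V
      (zc (lev (S : Subgroup G) n)) (ZL (S : Subgroup G) n) L W Z C A 2 ∧
    ∀ i j, ∃ g ∈ M, g ∈ normalizer (BL (S : Subgroup G) n : Set G) ∧ cj g (W i) = W j := by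
  have hz : Lv.ZcQ (S : Subgroup G) V := fun x h1 h2 h3 =>
    h.zcQ_lev VX MK mv (mem_zc.2 ⟨h1, h2, fun y hy => (h3 y hy).symm⟩)
  obtain ⟨L, A, h1, -, -, h2⟩ := (h.lv VX MK mv).exists_frL hz
  have h3 := (h.lv VX MK mv).hM tr
  rw [BB, h.ZJ_lev VX MK mv] at h2 h3
  exact ⟨L, _, _, _, A, fun i => (h1 i).trans ((h.lv VX MK mv).XX_le_M i), h2, h3⟩

/-- **THE FRAME OVER `B`, stage `-1`, with `hM`.** -/
theorem frM [Nonempty Pt] (mv : Mvb D (jj (S : Subgroup G)))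
    (tr : ∀ x y : Pt, ∃ m ∈ M, D.blk (D.r m x) = D.blk y) :
    ∃ L W Z C A : Idx D (AA (S : Subgroup G)) → Subgroup G,
    (∀ i, L i ≤ M) ∧ OM.Uni.Fr (bau (S : Subgroup G)) ((S : Subgroup G) ⊓ centralizer (V : Set G)) V
      (zj (S : Subgroup G)) L W Z C A 2 (mm (S : Subgroup G)) ∧
    ∀ i j, ∃ g ∈ M, g ∈ normalizer (bau (S : Subgroup G) : Set G) ∧ cj g (W i) = W j := by
  have hz : Lv.ZcQ (S : Subgroup G) V := fun x h1 h2 h3 =>
    h.zcQ_neg mv (mem_zc.2 ⟨h1, h2, fun y hy => (h3 y hy).symm⟩)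
  obtain ⟨L, A, h1, hA, -, h2⟩ := (h.lv_neg mv).exists_frL hz
  have h3 := (h.lv_neg mv).hM tr
  rw [BB, h.ZJ_neg mv] at h2 h3
  refine ⟨L, (h.lv_neg mv).W, fun i => zpowers (D.pe (xx i) (yy i)), fun i => Lv.C D i, A, fun i =>
    (h1 i).trans ((h.lv_neg mv).XX_le_M i), ?_, h3⟩
  exact
    { max := OM.Uni.mx_sylow S
      blk := h2.blk
      cardZ := h2.cardZ
      QB := h2.QB
      VQ := h2.VQ
      el := V_elem D
      mem_Q := h2.mem_Q
      zcQ := h2.zcQ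
      mem_ZJ := h2.mem_ZJ
      LV := h2.LV
      LQ := h2.LQ
      WV := h2.WV
      CV := h2.CV
      WC := h2.WC
      dir := h2.dir
      C0 := h2.C0
      WjC := h2.WjC
      BC := h2.BC
      LC := h2.LC
      AB := h2.AB
      Ael := fun i => (hA i).1
      Am := fun i => (mm_eq (hA i)).symm
      Ane := h2.Ane
      AC := h2.AC }

end Bd

end Cfsg.Agent.Omega.NOThreeL.RRed.BFr

end

section


/-!
# THEOREM S''T (helper164 #27334) over `Zf`

* `Zf.coreR` : `CoreR` (no `sw`);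
* **`Zf.local_fix`** : transitive symmetries, one of them fixes a pair and moves another one: the `Y i = ⟨C_G(ZJ), L i⟩`
  normalise a common nontrivial 2-group;
* **`Zf.local_comm`** : or the symmetries commute and act semiregularly;
* `Zf.false_fix`, `Zf.false_comm` : the same with `nl`.
-/

set_option autoImplicit false
set_option linter.unusedSectionVars false

namespace Cfsg.Agent.Omega.EDel

open Subgroup Cfsg Cfsg.Agent.ZN.ChoiceBase
open Cfsg.Agent.ZN (zc zl o2 jj)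
open Cfsg.Agent.Omega.EK3 (CT mem_CT CT_mono)
open Cfsg.Agent.Omega.EK3.StarE (EE EE_le EE_mono le_EE norm_EE cj_le_EE cj_iSup_le)
open Cfsg.Agent.Omega.ESym.CoreS (EI Sy Core)
open Cfsg.Agent.Omega.ESym.CoreR (CoreR)
open Cfsg.Agent.ZN.ChoiceSit (Syl)

universe u

variable {G : Type u} [Group G] [Finite G] {ι : Type} [Finite ι] {B Q V X ZJ : Subgroup G}
  {L W Z C A : ι → Subgroup G} {z : ι → G}

namespace Zf

variable (h : Zf B Q V X ZJ L W Z C A z)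
include h

/-- **`CoreR` over `Zf`** -/
theorem coreR [Nonempty ι] (hML : ML.Final.MLK.{u, u}) (hK : ∀ i, IsKGroup (YL ZJ L i))
    (three : ∀ i j : ι, ∃ l, l ≠ i ∧ l ≠ j)
    (tr : ∀ i j, ∃ g, ∃ σ : Equiv.Perm ι,
      Sy (o2 (centralizer (ZJ : Set G))) (YL ZJ L) (NL ZJ L z) g σ ∧ σ i = j) :
    CoreR (o2 (centralizer (ZJ : Set G))) (centralizer (ZJ : Set G)) ZJ (YL ZJ L) (NL ZJ L z) where
  two := MinSimple.VModule.o2_isPGroup _
  OY i := (Cfsg.Agent.ZN.o2_le _).trans (D_le_YL i)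
  OZ := Cfsg.Agent.ZN.o2_le _
  DY := D_le_YL
  three := three
  ne := inferInstance
  eab I hI := h.EI_el h.YL_le_CT hI
  NE i := (h.N_le_EE i _).trans (EE_mono (le_iSup (fun i : ({i} : Set ι) => YL ZJ L i) ⟨i, rfl⟩))
  YN i := norm_EE _ _
  YQ i := h.YQ (D_le_YL i) (h.YL_le_CT i)
  no i := by
    obtain ⟨l, hl, -⟩ := three i i
    exact h.no hML (hK i) (D_le_YL i) (h.YL_le_CT i) ⟨l, hl⟩
  gen i K hKY hYK hm := by
    obtain ⟨l, hl, -⟩ := three i i
    exact h.gen ⟨l, hl⟩ hKY hYK hm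
  tr := tr

/-- `O₂(C_G(ZJ)) ≠ 1` -/
theorem o2_D_ne [Nonempty ι] (three : ∀ i j : ι, ∃ l, l ≠ i ∧ l ≠ j) : o2 (centralizer (ZJ : Set G)) ≠ ⊥ := by
  obtain ⟨i₀⟩ := ‹Nonempty ι›
  intro e
  obtain ⟨l, hl, -⟩ := three i₀ i₀
  have h1 : z i₀ ∈ EE ZJ (YL ZJ L i₀) := h.N_le_EE i₀ _ (z_mem_EE i₀ _)
  have h2 := h.E_le_O (T := ({i₀} : Set ι)ᶜ) ⟨l, hl⟩ (h.YL_le_CT i₀) h1
  rw [e, mem_bot] at h2
  exact h.z_ne i₀ h2

/-- some `Y i = G`, or all the `Y i` are `K`-groups -/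
theorem local_of_top (three : ∀ i j : ι, ∃ l, l ≠ i ∧ l ≠ j) {i : ι} (e : YL ZJ L i = ⊤) :
    ∃ R : Subgroup G, R ≠ ⊥ ∧ IsPGroup 2 R ∧ ∀ j, YL ZJ L j ≤ normalizer (R : Set G) := by
  obtain ⟨l, hl, -⟩ := three i i
  have h1 : ∀ g : G, g * z l = z l * g := fun g =>
    mem_CT.1 (h.YL_le_CT i (by rw [e]; exact mem_top g)) l hl
  refine ⟨zpowers (z l), fun e1 => h.z_ne l (zpowers_eq_bot.1 e1), ?_, fun j g _ => ?_⟩
  · refine h.Bp.to_le (zpowers_le.2 ?_)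
    have h2 : z l ∈ zc B := by
      rw [h.fr.zcB]
      exact h.z_mem l
    exact (mem_zc.1 h2).1
  · rw [mem_normalizer_iff_cj]
    refine cj_eq_of_mem_normalizer (centralizer_le_normalizer _ (mem_centralizer_iff.2 fun x hx => ?_))
    obtain ⟨n, rfl⟩ := hx
    exact ((show Commute g (z l) from h1 g).zpow_right n).eq.symm

section main

variable [Nonempty ι] (hML : ML.Final.MLK.{u, u}) (hK : IsKProper G)
  (cjY : ∀ g ∈ normalizer (B : Set G), ∀ i j, g * z i * g⁻¹ = z j → cj g (L i) ≤ YL ZJ L j)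
  (three : ∀ i j : ι, ∃ l, l ≠ i ∧ l ≠ j)
  (tr : ∀ i j, ∃ g, ∃ π : Equiv.Perm ι, (∀ l, g * z l * g⁻¹ = z (π l)) ∧ π i = j)

include hML hK cjY three tr

/-- **one symmetry which fixes a pair and moves another one** -/
theorem local_fix
    (fix : ∃ g, ∃ π : Equiv.Perm ι, (∀ l, g * z l * g⁻¹ = z (π l)) ∧ ∃ i₀ j₀, π i₀ = i₀ ∧ π j₀ ≠ j₀) :
    ∃ R : Subgroup G, R ≠ ⊥ ∧ IsPGroup 2 R ∧ ∀ j, YL ZJ L j ≤ normalizer (R : Set G) := by
  by_cases hT : ∃ i, YL ZJ L i = ⊤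
  · obtain ⟨i, e⟩ := hT
    exact h.local_of_top three e
  · push Not at hT
    refine (h.coreR hML (fun i => hK _ (hT i)) three (fun i j => ?_)).local_of_fix (h.o2_D_ne three) ?_
    · obtain ⟨g, π, hπ, h1⟩ := tr i j
      obtain ⟨g', hs⟩ := h.exists_sy cjY hπ
      exact ⟨g', π, hs, h1⟩
    · obtain ⟨g, π, hπ, i₀, j₀, h1, h2⟩ := fix
      obtain ⟨g', hs⟩ := h.exists_sy cjY hπ
      exact ⟨g', π, hs, i₀, j₀, h1, h2⟩

/-- **or the symmetries commute and act semiregularly** -/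
theorem local_comm :
    (∃ R : Subgroup G, R ≠ ⊥ ∧ IsPGroup 2 R ∧ ∀ j, YL ZJ L j ≤ normalizer (R : Set G)) ∨
      (∀ (g g' : G) (π π' : Equiv.Perm ι), (∀ l, g * z l * g⁻¹ = z (π l)) → (∀ l, g' * z l * g'⁻¹ = z (π' l)) →
        π * π' = π' * π) ∧
      ∀ (g : G) (π : Equiv.Perm ι), (∀ l, g * z l * g⁻¹ = z (π l)) → ∀ i, π i = i → π = 1 := by
  by_cases hT : ∃ i, YL ZJ L i = ⊤
  · obtain ⟨i, e⟩ := hT
    exact Or.inl (h.local_of_top three e)
  · push Not at hT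
    rcases (h.coreR hML (fun i => hK _ (hT i)) three (fun i j => by
      obtain ⟨g, π, hπ, h1⟩ := tr i j
      obtain ⟨g', hs⟩ := h.exists_sy cjY hπ
      exact ⟨g', π, hs, h1⟩)).local_or_comm (h.o2_D_ne three) with h1 | ⟨h1, h2⟩
    · exact Or.inl h1
    · refine Or.inr ⟨fun g g' π π' hπ hπ' => ?_, fun g π hπ i hi => ?_⟩
      · obtain ⟨g₁, hs⟩ := h.exists_sy cjY hπ
        obtain ⟨g₂, hs'⟩ := h.exists_sy cjY hπ'
        exact h1 g₁ g₂ π π' hs hs'
      · obtain ⟨g₁, hs⟩ := h.exists_sy cjY hπ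
        exact h2 g₁ π hs i hi

theorem false_fix (nl : ∀ U : Subgroup G, U ≠ ⊥ → IsPGroup 2 U → ¬ ∀ i, YL ZJ L i ≤ normalizer (U : Set G))
    (fix : ∃ g, ∃ π : Equiv.Perm ι, (∀ l, g * z l * g⁻¹ = z (π l)) ∧ ∃ i₀ j₀, π i₀ = i₀ ∧ π j₀ ≠ j₀) : False := by
  obtain ⟨R, h1, h2, h3⟩ := h.local_fix hML hK cjY three tr fix
  exact nl R h1 h2 h3

theorem false_comm (nl : ∀ U : Subgroup G, U ≠ ⊥ → IsPGroup 2 U → ¬ ∀ i, YL ZJ L i ≤ normalizer (U : Set G)) :
    (∀ (g g' : G) (π π' : Equiv.Perm ι), (∀ l, g * z l * g⁻¹ = z (π l)) → (∀ l, g' * z l * g'⁻¹ = z (π' l)) →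
        π * π' = π' * π) ∧
      ∀ (g : G) (π : Equiv.Perm ι), (∀ l, g * z l * g⁻¹ = z (π l)) → ∀ i, π i = i → π = 1 := by
  rcases h.local_comm hML hK cjY three tr with ⟨R, h1, h2, h3⟩ | h1
  · exact absurd h3 (nl R h1 h2)
  · exact h1

end main

end Zf

end Cfsg.Agent.Omega.EDel

end

end

-- merged: Cfsg.Agent.Mrg.Omega.NOThreeL.RRed.BFr.Top
section

section


/-!
# NO-3L, box R: the frame over `B` at a general level `X`

`X ≥ V*` elementary abelian, `M₀ = MZ S ≤ N_G(X)`, `J = nxtX S X` (`C_S(X)` and the best offenders of `S` on `X`),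
`Z_J = C_{V*}(J)`, `B = C_S(Z_J)`; e.g. `X = V*`.

* `Bd.lvX` : the level data; `Bd.zcQ_of` : `Ω₁Z(Q) ≤ X` implies `Ω₁Z(Q) ≤ V`;
* `Bd.frX` : the frame `FrL B Q V X Z_J L W Z C A 2`, if `Ω₁Z(Q) ≤ V`; `M ∩ N(B)` is transitive on the pairs;
* `all_blocks` : if `J` moves `V*` then `J` moves all blocks (`V*` irreducible); `nxtX_Wd` : true for `X = V*`;
* **`exists_frX`** : the frame from the blocks.
-/

set_option autoImplicit false
set_option linter.unusedSectionVars false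

namespace Cfsg.Agent.Omega.NOThreeL.RRed.BFr

open Subgroup Cfsg Cfsg.Agent.ZN.ChoiceBase Cfsg.Agent.Omega.MinPar Cfsg.Agent.Omega.Frame
open Cfsg.Agent.ZN (jj zj bau zc zl o2)
open Cfsg.Agent.Omega.NOThreeL.Merge (MZ le_MZ S_le_MZ isLoc_MZ zl_MZ_comm zl_MZ_isPGroup)
open Cfsg.Agent.Omega.NOThreeL.RTree (RB)
open Cfsg.Agent.Omega.NO1.BestOff (Best exists_best)
open Cfsg.Agent.Omega.NO3S.OneLine (BFam bo bo_fam)
open Cfsg.Agent.Omega.OM.Lev.Uni (FrL)
open Cfsg.Agent.Omega.NOThreeL.RZ (RR)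
open Cfsg.Agent.Omega.NOThreeL.RRed (Wd zl_le_Wd)
open Cfsg.Agent.Omega.NOThreeL.RRed.FourTree (Bks nxtX ffMod_rr)
open Cfsg.Agent.Omega.NOThreeL.RRed.HypJOf (Fx mem_fx best_le_fx par_move norm_nxtX norm_nxtX_of nxtX_le trans_of_irr
  ofd_of)
open scoped Pointwise

universe u

variable {G : Type u} [Group G]

theorem nxtX_eq (S X : Subgroup G) : nxtX S X = (S ⊓ centralizer (X : Set G)) ⊔ sSup (bo S X) := by
  have h : {A | A ≤ S ∧ Best X A} = bo S X := by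
    ext A
    constructor
    · rintro ⟨h1, h2⟩
      exact ⟨h1, h2.toElemM, fun B h3 h4 => h2.max B h4 h3⟩
    · rintro ⟨h1, h2, h3⟩
      exact ⟨h1, h2, fun B h4 h5 => h3 B h5 h4⟩
  rw [nxtX, h]

section abs

variable {S : Sylow 2 G} {M V : Subgroup G} {Pt I : Type} [Fintype Pt] [DecidableEq Pt] [DecidableEq I]
  {D : Pts M V Pt I}

namespace Bd

variable (h : Bd S D) [Finite G] {X : Subgroup G} (elX : IsElementaryAbelian 2 X) (VX : V ≤ X)
  (MX : M ≤ normalizer (X : Set G)) (mv : Mvb D (nxtX (S : Subgroup G) X))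
include h elX VX MX mv

/-- the level data at `X` -/
theorem lvX : Lv S D X (normalizer (X : Set G)) (nxtX (S : Subgroup G) X) (bo (S : Subgroup G) X) where
  SM := h.SM
  ML := MX
  fam := bo_fam _ _
  elX := elX
  VX := VX
  VS := h.VS
  MX g hg x hx := (mem_normalizer_iff.1 (MX hg) x).1 hx
  MQ := h.MQ
  AJ A hA := by
    rw [nxtX_eq]
    exact (le_sSup hA).trans le_sup_right
  JS := nxtX_le _ _
  Jg := by
    rw [nxtX_eq]
    exact sup_le ((inf_le_inf_left _ (centralizer_le VX)).trans le_sup_right) le_sup_left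
  mv := by
    refine mv_of (K := nxtX (S : Subgroup G) X) (C := (S : Subgroup G) ⊓ centralizer (X : Set G))
      ((sSup_le fun A hA => hA.1).trans h.SM) (inf_le_left.trans h.SM) (inf_le_right.trans (centralizer_le VX)) ?_ mv
    rw [nxtX_eq]

/-- `Ω₁Z(Q) ≤ X` implies `Ω₁Z(Q) ≤ V` -/
theorem zcQ_of (hX : zc ((S : Subgroup G) ⊓ centralizer (V : Set G)) ≤ X) : Lv.ZcQ (S : Subgroup G) V :=
  fun x h1 h2 h3 => (h.lvX elX VX MX mv).zcQ h.ZV hX (mem_zc.2 ⟨h1, h2, fun y hy => (h3 y hy).symm⟩)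

/-- **THE FRAME OVER `B` at the level `X`.** -/
theorem frX (hz : Lv.ZcQ (S : Subgroup G) V) (tr : ∀ x y : Pt, ∃ m ∈ M, D.blk (D.r m x) = D.blk y) :
    ∃ L W Z C A : Idx D (bo (S : Subgroup G) X) → Subgroup G, (∀ i, L i ≤ M) ∧
      FrL (BB (S : Subgroup G) V (nxtX (S : Subgroup G) X)) ((S : Subgroup G) ⊓ centralizer (V : Set G)) V X
        (ZJ V (nxtX (S : Subgroup G) X)) L W Z C A 2 ∧
      ∀ i j, ∃ g ∈ M, g ∈ normalizer (BB (S : Subgroup G) V (nxtX (S : Subgroup G) X) : Set G) ∧ cj g (W i) = W j := by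
  obtain ⟨L, A, h1, -, -, h2⟩ := (h.lvX elX VX MX mv).exists_frL hz
  exact ⟨L, _, _, _, A, fun i => (h1 i).trans ((h.lvX elX VX MX mv).XX_le_M i), h2, (h.lvX elX VX MX mv).hM tr⟩

end Bd

end abs

section box

variable [Finite G] {S : Sylow 2 G} {I : Type u} [Fintype I] [DecidableEq I] {N E : I → Subgroup G} {Om : I → Type u}
  [∀ i, Fintype (Om i)] [∀ i, DecidableEq (Om i)] {phi : ∀ i, Finset (Om i) → G}

/-- **If `nxtX S X` moves `V*` then it moves all blocks** (`V*` irreducible). -/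
theorem all_blocks (B : RB S) (hB : Bks S N E ⊥ Om phi)
    (irr : ∀ U : Subgroup G, U ≤ Wd (S : Subgroup G) → MZ (S : Subgroup G) ≤ normalizer (U : Set G) → U ≠ ⊥ →
      Wd (S : Subgroup G) ≤ U) {X : Subgroup G} (hXc : ∀ x ∈ X, ∀ y ∈ X, x * y = y * x)
    (VX : Wd (S : Subgroup G) ≤ X) (MX : MZ (S : Subgroup G) ≤ normalizer (X : Set G))
    (hj : ¬ nxtX (S : Subgroup G) X ≤ centralizer (Wd (S : Subgroup G) : Set G)) :
    ∀ b, ¬ nxtX (S : Subgroup G) X ≤ centralizer (N b : Set G) := by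
  have hG := B.ctx
  have hSM := S_le_MZ hG B.full
  have tr := trans_of_irr hB.toDec irr
  have hperm : ∀ g ∈ MZ (S : Subgroup G), ∀ b, ∃ c, MulAut.conj g • N b = N c := fun g hg b => by
    obtain ⟨c, hc, -⟩ := hB.toDec.perm g hg b
    exact ⟨c, hc⟩
  have hsup : (⨆ b, N b) = Wd (S : Subgroup G) := by
    have := hB.toDec.sup
    rwa [sup_bot_eq] at this
  have hmv : ∃ b, ¬ nxtX (S : Subgroup G) X ≤ centralizer (N b : Set G) := by
    by_contra hcon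
    push Not at hcon
    apply hj
    rw [le_centralizer_iff, ← hsup]
    exact iSup_le fun b => le_centralizer_iff.1 (hcon b)
  refine RWide.LemM.mv_all (PP := {P | IsParS (S : Subgroup G) P}) hperm ?_ tr hmv
  intro P hP
  refine par_move hperm hP (le_MZ hP) ?_ (nxtX_le _ _) ?_ fun h => norm_nxtX hP ((le_MZ hP).trans MX) h
  · refine sup_le ?_ (sSup_le fun A hA => best_le_fx hB.toFull (ofd_of hA.1 hSM hA.2) VX hXc)
    rintro c ⟨hcS, hcX⟩
    exact mem_fx.2 ⟨hSM hcS, fun b => hB.toDec.EN b (hB.toDec.CE b ⟨hSM hcS, centralizer_le VX hcX⟩)⟩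
  · exact norm_nxtX_of (hSM.trans MX) fun g hg x hx => mul_mem (mul_mem hg (nxtX_le _ _ hx)) (inv_mem hg)

omit [Finite G] in
/-- `V*` is FF: the best offenders of `S` on `V*` move `V*` -/
theorem nxtX_Wd [Finite G] (B : RB S) (hr : RR (S : Subgroup G) = ⊥) :
    ¬ nxtX (S : Subgroup G) (Wd (S : Subgroup G)) ≤ centralizer (Wd (S : Subgroup G) : Set G) := by
  obtain ⟨A, hA, ho⟩ := ffMod_rr B hr
  obtain ⟨A', h1, h2, h3⟩ := exists_best ho
  intro hc
  exact h3 ((le_sSup (show A' ∈ {A | A ≤ (S : Subgroup G) ∧ Best (Wd (S : Subgroup G)) A} from ⟨h1.trans hA, h2⟩)).trans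
    (le_sup_right.trans hc))

/-- **THE FRAME OVER `B` AT A GENERAL LEVEL `X`.** -/
theorem exists_frX (B : RB S) (hB : Bks S N E ⊥ Om phi)
    (irr : ∀ U : Subgroup G, U ≤ Wd (S : Subgroup G) → MZ (S : Subgroup G) ≤ normalizer (U : Set G) → U ≠ ⊥ →
      Wd (S : Subgroup G) ≤ U) {X : Subgroup G} (elX : IsElementaryAbelian 2 X) (VX : Wd (S : Subgroup G) ≤ X)
    (MX : MZ (S : Subgroup G) ≤ normalizer (X : Set G))
    (hz : zc ((S : Subgroup G) ⊓ centralizer (Wd (S : Subgroup G) : Set G)) ≤ X ∨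
      zc ((S : Subgroup G) ⊓ centralizer (Wd (S : Subgroup G) : Set G)) ≤ Wd (S : Subgroup G))
    (hj : ¬ nxtX (S : Subgroup G) X ≤ centralizer (Wd (S : Subgroup G) : Set G)) :
    ∃ (ι : Type) (_ : Finite ι) (L W Z C A : ι → Subgroup G), Nonempty ι ∧
      (∑ i, Fintype.card (Om i)) ≤ 2 * Nat.card ι + Fintype.card I ∧ (∀ i, L i ≤ MZ (S : Subgroup G)) ∧
      FrL (BB (S : Subgroup G) (Wd (S : Subgroup G)) (nxtX (S : Subgroup G) X))
        ((S : Subgroup G) ⊓ centralizer (Wd (S : Subgroup G) : Set G)) (Wd (S : Subgroup G)) X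
        (ZJ (Wd (S : Subgroup G)) (nxtX (S : Subgroup G) X)) L W Z C A 2 ∧
      ∀ i j, ∃ g ∈ MZ (S : Subgroup G),
        g ∈ normalizer (BB (S : Subgroup G) (Wd (S : Subgroup G)) (nxtX (S : Subgroup G) X) : Set G) ∧
          cj g (W i) = W j := by
  have hbd := bd_of B hB
  have hXc : ∀ x ∈ X, ∀ y ∈ X, x * y = y * x := SQ1.Bau.elem_comm elX
  have hm := mvb_of hB ((nxtX_le _ _).trans (S_le_MZ B.ctx B.full)) (all_blocks B hB irr hXc VX MX hj)
  have hl := hbd.lvX elX VX MX hm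
  have hzc : Lv.ZcQ (S : Subgroup G) (Wd (S : Subgroup G)) := by
    rcases hz with hz | hz
    · exact hbd.zcQ_of elX VX MX hm hz
    · exact fun x h1 h2 h3 => hz (mem_zc.2 ⟨h1, h2, fun y hy => (h3 y hy).symm⟩)
  obtain ⟨b⟩ := hB.nonempty
  have : Nonempty (Fin (Fintype.card (Σ i, Om i))) := by
    have h3 := hB.toFull.three b
    obtain ⟨a⟩ : Nonempty (Om b) := Fintype.card_pos_iff.1 (by omega)
    exact ⟨(fP Om).symm ⟨b, a⟩⟩
  obtain ⟨L, W, Z, C, A, h1, h2, h4⟩ := hbd.frX elX VX MX hm hzc ((ofFull hB.toFull).tr_of_irr irr)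
  refine ⟨_, inferInstance, L, W, Z, C, A, ?_, ?_, h1, h2, h4⟩
  · obtain ⟨i, -⟩ := hl.exists_idx (Classical.arbitrary _)
    exact ⟨i⟩
  · have h3 := card_le_idx hl
    rw [Fintype.card_fin, Fintype.card_fin] at h3
    exact (Fintype.card_sigma).ge.trans h3

end box

end Cfsg.Agent.Omega.NOThreeL.RRed.BFr

end

section


/-!
# NO-3L, box R, `q = 2`, one class: THEOREM S''T at the stage `n` (`q = 2`, any number of letters)

* **`false_levT`** : `RB S`, `V*` irreducible, `𝔽₂`-blocks, `|Ω₁Z(S)| ≥ 4`, `V* ≤ Ω₁Z(lev S n)`, `lev S (n+1)` moves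
  every block: contradiction (no LL, no UNI below the level).
-/

set_option autoImplicit false
set_option linter.unusedSectionVars false

namespace Cfsg.Agent.Omega.NOThreeL.RRed.BFr

open Subgroup Cfsg Cfsg.Agent.ZN.ChoiceBase Cfsg.Agent.Omega.MinPar Cfsg.Agent.Omega.Frame
open Cfsg.Agent.ZN (jj zj bau zc zl o2)
open Cfsg.Agent.Omega.NOThreeL.Merge (MZ le_MZ S_le_MZ)
open Cfsg.Agent.Omega.NOThreeL.RTree (RB)
open Cfsg.Agent.Omega.NO3S.Level (lev Lev lev_isLev nxt BO)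
open Cfsg.Agent.Omega.OM.SwapL (BL ZL lb)
open Cfsg.Agent.Omega.OM.Lev.Uni (FrL)
open Cfsg.Agent.Omega.NOThreeL.RRed (Wd zl_le_Wd)
open Cfsg.Agent.Omega.NOThreeL.RRed.FourTree (Bks)
open Cfsg.Agent.Omega.Node.MultiOf (FBl)
open Cfsg.Agent.Omega.Node.MulX (uniTwoX)
open Cfsg.Agent.Omega.EDel (YL le_YL_of)

universe u

variable {G : Type u} [Group G] [Finite G] {S : Sylow 2 G}

/-- UNI+ for `N_G(B)` at the stage `n` -/
theorem uni_levT {ι : Type} [Finite ι] {n : ℕ} {Q V : Subgroup G} {L W Z C A : ι → Subgroup G}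
    (fr : FrL (BL (S : Subgroup G) n) Q V (zc (lev (S : Subgroup G) n)) (ZL (S : Subgroup G) n) L W Z C A 2)
    {g : G} (hg : g ∈ normalizer (BL (S : Subgroup G) n : Set G)) (i : ι) :
    ∃ j, cj g (W i) = W j ∧ cj g (L i) ≤ YL (ZL (S : Subgroup G) n) L j := by
  have hL := lev_isLev (S : Subgroup G) n
  have hX : g ∈ normalizer (zc (lev (S : Subgroup G) n) : Set G) :=
    NO3S.Level.normalizer_le_zc _ (OM.Lev.Wc.norm_B_Lev hL rfl hg)
  have hb : FBl (BL (S : Subgroup G) n) (L i) (W i) :=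
    ⟨⟨_, _, fr.blk i⟩, (fr.blk i).toBlock (fr.cardZ i) (lb S n).Bp (lb S n).weakNormal⟩
  obtain ⟨j, h1, h2⟩ := uniTwoX S hL rfl rfl fr (L' := cj g (L i)) (V' := cj g (W i)) ⟨hb.conj hg, by
    rw [← cj_eq_of_mem_normalizer hX]
    exact cj_mono g ((fr.WV i).trans fr.VX)⟩
  exact ⟨j, h1, le_YL_of h2⟩

/-- `M₀` is generated by minimal parabolics -/
theorem MZ_le_sSup : MZ (S : Subgroup G) ≤ sSup {P : Subgroup G |
    MinSimple.MinParabolic.IsMinPar (S : Subgroup G) P ∧ P ≤ MZ (S : Subgroup G)} :=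
  sSup_le fun P hP => le_sSup ⟨(show IsParS (S : Subgroup G) P from hP).toIsMinPar, le_MZ hP⟩

variable {I : Type u} [Fintype I] [DecidableEq I] {N E : I → Subgroup G} {Om : I → Type u}
  [∀ i, Fintype (Om i)] [∀ i, DecidableEq (Om i)] {phi : ∀ i, Finset (Om i) → G}

/-- **`𝔽₂`-blocks, one class, stage `n`.** -/
theorem false_levT (hML : ML.Final.MLK.{u, u}) (B : RB S) (hB : Bks S N E ⊥ Om phi)
    (h4 : 4 ≤ Nat.card (zc (S : Subgroup G)))
    (irr : ∀ U : Subgroup G, U ≤ Wd (S : Subgroup G) → MZ (S : Subgroup G) ≤ normalizer (U : Set G) → U ≠ ⊥ →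
      Wd (S : Subgroup G) ≤ U) {n : ℕ}
    (hX : Wd (S : Subgroup G) ≤ zc (lev (S : Subgroup G) n))
    (hj : ∀ b, ¬ lev (S : Subgroup G) (n + 1) ≤ centralizer (N b : Set G)) : False := by
  have hG := B.ctx.char2
  have hbd := bd_of B hB
  have hm := mvb_of hB ((NO3S.Level.lev_le _ _).trans (S_le_MZ B.ctx B.full)) hj
  have hK := MZ_norm_lev B hX
  have hl := hbd.lv hX hK hm
  have hzq : Lv.ZcQ (S : Subgroup G) (Wd (S : Subgroup G)) := fun x h1 h2 h3 =>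
    hbd.zcQ_lev hX hK hm (mem_zc.2 ⟨h1, h2, fun y hy => (h3 y hy).symm⟩)
  obtain ⟨Lb, A, h1, -, -, h2⟩ := hl.exists_frL hzq
  have hLM : ∀ i, Lb i ≤ MZ (S : Subgroup G) := fun i => (h1 i).trans (hl.XX_le_M i)
  have eZ : ZJ (Wd (S : Subgroup G)) (lev (S : Subgroup G) (n + 1)) = ZL (S : Subgroup G) n := hbd.ZJ_lev hX hK hm
  have eB : BB (S : Subgroup G) (Wd (S : Subgroup G)) (lev (S : Subgroup G) (n + 1)) = BL (S : Subgroup G) n := by
    rw [BB, eZ]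
    rfl
  have h2' := h2
  rw [eB, eZ] at h2'
  obtain ⟨b⟩ := hB.nonempty
  have hPt : Nonempty (Fin (Fintype.card (Σ i, Om i))) := by
    have h3 := hB.toFull.three b
    obtain ⟨a⟩ : Nonempty (Om b) := Fintype.card_pos_iff.1 (by omega)
    exact ⟨(fP Om).symm ⟨b, a⟩⟩
  have hSZ : (S : Subgroup G) ≤ normalizer (ZL (S : Subgroup G) n : Set G) :=
    (le_normalizer (H := (S : Subgroup G))).trans
      ((lb S n).nrm _ S.isPGroup' (((lb S n).KB.trans (lb S n).eqB.le).trans inf_le_left))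
  refine hl.false_T h2 hML hG B.ctx.kproper ?_ ?_ ?_ ((ofFull hB.toFull).tr_of_irr irr) MZ_le_sSup ?_ h4
  · rw [eB, eZ]
    exact fun R hR hR2 hBR => ((OM.WOneG.syl_B S (lb S n).eqB hSZ).2.2 R hR hR2 hBR).le
  · rw [eB, eZ]
    exact fun g hg i => uni_levT h2' hg i
  · rw [eZ]
    exact fun U hU hD hLU => VSup.nl_lev B h2' hLM hU hD hLU
  · rw [eZ]
    exact (lev_isLev (S : Subgroup G) (n + 1)).zc_le

end Cfsg.Agent.Omega.NOThreeL.RRed.BFr

end

section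


/-!
# NO-3L, box R, `q = 2`, one class, the top level `(Q, V*)`: `⟨C_G(Z_J), L i⟩` is local

`hl : LevX S K V*` (e.g. `K = Q = C_S(V*)`), `Ω₁Z(Q) ≤ V*`, `J = nxtX S V*`, `Z_J = C_{V*}(J)`, `B = C_S(Z_J)`.

* `lev_J`, `ZJ_eq` : `J` is a level, `Z_J = Ω₁(Z(J))`; `norm_B_le` : `N_G(B) ≤ N_G(V*)`; `wc_B`, `syl_B`;
* `uni_top` : UNI+ for `N_G(B)`;
* `false_top` : THEOREM S''T at `(Q, V*)`;
* **`exists_top`** : the frame over `B` and a 2-group `R ≠ 1` normalised by `C_G(Z_J)` and all `L i`; `three` : at least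
  three pairs;
* **`o2_ne_top`** : `O₂(⟨C_G(Z_J), L i⟩) ≠ 1`.
-/

set_option autoImplicit false
set_option linter.unusedSectionVars false

namespace Cfsg.Agent.Omega.NOThreeL.RRed.BFr

open Subgroup Cfsg Cfsg.Agent.ZN.ChoiceBase Cfsg.Agent.Omega.MinPar Cfsg.Agent.Omega.Frame
open Cfsg.Agent.ZN (jj zj bau zc zl o2)
open Cfsg.Agent.Omega.NOThreeL.Merge (MZ le_MZ S_le_MZ)
open Cfsg.Agent.Omega.NOThreeL.RTree (RB)
open Cfsg.Agent.Omega.NO3S.Level (Lev)
open Cfsg.Agent.Omega.NO3S.OneLine (bo)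
open Cfsg.Agent.Omega.OM.Lev.Uni (FrL)
open Cfsg.Agent.Omega.NOThreeL.RZ (RR)
open Cfsg.Agent.Omega.NOThreeL.RRed (Wd zl_le_Wd)
open Cfsg.Agent.Omega.NOThreeL.RRed.FourTree (Bks nxtX LevX)
open Cfsg.Agent.Omega.NOThreeL.RRed.HypJOf (nxtX_le)
open Cfsg.Agent.Omega.Node.MultiOf (FBl)
open Cfsg.Agent.Omega.EDel (YL le_YL_of)

universe u

variable {G : Type u} [Group G]

section lev

variable [Finite G] {S : Sylow 2 G} {K V : Subgroup G}

/-- `J = nxtX S X` is a level -/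
theorem lev_J {X : Subgroup G} (h : LevX (S : Subgroup G) K X) : Lev (S : Subgroup G) (nxtX (S : Subgroup G) X) :=
  RLev.nextX h.toLev h.Xle h.Xn

theorem K_le_J {X : Subgroup G} (h : LevX (S : Subgroup G) K X) : K ≤ nxtX (S : Subgroup G) X :=
  RLev.le_nxtX h.le h.Xle

theorem J_le_BB (S V J : Subgroup G) (hJ : J ≤ S) : J ≤ BB S V J := fun a ha =>
  mem_inf.2 ⟨hJ ha, mem_centralizer_iff.2 fun z hz => (mem_centralizer_iff.1 (mem_inf.1 hz).2 a ha).symm⟩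

/-- `Z_J = Ω₁(Z(J))` -/
theorem ZJ_eq (hV : IsElementaryAbelian 2 V) (hVS : V ≤ (S : Subgroup G))
    (hz : zc ((S : Subgroup G) ⊓ centralizer (V : Set G)) ≤ V) :
    ZJ V (nxtX (S : Subgroup G) V) = zc (nxtX (S : Subgroup G) V) := by
  have hVc : V ≤ centralizer (V : Set G) := fun v hv => mem_centralizer_iff.2 fun w hw =>
    SQ1.Bau.elem_comm hV w hw v hv
  have hQJ : (S : Subgroup G) ⊓ centralizer (V : Set G) ≤ nxtX (S : Subgroup G) V := le_sup_left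
  have hVJ : V ≤ nxtX (S : Subgroup G) V := (le_inf hVS hVc).trans hQJ
  apply le_antisymm
  · intro v hv
    obtain ⟨h1, h2⟩ := mem_inf.1 hv
    refine mem_zc.2 ⟨hVJ h1, SQ1.Bau.elem_sq hV v h1, fun y hy => mem_centralizer_iff.1 h2 y hy⟩
  · intro v hv
    obtain ⟨h1, h2, h3⟩ := mem_zc.1 hv
    have hvQ : v ∈ (S : Subgroup G) ⊓ centralizer (V : Set G) :=
      mem_inf.2 ⟨nxtX_le _ _ h1, mem_centralizer_iff.2 fun w hw => h3 w (hVJ hw)⟩
    exact mem_inf.2 ⟨hz (mem_zc.2 ⟨hvQ, h2, fun y hy => h3 y (hQJ hy)⟩), mem_centralizer_iff.2 fun y hy => h3 y hy⟩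

variable (hl : LevX (S : Subgroup G) K V)
include hl

theorem norm_B_le : normalizer (BB (S : Subgroup G) V (nxtX (S : Subgroup G) V) : Set G) ≤ normalizer (V : Set G) :=
  (hl.norm _ ((K_le_J hl).trans (J_le_BB _ _ _ (nxtX_le _ _))) inf_le_left).trans hl.Xn

theorem wc_B (hV : IsElementaryAbelian 2 V) (hVS : V ≤ (S : Subgroup G))
    (hz : zc ((S : Subgroup G) ⊓ centralizer (V : Set G)) ≤ V) :
    OM.WeakCl.WC (BB (S : Subgroup G) V (nxtX (S : Subgroup G) V)) :=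
  OM.Lev.Wc.wc_cent_Lev (lev_J hl) (by unfold BB; rw [ZJ_eq hV hVS hz])

theorem S_norm_ZJ (hV : IsElementaryAbelian 2 V) (hVS : V ≤ (S : Subgroup G))
    (hz : zc ((S : Subgroup G) ⊓ centralizer (V : Set G)) ≤ V) :
    (S : Subgroup G) ≤ normalizer (ZJ V (nxtX (S : Subgroup G) V) : Set G) := by
  rw [ZJ_eq hV hVS hz]
  exact OM.Lev.Wc.S_norm_Lev (lev_J hl)

/-- `B` is Sylow in `C_G(Z_J)` -/
theorem syl_top (hV : IsElementaryAbelian 2 V) (hVS : V ≤ (S : Subgroup G))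
    (hz : zc ((S : Subgroup G) ⊓ centralizer (V : Set G)) ≤ V) {R : Subgroup G}
    (hR : R ≤ centralizer (ZJ V (nxtX (S : Subgroup G) V) : Set G)) (hR2 : IsPGroup 2 R)
    (hBR : BB (S : Subgroup G) V (nxtX (S : Subgroup G) V) ≤ R) :
    R ≤ BB (S : Subgroup G) V (nxtX (S : Subgroup G) V) :=
  ((OM.WOneG.syl_B S rfl (S_norm_ZJ hl hV hVS hz)).2.2 R hR hR2 hBR).le

/-- **UNI+ for `N_G(B)`** -/
theorem uni_top {ι : Type} [Finite ι] {Q : Subgroup G} {L W Z C A : ι → Subgroup G}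
    (hVS : V ≤ (S : Subgroup G)) (hz : zc ((S : Subgroup G) ⊓ centralizer (V : Set G)) ≤ V)
    (fr : FrL (BB (S : Subgroup G) V (nxtX (S : Subgroup G) V)) Q V V (ZJ V (nxtX (S : Subgroup G) V)) L W Z C A 2)
    {g : G} (hg : g ∈ normalizer (BB (S : Subgroup G) V (nxtX (S : Subgroup G) V) : Set G)) (i : ι) :
    ∃ j, cj g (W i) = W j ∧ cj g (L i) ≤ YL (ZJ V (nxtX (S : Subgroup G) V)) L j := by
  have hwc := wc_B hl fr.elX hVS hz
  have hB : IsPGroup 2 (BB (S : Subgroup G) V (nxtX (S : Subgroup G) V)) := S.isPGroup'.to_le inf_le_left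
  have hp : ∀ g ∈ normalizer (BB (S : Subgroup G) V (nxtX (S : Subgroup G) V) : Set G), ∀ j, ∃ k,
      cj g (Z j) = Z k := by
    intro g hg j
    obtain ⟨k, hk, -⟩ := (fr.norm_of hg (norm_B_le hl hg)).2 j
    exact ⟨k, hk⟩
  have h1 := (fr.blk i).conj g
  rw [cj_eq_of_mem_normalizer hg] at h1
  obtain ⟨-, k, -, -, -, -, h2⟩ := OM.Lev.UniPlus.uniPlusX fr hB hwc hp h1 (by
    rw [← cj_eq_of_mem_normalizer (norm_B_le hl hg)]
    exact cj_mono g (fr.WV i))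
  obtain ⟨h3, h4⟩ := h2 rfl
  exact ⟨k, h3, le_YL_of h4⟩

end lev

section box

variable [Finite G] {S : Sylow 2 G} {I : Type u} [Fintype I] [DecidableEq I] {N E : I → Subgroup G} {Om : I → Type u}
  [∀ i, Fintype (Om i)] [∀ i, DecidableEq (Om i)] {phi : ∀ i, Finset (Om i) → G}

/-- **THE TOP LEVEL**: the frame over `B`, at least three pairs, and `⟨C_G(Z_J), L i⟩` normalises a 2-group `≠ 1`. -/
theorem exists_top (hML : ML.Final.MLK.{u, u}) (B : RB S) (hr : RR (S : Subgroup G) = ⊥) (hB : Bks S N E ⊥ Om phi)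
    (h4 : 4 ≤ Nat.card (zc (S : Subgroup G)))
    (irr : ∀ U : Subgroup G, U ≤ Wd (S : Subgroup G) → MZ (S : Subgroup G) ≤ normalizer (U : Set G) → U ≠ ⊥ →
      Wd (S : Subgroup G) ≤ U) {K : Subgroup G} (hl : LevX (S : Subgroup G) K (Wd (S : Subgroup G)))
    (hz : zc ((S : Subgroup G) ⊓ centralizer (Wd (S : Subgroup G) : Set G)) ≤ Wd (S : Subgroup G)) :
    ∃ (ι : Type) (_ : Finite ι) (L W Z C A : ι → Subgroup G), Nonempty ι ∧ (∀ i j : ι, ∃ l, l ≠ i ∧ l ≠ j) ∧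
      (∀ i, L i ≤ MZ (S : Subgroup G)) ∧
      FrL (BB (S : Subgroup G) (Wd (S : Subgroup G)) (nxtX (S : Subgroup G) (Wd (S : Subgroup G))))
        ((S : Subgroup G) ⊓ centralizer (Wd (S : Subgroup G) : Set G)) (Wd (S : Subgroup G)) (Wd (S : Subgroup G))
        (ZJ (Wd (S : Subgroup G)) (nxtX (S : Subgroup G) (Wd (S : Subgroup G)))) L W Z C A 2 ∧
      (∀ i j, ∃ g ∈ MZ (S : Subgroup G),
        g ∈ normalizer (BB (S : Subgroup G) (Wd (S : Subgroup G))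
          (nxtX (S : Subgroup G) (Wd (S : Subgroup G))) : Set G) ∧ cj g (W i) = W j) ∧
      ∃ R : Subgroup G, R ≠ ⊥ ∧ IsPGroup 2 R ∧
        centralizer (ZJ (Wd (S : Subgroup G)) (nxtX (S : Subgroup G) (Wd (S : Subgroup G))) : Set G) ≤
          normalizer (R : Set G) ∧ ∀ i, L i ≤ normalizer (R : Set G) := by
  have hbd := bd_of B hB
  have elX : IsElementaryAbelian 2 (Wd (S : Subgroup G)) := V_elem (ofFull hB.toFull)
  have hXc := SQ1.Bau.elem_comm elX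
  have MX : MZ (S : Subgroup G) ≤ normalizer (Wd (S : Subgroup G) : Set G) := hl.MX
  have hm := mvb_of hB ((nxtX_le _ _).trans (S_le_MZ B.ctx B.full))
    (all_blocks B hB irr hXc le_rfl MX (nxtX_Wd B hr))
  have hlv := hbd.lvX elX le_rfl MX hm
  have hzc : Lv.ZcQ (S : Subgroup G) (Wd (S : Subgroup G)) := fun x h1 h2 h3 =>
    hz (mem_zc.2 ⟨h1, h2, fun y hy => (h3 y hy).symm⟩)
  obtain ⟨b⟩ := hB.nonempty
  have hPt : Nonempty (Fin (Fintype.card (Σ i, Om i))) := by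
    have h3 := hB.toFull.three b
    obtain ⟨a⟩ : Nonempty (Om b) := Fintype.card_pos_iff.1 (by omega)
    exact ⟨(fP Om).symm ⟨b, a⟩⟩
  obtain ⟨Lb, A, h1, -, -, h2⟩ := hlv.exists_frL hzc
  have tr := (ofFull hB.toFull).tr_of_irr irr
  have hVS := hbd.VS
  have hzZ : zc (S : Subgroup G) ≤ ZJ (Wd (S : Subgroup G)) (nxtX (S : Subgroup G) (Wd (S : Subgroup G))) := fun v hv =>
    mem_inf.2 ⟨hbd.ZV hv, mem_centralizer_iff.2 fun y hy => (mem_zc.1 hv).2.2 y (nxtX_le _ _ hy)⟩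
  obtain ⟨i₀, -⟩ := hlv.exists_idx (Classical.arbitrary _)
  have : Nonempty (Idx (ofFull hB.toFull) (bo (S : Subgroup G) (Wd (S : Subgroup G)))) := ⟨i₀⟩
  refine ⟨_, inferInstance, Lb, hlv.W, _, _, A, ⟨i₀⟩, hlv.three tr hzZ h4, fun i => (h1 i).trans (hlv.XX_le_M i), h2,
    hlv.hM tr, ?_⟩
  by_contra hno
  push Not at hno
  refine hlv.false_T h2 hML B.ctx.char2 B.ctx.kproper (fun R hR hR2 hBR => syl_top hl elX hVS hz hR hR2 hBR)
    (fun g hg i => uni_top hl hVS hz h2 hg i) (fun U hU hD hLU => ?_) tr MZ_le_sSup hzZ h4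
  by_contra hU1
  obtain ⟨i, hi⟩ := hno U hU1 hU hD
  exact hi (hLU i)

/-- **THEOREM S''T at `(Q, V*)`.** -/
theorem false_top (hML : ML.Final.MLK.{u, u}) (B : RB S) (hr : RR (S : Subgroup G) = ⊥) (hB : Bks S N E ⊥ Om phi)
    (h4 : 4 ≤ Nat.card (zc (S : Subgroup G)))
    (irr : ∀ U : Subgroup G, U ≤ Wd (S : Subgroup G) → MZ (S : Subgroup G) ≤ normalizer (U : Set G) → U ≠ ⊥ →
      Wd (S : Subgroup G) ≤ U) {K : Subgroup G} (hl : LevX (S : Subgroup G) K (Wd (S : Subgroup G)))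
    (hz : zc ((S : Subgroup G) ⊓ centralizer (Wd (S : Subgroup G) : Set G)) ≤ Wd (S : Subgroup G))
    (loc : ∀ (ι : Type) (L W Z C A : ι → Subgroup G), Finite ι → Nonempty ι → (∀ i j : ι, ∃ l, l ≠ i ∧ l ≠ j) →
      (∀ i, L i ≤ MZ (S : Subgroup G)) →
      FrL (BB (S : Subgroup G) (Wd (S : Subgroup G)) (nxtX (S : Subgroup G) (Wd (S : Subgroup G))))
        ((S : Subgroup G) ⊓ centralizer (Wd (S : Subgroup G) : Set G)) (Wd (S : Subgroup G)) (Wd (S : Subgroup G))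
        (ZJ (Wd (S : Subgroup G)) (nxtX (S : Subgroup G) (Wd (S : Subgroup G)))) L W Z C A 2 →
      (∀ i j, ∃ g ∈ MZ (S : Subgroup G),
        g ∈ normalizer (BB (S : Subgroup G) (Wd (S : Subgroup G))
          (nxtX (S : Subgroup G) (Wd (S : Subgroup G))) : Set G) ∧ cj g (W i) = W j) →
      ∀ R : Subgroup G, R ≠ ⊥ → IsPGroup 2 R →
        centralizer (ZJ (Wd (S : Subgroup G)) (nxtX (S : Subgroup G) (Wd (S : Subgroup G))) : Set G) ≤
          normalizer (R : Set G) → (∀ i, L i ≤ normalizer (R : Set G)) → False) : False := by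
  obtain ⟨ι, h1, L, W, Z, C, A, h2, h3, h5, h6, h7, R, h8, h9, h10, h11⟩ := exists_top hML B hr hB h4 irr hl hz
  exact loc ι L W Z C A h1 h2 h3 h5 h6 h7 R h8 h9 h10 h11

omit [Finite G] in
/-- a group `H ≥ C_G(Z_J)` normalising a 2-group `R ≠ 1` has `O₂(H) ≠ 1` -/
theorem o2_ne_of [Finite G] {J H R : Subgroup G} {V : Subgroup G} (hV : V ≤ (S : Subgroup G))
    (hVc : ∀ x ∈ V, ∀ y ∈ V, x * y = y * x)
    (hH : centralizer (ZJ V J : Set G) ≤ H) (hR1 : R ≠ ⊥) (hR : IsPGroup 2 R) (hn : H ≤ normalizer (R : Set G)) :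
    o2 H ≠ ⊥ := by
  have hBp : IsPGroup 2 (BB (S : Subgroup G) V J) := S.isPGroup'.to_le inf_le_left
  have hBH : BB (S : Subgroup G) V J ≤ H := inf_le_right.trans hH
  have h1 : zc R ≠ ⊥ := MinSimple.Basic.zc_ne_bot hR hR1
  have hn1 : normalizer (R : Set G) ≤ normalizer (zc R : Set G) := NO3S.Level.normalizer_le_zc _
  obtain ⟨c, hc, hc1, hcB⟩ := exists_fix_ne hBp (C := zc R) (fun c hc => by
    rw [← pow_two]; exact (mem_zc.1 hc).2.1) h1 fun s hs c hc =>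
      (mem_normalizer_iff.1 (hn1 (hn (hBH hs))) c).1 hc
  have hZB : ZJ V J ≤ BB (S : Subgroup G) V J := fun v hv => mem_inf.2 ⟨hV (mem_inf.1 hv).1,
    mem_centralizer_iff.2 fun w hw => hVc w (mem_inf.1 hw).1 v (mem_inf.1 hv).1⟩
  have hcH : c ∈ H := hH (mem_centralizer_iff.2 fun z hz => hcB z (hZB hz))
  have hcR : c ∈ R := (mem_zc.1 hc).1
  have h2 : R ⊓ H ≤ o2 H := by
    refine MinSimple.VModule.le_o2 inf_le_right (hR.to_le inf_le_left) fun g hg => ?_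
    rw [mem_normalizer_iff_cj, cj_inf, cj_eq_of_mem_normalizer (hn hg), cj_eq_of_mem_normalizer (le_normalizer hg)]
  intro e
  rw [e] at h2
  exact hc1 (mem_bot.1 (h2 (mem_inf.2 ⟨hcR, hcH⟩)))

end box

end Cfsg.Agent.Omega.NOThreeL.RRed.BFr

end

section


/-!
# NO-3L, box R, one class, top level `(Q, V*)`, `Q = C_S(V*)`: the frame

`Z_J = Ω₁Z(nxt S Q)` (`ZK S Q`), `B = C_S(Z_J)` (`BK S Q`).

* `nxtX_zc`, `zk_eq`, `bk_eq` : the bridge between `SwapK.{ZK, BK}` and helper947's `BFr.{ZJ, BB}`;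
* **`frLM_top`** : the frame `FrL (BK S Q) Q V* V* (ZK S Q) L W Z C A 2` from the blocks, with `L i ≤ MZ S` and
  `MZ S ∩ N(B)` transitive on the pairs;
* `hall` : `Q ≤ O₂(P)`, `P ∈ P*(S)`; `of_frL`, `wd_eq` : `V* = ⟨V_P⟩`; `low`, **`noff`** : the last fields of helper587's
  `LtV`.
-/

set_option autoImplicit false
set_option linter.unusedSectionVars false

namespace Cfsg.Agent.Omega.NOThreeL.QWR.FrTop

open Subgroup Cfsg Cfsg.Agent.Omega.MinPar Cfsg.Agent.Omega.Frame Cfsg.Agent.Omega.FrameNOFF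
open Cfsg.Agent.ZN.ChoiceBase Cfsg.Agent.ZN.ChoiceSit
open Cfsg.Agent.ZN (zc zl o2 zj bau jj)
open Cfsg.Agent.Omega.NO3S.Level (lev Lev nxt)
open Cfsg.Agent.Omega.OM.SwapK (ZK BK WL)
open Cfsg.Agent.Omega.OM.Uni (FB)
open Cfsg.Agent.Omega.OM.Lev.Uni (FrL)
open Cfsg.Agent.Omega.NOThreeL.RZ (RR)
open Cfsg.Agent.Omega.NOThreeL.RTree (RB)
open Cfsg.Agent.Omega.NOThreeL.Merge (MZ le_MZ S_le_MZ isLoc_MZ)
open Cfsg.Agent.Omega.NOThreeL.RRed (Wd zl_le_Wd wcomm le_norm_Wd)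
open Cfsg.Agent.Omega.NOThreeL.RRed.FourTree (Bks nxtX)
open Cfsg.Agent.Omega.NOThreeL.RRed.BFr (ZJ BB exists_frX nxtX_Wd Noff.comm_T Noff.low)
open Cfsg.Agent.Omega.NOThreeL.RRed.BFr.VSup (Fx)

universe u

variable {G : Type u} [Group G]

/-- `Q = C_S(V*)` -/
abbrev QT (S : Subgroup G) : Subgroup G := S ⊓ centralizer (Wd S : Set G)

theorem nxtX_zc (S K : Subgroup G) : nxtX S (zc K) = nxt S K := rfl

theorem zk_eq {S K V : Subgroup G} [Finite G] (h : Lev S K) (hz : zc K = V) : ZK S K = ZJ V (nxt S K) := by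
  have hKn : K ≤ nxt S K := NO3S.Level.le_nxt h.le
  apply le_antisymm
  · intro x hx
    have h1 : x ∈ zc (nxt S K) := hx
    refine ⟨hz.le (h.zc_le_zc hKn (NO3S.Level.nxt_le _ _) h1), mem_centralizer_iff.2 fun a ha => ?_⟩
    exact (mem_zc.1 h1).2.2 a ha
  · rintro x ⟨hx, hxA⟩
    have h1 := mem_zc.1 (hz.ge hx)
    exact mem_zc.2 ⟨hKn h1.1, h1.2.1, fun a ha => mem_centralizer_iff.1 hxA a ha⟩

theorem bk_eq {S K V : Subgroup G} [Finite G] (h : Lev S K) (hz : zc K = V) : BK S K = BB S V (nxt S K) := by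
  have h1 := zk_eq h hz
  unfold ZK at h1
  unfold BK BB
  rw [h1]

variable [Finite G] {S : Sylow 2 G}

section frame

variable {I : Type u} [Fintype I] [DecidableEq I] {N E : I → Subgroup G} {Om : I → Type u}
  [∀ i, Fintype (Om i)] [∀ i, DecidableEq (Om i)] {phi : ∀ i, Finset (Om i) → G}

/-- **THE FRAME AT `(Q, V*)`.** -/
theorem frLM_top (B : RB S) (hr : RR (S : Subgroup G) = ⊥) (hB : Bks S N E ⊥ Om phi)
    (irr : ∀ U : Subgroup G, U ≤ Wd (S : Subgroup G) → MZ (S : Subgroup G) ≤ normalizer (U : Set G) → U ≠ ⊥ →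
      Wd (S : Subgroup G) ≤ U) (hl : Lev (S : Subgroup G) (QT (S : Subgroup G)))
    (hz : zc (QT (S : Subgroup G)) = Wd (S : Subgroup G)) :
    ∃ (ι : Type) (_ : Finite ι) (L W Z C A : ι → Subgroup G), Nonempty ι ∧
      (∑ i, Fintype.card (Om i)) ≤ 2 * Nat.card ι + Fintype.card I ∧ (∀ i, L i ≤ MZ (S : Subgroup G)) ∧
      FrL (BK (S : Subgroup G) (QT (S : Subgroup G))) (QT (S : Subgroup G)) (Wd (S : Subgroup G)) (Wd (S : Subgroup G))
        (ZK (S : Subgroup G) (QT (S : Subgroup G))) L W Z C A 2 ∧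
      ∀ i j, ∃ g ∈ MZ (S : Subgroup G), g ∈ normalizer (BK (S : Subgroup G) (QT (S : Subgroup G)) : Set G) ∧
        cj g (W i) = W j := by
  have h1 : IsElementaryAbelian 2 (Wd (S : Subgroup G)) := by
    have h2 : IsElementaryAbelian 2 (zc (QT (S : Subgroup G))) := ZN.isElementaryAbelian_zc _
    rwa [hz] at h2
  obtain ⟨ι, i1, L, W, Z, C, A, h2, h3, h4, h5, h6⟩ := exists_frX B hB irr (X := Wd (S : Subgroup G)) h1 le_rfl
    le_norm_Wd (Or.inl hz.le) (nxtX_Wd B hr)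
  have h7 : nxtX (S : Subgroup G) (Wd (S : Subgroup G)) = nxt (S : Subgroup G) (QT (S : Subgroup G)) := by
    rw [← nxtX_zc, hz]
  rw [h7, ← zk_eq hl hz, ← bk_eq hl hz] at h5
  rw [h7, ← bk_eq hl hz] at h6
  exact ⟨ι, i1, L, W, Z, C, A, h2, h3, h4, h5, h6⟩

end frame

section noff

variable {Q : Subgroup G}

/-- `Q ≤ O₂(P)` for all `P ∈ P*(S)`, if `V* ≤ Ω₁Z(Q)` -/
theorem hall (hQ : Q ≤ (S : Subgroup G)) (hX : Wd (S : Subgroup G) ≤ zc Q) :
    ∀ P : Subgroup G, IsParS (S : Subgroup G) P → Q ≤ o2 P := by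
  intro P hP
  refine le_trans ?_ (OM.BlkGen.inf_cent (T := (S : Subgroup G)) (H := P)
    ⟨hP.le, S.isPGroup', fun Q _ hQ hle => S.is_maximal' hQ hle⟩ hP.toIsMinPar
    fun hc => hP.not_zc (hc.trans (centralizer_le_normalizer _)))
  refine le_inf hQ ?_
  rw [← le_centralizer_iff]
  intro v hv
  rw [mem_centralizer_iff]
  intro a ha
  exact (mem_zc.1 (hX (zl_le_Wd hP hv))).2.2 a ha

theorem hblk (R : RB S) (wl : WL S Q) (hX : Wd (S : Subgroup G) ≤ zc Q) :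
    ∀ Y : Subgroup G, IsParS (S : Subgroup G) Y → ¬ nxt (S : Subgroup G) Q ≤ o2 Y →
      ∃ L' V' Z' : Subgroup G, ∃ q' : ℕ, FB (BK (S : Subgroup G) Q) L' V' Z' q' ∧
        (∀ U : Subgroup G, U ≤ V' → L' ≤ normalizer (U : Set G) → U ≤ centralizer (L' : Set G) ∨ V' ≤ U) ∧
        L' ≤ Y ∧ Y ≤ (S : Subgroup G) ⊔ L' := by
  intro Y hY hn
  obtain ⟨L', V', h1, ⟨⟨Z', q', h2⟩, h3⟩, h4⟩ := wl.exists_fblk (T := (S : Subgroup G)) (H := Y)
    ⟨hY.le, S.isPGroup', fun Q _ hQ hle => S.is_maximal' hQ hle⟩ wl.lb.BS hY.toIsMinPar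
    (hY.isLoc.char2 S R.ctx.char2) (hall wl.lev.le hX Y hY) hn
    fun hc => hY.not_zc (hc.trans (centralizer_le_normalizer _))
  exact ⟨L', V', Z', q', h2, h3.irr, h1, h4⟩

variable {ι : Type} [Finite ι] {X : Subgroup G} {L W Z C A : ι → Subgroup G}

theorem of_frL (R : RB S) (wl : WL S Q)
    (fr : FrL (BK (S : Subgroup G) Q) Q (Wd (S : Subgroup G)) X (ZK (S : Subgroup G) Q) L W Z C A 2)
    (hL : ∀ i, L i ≤ MZ (S : Subgroup G)) :
    Fx S (nxt (S : Subgroup G) Q) (BK (S : Subgroup G) Q) (Wd (S : Subgroup G)) (ZK (S : Subgroup G) Q)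
      (MZ (S : Subgroup G)) L W Z C where
  SM := S_le_MZ R.ctx R.full
  MV := le_norm_Wd
  LM := hL
  lb := wl.lb
  wc := wl.wcB
  zcB := fr.zcB
  zcS := wl.lev.next.zc_le
  Vc := wcomm R
  blk := fr.blk
  cardZ := fr.cardZ
  ZJV := fr.ZJV
  Z_le := fr.Z_le
  WV := fr.WV
  CV := fr.CV
  dir := fr.dir
  C0 := fr.C0
  WjC := fr.WjC
  split := fun i z hz => fr.split_ZJ i hz
  LC := fr.LC
  uni := fun L' V' Z' q' hFB hle => by
    obtain ⟨hq, i, hc, hle'⟩ := fr.uni hFB.toMd (hle.trans fr.VX)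
    subst hq
    obtain ⟨hZ, hN⟩ := OM.Lev.UniPlus.nb_of fr hFB hc
    exact ⟨i, hZ, hN, hle'⟩

/-- **`V* = ⟨V_P : P ∈ P*(S)⟩`** -/
theorem wd_eq (R : RB S) (wl : WL S Q) (hX : Wd (S : Subgroup G) ≤ zc Q)
    (fr : FrL (BK (S : Subgroup G) Q) Q (Wd (S : Subgroup G)) X (ZK (S : Subgroup G) Q) L W Z C A 2)
    (hL : ∀ i, L i ≤ MZ (S : Subgroup G)) :
    Wd (S : Subgroup G) = ⨆ P ∈ {P : Subgroup G | IsParS (S : Subgroup G) P}, zl (S : Subgroup G) P :=
  RRed.BFr.VSup.wd_eq fr.V_eq.le fun i => (of_frL R wl fr hL).exists_Y (isLoc_MZ R.ctx R.full R.data.noff)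
    (fun Y hY _ hK => hblk R wl hX Y hY hK) i

/-- `V* ≤ O₂(C_G(Z))` -/
theorem low (R : RB S) (wl : WL S Q) (hX : Wd (S : Subgroup G) ≤ zc Q)
    (fr : FrL (BK (S : Subgroup G) Q) Q (Wd (S : Subgroup G)) X (ZK (S : Subgroup G) Q) L W Z C A 2)
    (hL : ∀ i, L i ≤ MZ (S : Subgroup G)) : Wd (S : Subgroup G) ≤ o2 (centralizer (zc (S : Subgroup G) : Set G)) :=
  RRed.BFr.Noff.low (PP := {P : Subgroup G | IsParS (S : Subgroup G) P}) R.data.toLow (fun _ hP => hP)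
    (wd_eq R wl hX fr hL)

/-- **`V*` commutes with `V*^f` if `V*^f ≤ T`, `V* ≤ T^f`.** -/
theorem noff (R : RB S) (wl : WL S Q) (hX : zc Q = Wd (S : Subgroup G))
    (fr : FrL (BK (S : Subgroup G) Q) Q (Wd (S : Subgroup G)) X (ZK (S : Subgroup G) Q) L W Z C A 2)
    (hL : ∀ i, L i ≤ MZ (S : Subgroup G)) :
    ∀ T : Subgroup G, IsPGroup 2 T → BK (S : Subgroup G) Q ≤ T → ∀ f : G, cj f (Wd (S : Subgroup G)) ≤ T →
      Wd (S : Subgroup G) ≤ cj f T → ∀ x ∈ Wd (S : Subgroup G), ∀ y ∈ Wd (S : Subgroup G),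
        x * (f * y * f⁻¹) = f * y * f⁻¹ * x := by
  intro T hT hB f h1 h2 x hx y hy
  have hN : normalizer (BK (S : Subgroup G) Q : Set G) ≤ normalizer (Wd (S : Subgroup G) : Set G) := by
    rw [← hX]
    exact wl.norm_B.trans (NO3S.Level.normalizer_le_zc _)
  have h3 := RRed.BFr.Noff.comm_T (PP := {P : Subgroup G | IsParS (S : Subgroup G) P}) R.data.toLow (fun _ hP => hP)
    (wd_eq R wl hX.ge fr hL) wl.wcB wl.lb.BS hN hT hB h1 h2 hx
  exact (mem_centralizer_iff.1 h3 _ ⟨y, hy, rfl⟩).symm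

end noff

end Cfsg.Agent.Omega.NOThreeL.QWR.FrTop

end

section


/-!
# NO-3L, box R, one class, the level `(Q, V*)`: the local group `M`

`Q = C_S(V*)`, `J = nxtX S V*`, `Z_J = C_{V*}(J)`, `B = C_S(Z_J)` (`BFr.ZJ`, `BFr.BB` at `X = V*`).

* `TopM S E M` : `M ≥ S` local, `C_G(Z_J), E b, MZ S, N_G(B) ≤ M`, and `⟨V*^F⟩ ≤ O₂(M)` for all `F ≤ C_G(Z)`.
-/

set_option autoImplicit false

namespace Cfsg.Agent.Omega.NOThreeL.QWR

open Subgroup Cfsg Cfsg.Agent.Omega.MinPar Cfsg.Agent.Omega.Frame Cfsg.Agent.Omega.FrameNOFF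
open Cfsg.Agent.ZN (o2 zc zl jj)
open Cfsg.Agent.Omega.NOThreeL.Merge (MZ)
open Cfsg.Agent.Omega.NOThreeL.RRed (Wd)
open Cfsg.Agent.Omega.NOThreeL.RRed.FourTree (nxtX)

universe u

variable {G : Type u} [Group G]

/-- `Z_J = C_{V*}(J)` -/
abbrev ZV (S : Subgroup G) : Subgroup G := RRed.BFr.ZJ (Wd S) (nxtX S (Wd S))

/-- `B = C_S(Z_J)` -/
abbrev BV (S : Subgroup G) : Subgroup G := RRed.BFr.BB S (Wd S) (nxtX S (Wd S))

/-- The local group at the level `(Q, V*)`. -/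
structure TopM [Finite G] (S : Sylow 2 G) {I : Type u} (E : I → Subgroup G) (M : Subgroup G) : Prop where
  loc : IsLoc (S : Subgroup G) M
  cz : centralizer (ZV (S : Subgroup G) : Set G) ≤ M
  E : ∀ b, E b ≤ M
  Y : MZ (S : Subgroup G) ≤ M
  nb : normalizer (BV (S : Subgroup G) : Set G) ≤ M
  U : ∀ F : Subgroup G, F ≤ CZ (S : Subgroup G) → NoFF.Basic.V (Wd (S : Subgroup G)) F ≤ o2 M

end Cfsg.Agent.Omega.NOThreeL.QWR

end

section


/-!
# Box R, not (A): `V* ≤ O₂(C_G(z))` for ONE `1 ≠ z ∈ Z`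

* `isLong_cent` : `C_G(z)` is long; `WP_le_z` : all lines on `Z` lie in `O₂(C_G(z))`;
* **`lowz_of`** : `V* ≤ O₂(C_G(z))` if `V* = ⟨V_P⟩`; **`lowz`** : over the frame at `(Q, V*)` (`FrTop.wd_eq`).
-/

set_option autoImplicit false
set_option linter.unusedSectionVars false

namespace Cfsg.Agent.Omega.NOThreeL.QWR.LowZ

open Subgroup Cfsg Cfsg.Agent.Omega.MinPar Cfsg.Agent.Omega.Frame Cfsg.Agent.Omega.FrameNOFF
open Cfsg.Agent.ZN (o2 zc zl)
open Cfsg.Agent.Omega.Node.NO3L Cfsg.Agent.Omega.NOThreeL.Basic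
open Cfsg.Agent.Omega.NOThreeL.RTree (RB)
open Cfsg.Agent.Omega.NOThreeL.Merge (MZ)
open Cfsg.Agent.Omega.NOThreeL.RRed (Wd)
open Cfsg.Agent.Omega.OM.SwapK (ZK BK WL)
open Cfsg.Agent.Omega.OM.Lev.Uni (FrL)

universe u

variable {G : Type u} [Group G] [Finite G] {S : Sylow 2 G}

/-- `C_G(z)` is long for `1 ≠ z ∈ Z`. -/
theorem isLong_cent {z : G} (hz : z ∈ zc (S : Subgroup G)) (hz1 : z ≠ 1) :
    IsLong (S : Subgroup G) (centralizer ({z} : Set G)) :=
  ⟨RZ.LowR.isLoc_cent hz hz1, centralizer_le (Set.singleton_subset_iff.2 hz)⟩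

theorem WP_le_z (B : RB S) {z : G} (hz : z ∈ zc (S : Subgroup G)) (hz1 : z ≠ 1) :
    WP (S : Subgroup G) ≤ o2 (centralizer ({z} : Set G)) :=
  (WP_le_FH _ _).trans (NotA.FH_le_o2 B.data B.notA (isLong_cent hz hz1))

/-- `V* ≤ O₂(C_G(z))` if `V* = ⟨V_P : P ∈ PP⟩`, `PP ⊆ P*(S)`. -/
theorem lowz_of (B : RB S) {PP : Set (Subgroup G)} (hPP : ∀ P ∈ PP, IsParS (S : Subgroup G) P)
    (hV : Wd (S : Subgroup G) = ⨆ P ∈ PP, zl (S : Subgroup G) P) :
    ∀ z ∈ zc (S : Subgroup G), z ≠ 1 → Wd (S : Subgroup G) ≤ o2 (centralizer ({z} : Set G)) := by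
  intro z hz hz1
  rw [hV]
  exact iSup₂_le fun P hP => (zl_le_WP (hPP P hP)).trans (WP_le_z B hz hz1)

variable {Q : Subgroup G} {ι : Type} [Finite ι] {X : Subgroup G} {L W Z C A : ι → Subgroup G}

/-- **`V* ≤ O₂(C_G(z))` for all `1 ≠ z ∈ Z`**, over the frame at `(Q, V*)`. -/
theorem lowz (R : RB S) (wl : WL S Q) (hX : Wd (S : Subgroup G) ≤ zc Q)
    (fr : FrL (BK (S : Subgroup G) Q) Q (Wd (S : Subgroup G)) X (ZK (S : Subgroup G) Q) L W Z C A 2)
    (hL : ∀ i, L i ≤ MZ (S : Subgroup G)) :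
    ∀ z ∈ zc (S : Subgroup G), z ≠ 1 → Wd (S : Subgroup G) ≤ o2 (centralizer ({z} : Set G)) :=
  lowz_of (PP := {P : Subgroup G | IsParS (S : Subgroup G) P}) R (fun _ hP => hP) (FrTop.wd_eq R wl hX fr hL)

end Cfsg.Agent.Omega.NOThreeL.QWR.LowZ

end

end
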